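import Mathlib.RingTheory.FinitePresentation
import Mathlib.RingTheory.Polynomial.Basic
import Mathlib.RingTheory.Noetherian.Orzech
import Mathlib.Algebra.MvPolynomial.Monad
import Mathlib.RingTheory.FiniteType
import Mathlib.RingTheory.Noetherian.Basic
import Mathlib.RingTheory.Ideal.Quotient.Noetherian
import Mathlib.RingTheory.Ideal.BigOperators

open MvPolynomial

namespace H5FPEndo

/-- A surjective ring endomorphism of a Noetherian ring is injective. -/
theorem injective_of_surjective_endo {Q : Type*} [CommRing Q] [IsNoetherianRing Q]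
    (φ : Q →+* Q) (hφ : Function.Surjective φ) : Function.Injective φ := by
  let K : ℕ →o Ideal Q :=
    ⟨fun n => RingHom.ker (φ ^ n), by
      apply monotone_nat_of_le_succ
      intro n x hx
      rw [RingHom.mem_ker] at hx ⊢
      rw [pow_succ']
      change φ ((φ ^ n) x) = 0
      rw [hx, map_zero]⟩
  obtain ⟨n, hn⟩ := monotone_stabilizes_iff_noetherian.mpr (inferInstance : IsNoetherian Q Q) K
  rw [injective_iff_map_eq_zero]
  intro a ha
  have hsurj : ∀ k : ℕ, Function.Surjective (φ ^ k) := by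
    intro k
    induction k with
    | zero => exact Function.surjective_id
    | succ k ih =>
      rw [pow_succ']
      exact hφ.comp ih
  obtain ⟨b, rfl⟩ := hsurj n a
  have h1 : b ∈ K (n + 1) := by
    change b ∈ RingHom.ker (φ ^ (n + 1))
    rw [RingHom.mem_ker, pow_succ']
    exact ha
  rw [← hn (n + 1) (Nat.le_succ n)] at h1
  exact h1


theorem noethCore {R₀ : Type*} [CommRing R₀] [IsNoetherianRing R₀] {n m : ℕ}
    (F₀ : Fin m → MvPolynomial (Fin n) R₀) (g₀ h₀ : Fin n → MvPolynomial (Fin n) R₀)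
    (ha : ∀ j, bind₁ g₀ (F₀ j) ∈ Ideal.span (Set.range F₀))
    (hb : ∀ i, bind₁ g₀ (h₀ i) - X i ∈ Ideal.span (Set.range F₀))
    (p₀ : MvPolynomial (Fin n) R₀) (hp : bind₁ g₀ p₀ ∈ Ideal.span (Set.range F₀)) :
    p₀ ∈ Ideal.span (Set.range F₀) := by
  set I₀ := Ideal.span (Set.range F₀) with hI₀
  have hle : I₀ ≤ I₀.comap (bind₁ g₀).toRingHom := by
    rw [hI₀, Ideal.span_le]
    rintro _ ⟨j, rfl⟩
    exact ha j
  let α₀ : (MvPolynomial (Fin n) R₀ ⧸ I₀) →+* (MvPolynomial (Fin n) R₀ ⧸ I₀) :=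
    Ideal.Quotient.lift I₀ ((Ideal.Quotient.mk I₀).comp (bind₁ g₀).toRingHom)
      (fun a ha' => Ideal.Quotient.eq_zero_iff_mem.mpr (hle ha'))
  have hα₀ : ∀ q, α₀ (Ideal.Quotient.mk I₀ q) = Ideal.Quotient.mk I₀ (bind₁ g₀ q) := fun q => rfl
  have hsurj : Function.Surjective α₀ := by
    intro y
    obtain ⟨q, rfl⟩ := Ideal.Quotient.mk_surjective y
    refine ⟨Ideal.Quotient.mk I₀ (bind₁ h₀ q), ?_⟩
    rw [hα₀]
    have key : (Ideal.Quotient.mkₐ R₀ I₀).comp ((bind₁ g₀).comp (bind₁ h₀)) =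
        Ideal.Quotient.mkₐ R₀ I₀ := by
      refine MvPolynomial.algHom_ext fun i => ?_
      simp only [AlgHom.coe_comp, Function.comp_apply, bind₁_X_right, Ideal.Quotient.mkₐ_eq_mk]
      exact Ideal.Quotient.eq.mpr (hb i)
    exact DFunLike.congr_fun key q
  have hinj := injective_of_surjective_endo α₀ hsurj
  have h0 : α₀ (Ideal.Quotient.mk I₀ p₀) = 0 := by
    rw [hα₀]; exact Ideal.Quotient.eq_zero_iff_mem.mpr hp
  have := hinj (h0.trans (map_zero α₀).symm)
  exact Ideal.Quotient.eq_zero_iff_mem.mp this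


theorem descent {R : Type*} [CommRing R] {n m : ℕ}
    (F : Fin m → MvPolynomial (Fin n) R) (g h : Fin n → MvPolynomial (Fin n) R)
    (ha : ∀ j, bind₁ g (F j) ∈ Ideal.span (Set.range F))
    (hb : ∀ i, bind₁ g (h i) - X i ∈ Ideal.span (Set.range F))
    (p : MvPolynomial (Fin n) R) (hp : bind₁ g p ∈ Ideal.span (Set.range F)) :
    p ∈ Ideal.span (Set.range F) := by
  classical
  -- certificates
  have ha' := fun j => Ideal.mem_span_range_iff_exists_fun.mp (ha j)
  have hb' := fun i => Ideal.mem_span_range_iff_exists_fun.mp (hb i)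
  obtain ⟨c, hc⟩ := Ideal.mem_span_range_iff_exists_fun.mp hp
  choose a ha' using ha'
  choose b hb' using hb'
  -- the finite set of polynomials
  let S : Set (MvPolynomial (Fin n) R) :=
    Set.range F ∪ Set.range g ∪ Set.range h ∪ {p} ∪ Set.range (fun jk : Fin m × Fin m => a jk.1 jk.2)
      ∪ Set.range (fun ik : Fin n × Fin m => b ik.1 ik.2) ∪ Set.range c
  have hS : S.Finite := by
    refine Set.Finite.union (Set.Finite.union (Set.Finite.union (Set.Finite.union
      (Set.Finite.union (Set.Finite.union ?_ ?_) ?_) ?_) ?_) ?_) ?_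
    all_goals first | exact Set.finite_range _ | exact Set.finite_singleton _
  let C : Set R := ⋃ q ∈ S, (q.coeffs : Set R)
  have hC : C.Finite := hS.biUnion (fun q _ => Finset.finite_toSet _)
  let R₀ : Subalgebra ℤ R := Algebra.adjoin ℤ C
  haveI : Algebra.FiniteType ℤ R₀ := .adjoin_of_finite hC
  haveI : IsNoetherianRing R₀ := Algebra.FiniteType.isNoetherianRing ℤ R₀
  let ι₀ : R₀ →+* R := algebraMap R₀ R
  have hι₀ : Function.Injective ι₀ := Subtype.val_injective
  have lift : ∀ q ∈ S, ∃ q₀ : MvPolynomial (Fin n) R₀, MvPolynomial.map ι₀ q₀ = q := by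
    intro q hq
    have : q ∈ Set.range (MvPolynomial.map ι₀) := by
      rw [MvPolynomial.mem_range_map_iff_coeffs_subset]
      intro x hx
      have hxC : x ∈ C := Set.mem_biUnion hq hx
      exact ⟨⟨x, Algebra.subset_adjoin hxC⟩, rfl⟩
    exact this
  have mF : ∀ j, F j ∈ S := fun j => by simp [S]
  have mg : ∀ i, g i ∈ S := fun i => by simp [S]
  have mh : ∀ i, h i ∈ S := fun i => by simp [S]
  have mp : p ∈ S := by simp [S]
  have ma : ∀ j k, a j k ∈ S := fun j k => by
    have : a j k ∈ Set.range (fun jk : Fin m × Fin m => a jk.1 jk.2) := ⟨(j, k), rfl⟩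
    simp only [S, Set.mem_union]; tauto
  have mb : ∀ i k, b i k ∈ S := fun i k => by
    have : b i k ∈ Set.range (fun ik : Fin n × Fin m => b ik.1 ik.2) := ⟨(i, k), rfl⟩
    simp only [S, Set.mem_union]; tauto
  have mc : ∀ k, c k ∈ S := fun k => by
    have : c k ∈ Set.range c := ⟨k, rfl⟩
    simp only [S, Set.mem_union]; tauto
  choose F₀ hF₀ using fun j => lift _ (mF j)
  choose g₀ hg₀ using fun i => lift _ (mg i)
  choose h₀ hh₀ using fun i => lift _ (mh i)
  obtain ⟨p₀, hp₀⟩ := lift _ mp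
  choose a₀ ha₀ using fun j k => lift _ (ma j k)
  choose b₀ hb₀ using fun i k => lift _ (mb i k)
  choose c₀ hc₀ using fun k => lift _ (mc k)
  have minj := MvPolynomial.map_injective (σ := Fin n) ι₀ hι₀
  have hbind : ∀ q₀ : MvPolynomial (Fin n) R₀,
      MvPolynomial.map ι₀ (bind₁ g₀ q₀) = bind₁ g (MvPolynomial.map ι₀ q₀) := by
    intro q₀
    rw [MvPolynomial.map_bind₁]
    have : (fun i => (MvPolynomial.map ι₀) (g₀ i)) = g := funext hg₀
    rw [this]
  have res := noethCore F₀ g₀ h₀ (fun j => ?_) (fun i => ?_) p₀ ?_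
  · obtain ⟨c', hc'⟩ := Ideal.mem_span_range_iff_exists_fun.mp res
    rw [← hp₀, ← hc']
    rw [map_sum]
    refine Ideal.sum_mem _ fun k _ => ?_
    rw [map_mul, hF₀]
    exact Ideal.mul_mem_left _ _ (Ideal.subset_span ⟨k, rfl⟩)
  · refine Ideal.mem_span_range_iff_exists_fun.mpr ⟨a₀ j, minj ?_⟩
    rw [hbind, hF₀, ← ha' j, map_sum]
    refine Finset.sum_congr rfl fun k _ => ?_
    rw [map_mul, ha₀, hF₀]
  · refine Ideal.mem_span_range_iff_exists_fun.mpr ⟨b₀ i, minj ?_⟩
    rw [map_sub, hbind, hh₀, MvPolynomial.map_X, ← hb' i, map_sum]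
    refine Finset.sum_congr rfl fun k _ => ?_
    rw [map_mul, hb₀, hF₀]
  · refine Ideal.mem_span_range_iff_exists_fun.mpr ⟨c₀, minj ?_⟩
    rw [hbind, hp₀, ← hc, map_sum]
    refine Finset.sum_congr rfl fun k _ => ?_
    rw [map_mul, hc₀, hF₀]


theorem main {R : Type*} [CommRing R] {R' : Type*} [CommRing R'] [Algebra R R']
    [Algebra.FinitePresentation R R']
    (α : R' →ₐ[R] R') (hα : Function.Surjective α) : Function.Bijective α := by
  refine ⟨?_, hα⟩
  obtain ⟨n, π, hπ, hker⟩ := Algebra.FinitePresentation.out (R := R) (A := R')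
  obtain ⟨m, F, hF⟩ := Submodule.fg_iff_exists_fin_generating_family.mp hker
  have hF' : Ideal.span (Set.range F) = RingHom.ker π.toRingHom := hF
  choose g hg using fun i : Fin n => hπ (α (π (X i)))
  choose y hy using fun i : Fin n => hα (π (X i))
  choose h hh using fun i : Fin n => hπ (y i)
  have key : α.comp π = π.comp (bind₁ g) := by
    refine MvPolynomial.algHom_ext fun i => ?_
    simp [hg i]
  have key' : ∀ q, α (π q) = π (bind₁ g q) := fun q => DFunLike.congr_fun key q
  have mem_iff : ∀ q, q ∈ Ideal.span (Set.range F) ↔ π q = 0 := by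
    intro q; rw [hF']; exact RingHom.mem_ker
  rw [injective_iff_map_eq_zero]
  intro z hz
  obtain ⟨p, rfl⟩ := hπ z
  rw [← mem_iff]
  refine descent F g h (fun j => ?_) (fun i => ?_) p ?_
  · rw [mem_iff, ← key']
    have : π (F j) = 0 := (mem_iff _).mp (Ideal.subset_span ⟨j, rfl⟩)
    rw [this, map_zero]
  · rw [mem_iff, map_sub, ← key', hh, hy, sub_self]
  · rw [mem_iff, ← key']
    exact hz

end H5FPEndo
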