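import Mathlib.RingTheory.Ideal.KrullsHeightTheorem
import Mathlib.RingTheory.KrullDimension.NonZeroDivisors
import Mathlib.Order.KrullDimension
import Mathlib.RingTheory.Spectrum.Prime.Topology
import Groth.Agent.Lib.Helper5.Catenary

open Order Groth.Agent.H5

namespace H5CatDim

variable {α : Type*} [PartialOrder α]

/-- along a saturated chain, coheight telescopes -/
theorem coheight_head_eq (hdim : ∀ p q : α, p ⋖ q → coheight p = coheight q + 1)
    (s : LTSeries α) (hs : ∀ i : Fin s.length, s i.castSucc ⋖ s i.succ)
    (i : Fin (s.length + 1)) : coheight s.head = coheight (s i) + (i : ℕ) := by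
  induction i using Fin.induction with
  | zero => simp [RelSeries.head]
  | succ i ih =>
    rw [ih, hdim _ _ (hs i)]
    simp only [Fin.val_castSucc, Fin.val_succ, Nat.cast_add, Nat.cast_one]
    rw [add_assoc, add_comm 1]

theorem orderCatenary_of_dimFun [FiniteDimensionalOrder α]
    (hdim : ∀ p q : α, p ⋖ q → coheight p = coheight q + 1) : OrderCatenary α := by
  refine ⟨fun p q _ => ⟨(coheight p).toNat, fun s hs _ => ?_⟩, fun s t hh hl hs ht => ?_⟩
  · have h1 : (s.length : ℕ∞) ≤ coheight s.head := length_le_coheight_head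
    rw [hs] at h1
    have h2 : coheight p ≠ ⊤ := (coheight_lt_top p).ne
    rw [← ENat.natCast_toNat h2] at h1
    exact_mod_cast h1
  · have e1 := coheight_head_eq hdim s hs (Fin.last _)
    have e2 := coheight_head_eq hdim t ht (Fin.last _)
    simp only [Fin.val_last] at e1 e2
    change coheight s.head = coheight s.last + _ at e1
    change coheight t.head = coheight t.last + _ at e2
    rw [hh, hl, e2] at e1
    have h2 : coheight t.last ≠ ⊤ := (coheight_lt_top _).ne
    have := (ENat.add_right_injective_of_ne_top h2) e1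
    exact_mod_cast this.symm


theorem sat_of_max (s : LTSeries α) (h : (s.length : ℕ∞) = coheight s.head) :
    (∀ i : Fin s.length, s i.castSucc ⋖ s i.succ) ∧ IsMax s.last := by
  have key := fun i => coheight_eq_index_of_length_eq_head_coheight h i
  constructor
  · intro i
    refine ⟨s.strictMono (Fin.castSucc_lt_succ), fun x hx1 hx2 => ?_⟩
    have h1 := key i.castSucc
    have h2 := key i.succ
    have h3 : coheight (s i.succ) + 1 ≤ coheight x := coheight_add_one_le hx2
    have h4 : coheight x + 1 ≤ coheight (s i.castSucc) := coheight_add_one_le hx1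
    rw [h1] at h4
    rw [h2] at h3
    have h5 : ((i.succ.rev : ℕ) : ℕ∞) + 1 + 1 ≤ ((i.castSucc.rev : ℕ) : ℕ∞) := by
      calc ((i.succ.rev : ℕ) : ℕ∞) + 1 + 1 ≤ coheight x + 1 := by gcongr
        _ ≤ _ := h4
    have h6 : (i.succ.rev : ℕ) + 1 + 1 ≤ (i.castSucc.rev : ℕ) := by exact_mod_cast h5
    simp only [Fin.rev_succ, Fin.val_castSucc, Fin.val_rev, Fin.val_succ] at h6
    omega
  · have := key (Fin.last _)
    rw [Fin.rev_last] at this
    refine coheight_eq_zero.mp ?_
    change coheight (s (Fin.last _)) = 0
    simpa using this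

theorem dimFun_of_orderCatenary [FiniteDimensionalOrder α] [OrderTop α] (h : OrderCatenary α)
    (p q : α) (hpq : p ⋖ q) : coheight p = coheight q + 1 := by
  have hp : coheight p ≠ ⊤ := (coheight_lt_top p).ne
  have hq : coheight q ≠ ⊤ := (coheight_lt_top q).ne
  obtain ⟨s, hs1, hs2⟩ := exists_series_of_coheight_eq_coe p (ENat.natCast_toNat hp).symm
  obtain ⟨t, ht1, ht2⟩ := exists_series_of_coheight_eq_coe q (ENat.natCast_toNat hq).symm
  have hs3 := sat_of_max s (by rw [hs1, hs2, ENat.natCast_toNat hp])
  have ht3 := sat_of_max t (by rw [ht1, ht2, ENat.natCast_toNat hq])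
  have hslast : s.last = ⊤ := hs3.2.eq_top
  have htlast : t.last = ⊤ := ht3.2.eq_top
  let t' : LTSeries α := t.cons p (by rw [ht1]; exact hpq.lt)
  have ht'len : t'.length = t.length + 1 := by simp [t']
  have hsat : ∀ i : Fin t'.length, t' i.castSucc ⋖ t' i.succ := by
    intro i
    obtain ⟨j, rfl⟩ : ∃ j : Fin (t.length + 1), i = Fin.cast ht'len.symm j := ⟨Fin.cast ht'len i, by simp⟩
    induction j using Fin.cases with
    | zero =>
      have e1 : t' (Fin.cast ht'len.symm 0).castSucc = p := by
        change t' 0 = p
        exact RelSeries.head_cons _ _ _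
      have e2 : t' (Fin.cast ht'len.symm 0).succ = q := by
        have := RelSeries.cons_cast_succ t p (by rw [ht1]; exact hpq.lt) 0
        rw [← ht1]
        convert this using 2
        all_goals first | rfl | (apply Fin.ext; simp)
      rw [e1, e2]; exact hpq
    | succ j =>
      have e1 : t' (Fin.cast ht'len.symm j.succ).castSucc = t j.castSucc := by
        have := RelSeries.cons_cast_succ t p (by rw [ht1]; exact hpq.lt) j.castSucc
        convert this using 2
        all_goals first | rfl | (apply Fin.ext; simp)
      have e2 : t' (Fin.cast ht'len.symm j.succ).succ = t j.succ := by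
        have := RelSeries.cons_cast_succ t p (by rw [ht1]; exact hpq.lt) j.succ
        convert this using 2
        all_goals first | rfl | (apply Fin.ext; simp)
      rw [e1, e2]; exact ht3.1 j
  have := h.2 s t' (by rw [hs1]; exact (RelSeries.head_cons _ _ _).symm)
    (by rw [hslast, RelSeries.last_cons, htlast]) hs3.1 hsat
  rw [ht'len, hs2, ht2] at this
  rw [← ENat.natCast_toNat hp, ← ENat.natCast_toNat hq, this]
  push_cast
  rfl


section ring

universe u
variable (A : Type u) [CommRing A]

theorem ringKrullDim_quotient_eq_coheight (p : PrimeSpectrum A) :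
    ringKrullDim (A ⧸ p.asIdeal) = (coheight p : WithBot ℕ∞) := by
  rw [ringKrullDim_quotient, coheight_eq_krullDim_Ici]
  congr 1

theorem main [IsNoetherianRing A] [IsLocalRing A] :
    CAlg.IsCatenary A ↔
      ∀ p q : PrimeSpectrum A, p < q →
        ringKrullDim (A ⧸ q.asIdeal) < ringKrullDim (A ⧸ p.asIdeal) ∧
          (p ⋖ q → ringKrullDim (A ⧸ p.asIdeal) = ringKrullDim (A ⧸ q.asIdeal) + 1) := by
  rw [isCatenary_iff_orderCatenary]
  simp only [ringKrullDim_quotient_eq_coheight]
  constructor
  · intro h p q hpq
    refine ⟨?_, fun hc => ?_⟩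
    · exact_mod_cast coheight_strictAnti hpq (coheight_lt_top q)
    · rw [dimFun_of_orderCatenary h p q hc]
      rfl
  · intro h
    refine orderCatenary_of_dimFun fun p q hc => ?_
    have := (h p q hc.lt).2 hc
    exact_mod_cast this

end ring

end H5CatDim
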