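import Mathlib

open PowerSeries

namespace H5PSInv

universe u

variable {k : Type u} [Field k]

theorem algHom_coe_poly (θ₁ θ₂ : k⟦X⟧ →ₐ[k] k⟦X⟧) (h : θ₁ X = θ₂ X) (P : Polynomial k) :
    θ₁ (P : k⟦X⟧) = θ₂ (P : k⟦X⟧) := by
  induction P using Polynomial.induction_on' with
  | add p q hp hq => rw [Polynomial.coe_add, map_add, map_add, hp, hq]
  | monomial n a =>
    rw [Polynomial.coe_monomial, monomial_eq_C_mul_X_pow, map_mul, map_mul, map_pow, map_pow, h,
      C_eq_algebraMap, AlgHom.commutes, AlgHom.commutes]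

/-- two algebra endomorphisms of `k⟦X⟧` agreeing on `X` (with value of zero constant term)
agree. -/
theorem algHom_ext_X (θ₁ θ₂ : k⟦X⟧ →ₐ[k] k⟦X⟧) (h : θ₁ X = θ₂ X)
    (h0 : constantCoeff (θ₁ X) = 0) : θ₁ = θ₂ := by
  ext f m
  have hf := eq_X_pow_mul_shift_add_trunc (m + 1) f
  set g : k⟦X⟧ := (mk fun i ↦ coeff (i + (m + 1)) f) with hg
  have hpoly := algHom_coe_poly θ₁ θ₂ h (f.trunc (m + 1))
  obtain ⟨s', hs'⟩ := X_dvd_iff.mpr h0
  have e1 : θ₁ f = θ₁ X ^ (m + 1) * θ₁ g + θ₁ ↑(trunc (m + 1) f) := by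
    have := congrArg θ₁ hf
    rwa [map_add, map_mul, map_pow] at this
  have e2 : θ₂ f = θ₂ X ^ (m + 1) * θ₂ g + θ₂ ↑(trunc (m + 1) f) := by
    have := congrArg θ₂ hf
    rwa [map_add, map_mul, map_pow] at this
  rw [e1, e2, hpoly, map_add, map_add]
  congr 1
  rw [← h, hs', mul_pow, mul_assoc, mul_assoc, coeff_X_pow_mul', coeff_X_pow_mul',
    if_neg (by omega), if_neg (by omega)]

theorem constantCoeff_subst_of_zero {f g : k⟦X⟧} (hg : constantCoeff g = 0) :
    constantCoeff (f.subst g) = constantCoeff f := by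
  have h1 : f = C (constantCoeff f) + (f - C (constantCoeff f)) := by ring
  have h2 : constantCoeff ((f - C (constantCoeff f)).subst g) = 0 :=
    constantCoeff_subst_eq_zero hg _ (by simp)
  have hs : HasSubst g := HasSubst.of_constantCoeff_zero' hg
  conv_lhs => rw [h1]
  rw [subst_add hs, map_add, h2, add_zero]
  have h3 : (C (constantCoeff f) : k⟦X⟧).subst g = C (constantCoeff f) :=
    subst_C (a := g) (constantCoeff f)
  rw [h3]
  simp

theorem main (h2 : (2 : k) ≠ 0)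
    (σ : PowerSeries k ≃ₐ[k] PowerSeries k) (hσ : ∀ f, σ (σ f) = f) :
    (PowerSeries.coeff 1 (σ PowerSeries.X)) ^ 2 = 1 ∧
    ∃ φ : PowerSeries k ≃ₐ[k] PowerSeries k,
      φ PowerSeries.X = PowerSeries.C (2⁻¹ : k) *
        (PowerSeries.X + PowerSeries.C (PowerSeries.coeff 1 (σ PowerSeries.X)) * σ PowerSeries.X) ∧
      ∀ f, φ.symm (σ (φ f)) = PowerSeries.rescale (PowerSeries.coeff 1 (σ PowerSeries.X)) f := by
  set s : k⟦X⟧ := σ X with hs
  set ξ : k := coeff 1 s with hξ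
  -- `s` has no constant term
  have hs0 : constantCoeff s = 0 := by
    by_contra hne
    have hu : IsUnit s := isUnit_iff_constantCoeff.mpr (isUnit_iff_ne_zero.mpr hne)
    have hX : IsUnit (X : k⟦X⟧) := by
      have := hu.map σ.symm
      rwa [hs, AlgEquiv.symm_apply_apply] at this
    have := isUnit_iff_constantCoeff.mp hX
    simp at this
  have hsS : HasSubst s := HasSubst.of_constantCoeff_zero' hs0
  -- `σ` is substitution by `s`
  have hσs : (σ : k⟦X⟧ →ₐ[k] k⟦X⟧) = substAlgHom hsS := by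
    apply algHom_ext_X
    · rw [substAlgHom_X]; rfl
    · exact hs0
  have hσf : ∀ f, σ f = f.subst s := by
    intro f
    have := DFunLike.congr_fun hσs f
    rw [coe_substAlgHom] at this
    exact this
  -- ξ² = 1
  obtain ⟨s₁, hs₁⟩ := X_dvd_iff.mpr hs0
  have hξ1 : constantCoeff s₁ = ξ := by
    rw [hξ, hs₁, coeff_succ_X_mul, coeff_zero_eq_constantCoeff_apply]
  have hξ2 : ξ ^ 2 = 1 := by
    have h1 : subst s s = X := by
      have := hσf s
      rw [← this, hs, hσ]
    have h2 : subst s (X * s₁) = X * (s₁ * subst s s₁) := by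
      calc subst s (X * s₁) = subst s X * subst s s₁ := subst_mul hsS _ _
        _ = s * subst s s₁ := by rw [subst_X hsS]
        _ = (X * s₁) * subst s s₁ := by rw [← hs₁]
        _ = X * (s₁ * subst s s₁) := mul_assoc _ _ _
    have h3 : subst s s = subst s (X * s₁) := congrArg (subst s) hs₁
    have h4 : (X : k⟦X⟧) * (s₁ * subst s s₁) = X * 1 := by
      rw [← h2, ← h3, h1, mul_one]
    have h5 := mul_left_cancel₀ (X_ne_zero (R := k)) h4
    have h6 := congrArg constantCoeff h5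
    rw [map_mul, constantCoeff_subst_of_zero hs0, hξ1, map_one] at h6
    rw [pow_two]; exact h6
  refine ⟨hξ2, ?_⟩
  set p : k⟦X⟧ := C (2⁻¹ : k) * (X + C ξ * s) with hp
  have hp0 : constantCoeff p = 0 := by simp [hp, hs0]
  have hp1 : coeff 1 p = 1 := by
    rw [hp, coeff_C_mul, map_add, coeff_one_X, coeff_C_mul, ← hξ, ← pow_two, hξ2]
    field_simp
    norm_num
  have hpu : IsUnit (coeff 1 p) := by rw [hp1]; exact isUnit_one
  set pinv := p.substInvOfIsUnit hpu with hpinv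
  have hpS : HasSubst p := .of_constantCoeff_zero' hp0
  have hqS : HasSubst pinv := HasSubst.substInvOfIsUnit p hpu
  have hr : p.subst pinv = X := subst_substInvOfIsUnit_right p hp0 hpu
  have hl : pinv.subst p = X := subst_substInvOfIsUnit_left p hp0 hpu
  have h₁ : (substAlgHom hpS).comp (substAlgHom hqS) = AlgHom.id k k⟦X⟧ := by
    apply algHom_ext_X
    · rw [AlgHom.comp_apply, substAlgHom_X, coe_substAlgHom, hl]; rfl
    · rw [AlgHom.comp_apply, substAlgHom_X, coe_substAlgHom, hl]; simp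
  have h₂ : (substAlgHom hqS).comp (substAlgHom hpS) = AlgHom.id k k⟦X⟧ := by
    apply algHom_ext_X
    · rw [AlgHom.comp_apply, substAlgHom_X, coe_substAlgHom, hr]; rfl
    · rw [AlgHom.comp_apply, substAlgHom_X, coe_substAlgHom, hr]; simp
  let φ : k⟦X⟧ ≃ₐ[k] k⟦X⟧ := AlgEquiv.ofAlgHom (substAlgHom hpS) (substAlgHom hqS) h₁ h₂
  have hφX : φ X = p := substAlgHom_X hpS
  refine ⟨φ, hφX, fun f => ?_⟩
  rw [AlgEquiv.symm_apply_eq]
  have hσC : ∀ a : k, σ (C a) = C a := fun a => by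
    rw [C_eq_algebraMap, AlgEquiv.commutes]
  have hφC : ∀ a : k, φ (C a) = C a := fun a => by
    rw [C_eq_algebraMap, AlgEquiv.commutes]
  have hre : ∀ g : k⟦X⟧, rescaleAlgHom ξ g = rescale ξ g := fun g => by
    rw [← coe_rescaleAlgHom]; rfl
  have key : (σ : k⟦X⟧ →ₐ[k] k⟦X⟧).comp (φ : k⟦X⟧ →ₐ[k] k⟦X⟧) =
      (φ : k⟦X⟧ →ₐ[k] k⟦X⟧).comp (rescaleAlgHom ξ) := by
    apply algHom_ext_X
    · change σ (φ X) = φ (rescaleAlgHom ξ X)
      rw [hre, rescale_X, map_mul, hφC, hφX, hp, map_mul, map_add, map_mul, hσC,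
        hσC, ← hs, hσ]
      have : (C ξ : k⟦X⟧) * C ξ = 1 := by rw [← map_mul, ← pow_two, hξ2, map_one]
      linear_combination (-(C (2⁻¹ : k) * s)) * this
    · change constantCoeff (σ (φ X)) = 0
      rw [hφX, hσf, constantCoeff_subst_of_zero hs0, hp0]
  have := DFunLike.congr_fun key f
  change σ (φ f) = φ (rescaleAlgHom ξ f) at this
  rw [this, hre]

end H5PSInv
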