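import Mathlib.Algebra.Module.FinitePresentation
import Mathlib.Algebra.Module.Torsion.Basic
import Mathlib.LinearAlgebra.TensorProduct.Finiteness
import Mathlib.LinearAlgebra.TensorProduct.RightExactness
import Mathlib.RingTheory.Flat.Basic
import Mathlib.RingTheory.Ideal.AssociatedPrime.Basic
import Mathlib.RingTheory.Ideal.AssociatedPrime.Finiteness
import Mathlib.RingTheory.Ideal.AssociatedPrime.Localization
import Mathlib.RingTheory.Regular.IsSMulRegular
import Mathlib.RingTheory.Noetherian.Basic
import Mathlib.RingTheory.Ideal.Quotient.Noetherian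

set_option autoImplicit false
open TensorProduct

namespace H5AssFlat

variable {A B M : Type*} [CommRing A] [CommRing B] [Algebra A B]
  [AddCommGroup M] [Module A M]

/-- A finitely generated `S`-torsion submodule is killed by a single element of `S`. -/
theorem exists_smul_torsion' (S : Submonoid A) [IsNoetherian A M] :
    ∃ s ∈ S, ∀ m ∈ Submodule.torsion' A M S, s • m = 0 := by
  classical
  obtain ⟨G, hG⟩ := (IsNoetherian.noetherian (Submodule.torsion' A M S) : Submodule.FG _)
  have hmem : ∀ g ∈ G, ∃ a : S, a • g = 0 := fun g hg => by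
    have : g ∈ Submodule.torsion' A M S := hG ▸ Submodule.subset_span hg
    exact this
  choose! f hf using hmem
  refine ⟨∏ g ∈ G, (f g : A), Submonoid.prod_mem _ (fun g _ => (f g).2), ?_⟩
  intro m hm
  rw [← hG] at hm
  induction hm using Submodule.span_induction with
  | mem g hg =>
    obtain ⟨c, hc⟩ := Finset.dvd_prod_of_mem (fun g => (f g : A)) hg
    rw [hc, mul_comm, mul_smul]
    have := hf g hg
    rw [Submonoid.smul_def] at this
    rw [this, smul_zero]
  | zero => simp
  | add y z _ _ hy hz => rw [smul_add, hy, hz, add_zero]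
  | smul c y _ hy => rw [smul_comm, hy, smul_zero]

/-- Flat base change of associated primes, finitely generated case. -/
theorem comap_mem_ass_of_flat_fg [Module.Flat A B] [IsNoetherianRing A] [Module.Finite A M]
    (q : Ideal B) [hq : q.IsPrime] (n : B ⊗[A] M)
    (hn : ∀ b : B, b ∈ q ↔ b • n = 0) :
    q.comap (algebraMap A B) ∈ associatedPrimes A M := by
  classical
  set p := q.comap (algebraMap A B) with hp
  have hpp : p.IsPrime := Ideal.comap_isPrime _ _
  let S := p.primeCompl
  let M' := Submodule.torsion' A M S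
  obtain ⟨s, hsS, hs⟩ := exists_smul_torsion' (M := M) S
  have hsp : s ∉ p := hsS
  let π := M'.mkQ
  have hπ : ∀ m : M, π m = 0 ↔ ∃ t : S, t • m = 0 := fun m => by
    rw [Submodule.mkQ_apply, Submodule.Quotient.mk_eq_zero]; rfl
  -- associated primes of the quotient
  have hAss : ∀ P ∈ associatedPrimes A (M ⧸ M'), P ≤ p ∧ P ∈ associatedPrimes A M := by
    intro P hP
    obtain ⟨hPp, y, hy⟩ := isAssociatedPrime_iff.mp hP
    obtain ⟨m, rfl⟩ := M'.mkQ_surjective y
    have hmemP : ∀ a : A, a ∈ P ↔ ∃ t : S, t • a • m = 0 := fun a => by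
      rw [hy, Submodule.mem_colon_singleton, Submodule.mem_bot, ← hπ, map_smul]
    have hPle : P ≤ p := by
      intro a ha
      by_contra hap
      obtain ⟨t, ht⟩ := (hmemP a).mp ha
      have h1 : (1 : A) ∈ P := by
        rw [hmemP]
        refine ⟨t * ⟨a, hap⟩, ?_⟩
        rw [one_smul, Submonoid.smul_def, Submonoid.coe_mul, mul_smul]
        exact ht
      exact hPp.ne_top ((Ideal.eq_top_iff_one _).mpr h1)
    refine ⟨hPle, ?_⟩
    rw [associatedPrimes, Set.mem_ofPred_eq, isAssociatedPrime_iff]
    refine ⟨hPp, s • m, ?_⟩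
    ext a
    rw [Submodule.mem_colon_singleton, Submodule.mem_bot]
    constructor
    · intro ha
      obtain ⟨t, ht⟩ := (hmemP a).mp ha
      rw [smul_comm]
      exact hs _ ⟨t, ht⟩
    · intro ha
      have : a * s ∈ P := by
        rw [hmemP]
        exact ⟨1, by rw [one_smul, mul_smul]; exact ha⟩
      rcases hPp.mem_or_mem this with h | h
      · exact h
      · exact absurd (hPle h) hsp
  by_contra hcon
  have hcon' : p ∉ associatedPrimes A (M ⧸ M') := fun h => by
    obtain ⟨P, hP1⟩ : ∃ P, P = p := ⟨p, rfl⟩
    exact hcon (hAss p h).2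
  -- prime avoidance
  have hfin : (associatedPrimes A (M ⧸ M')).Finite := associatedPrimes.finite A _
  obtain ⟨x, hxp, hx⟩ : ∃ x ∈ p, IsSMulRegular (M ⧸ M') x := by
    by_contra hno
    push Not at hno
    have hsub : (p : Set A) ⊆ ⋃ P ∈ (hfin.toFinset : Set (Ideal A)), (id P : Ideal A) := by
      intro x hx
      have := hno x hx
      have h2 : x ∈ ({ r : A | IsSMulRegular (M ⧸ M') r }ᶜ : Set A) := this
      rw [← biUnion_associatedPrimes_eq_compl_regular] at h2
      simp only [Set.mem_iUnion, exists_prop] at h2 ⊢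
      obtain ⟨P, hP, hxP⟩ := h2
      exact ⟨P, by simpa using hP, hxP⟩
    rw [Ideal.subset_union_prime p p] at hsub
    · obtain ⟨P, hP, hle⟩ := hsub
      have hP' : P ∈ associatedPrimes A (M ⧸ M') := by simpa using hP
      have := le_antisymm hle (hAss P hP').1
      exact hcon' (this ▸ hP')
    · intro P hP _ _
      have hP' : P ∈ associatedPrimes A (M ⧸ M') := by simpa using hP
      exact hP'.isPrime
  have hreg : IsSMulRegular (B ⊗[A] (M ⧸ M')) (algebraMap A B x) :=
    hx.of_flat_of_isBaseChange (TensorProduct.isBaseChange A (M ⧸ M') B)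
  -- the image of n
  set nbar := (LinearMap.baseChange B π) n with hnbar
  have hann : ∀ b : B, b • nbar = 0 → b ∈ q := by
    intro b hb
    rw [hnbar, ← map_smul] at hb
    have hex : Function.Exact (LinearMap.lTensor B M'.subtype) (LinearMap.lTensor B π) :=
      lTensor_exact B (LinearMap.exact_subtype_mkQ M') (Submodule.mkQ_surjective M')
    have hb' : (LinearMap.lTensor B π) (b • n) = 0 := hb
    have hsz : ∀ z : B ⊗[A] M', s • z = 0 := by
      intro z
      induction z using TensorProduct.induction_on with
      | zero => simp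
      | tmul c m' =>
        rw [TensorProduct.smul_tmul', TensorProduct.smul_tmul]
        have : s • m' = 0 := Subtype.ext (hs m'.1 m'.2)
        rw [this, tmul_zero]
      | add z w hz hw => rw [smul_add, hz, hw, add_zero]
    obtain ⟨z, hz⟩ := (hex (b • n)).mp hb'
    have h3 : (algebraMap A B s * b) • n = 0 := by
      rw [mul_smul, algebraMap_smul, ← hz, ← map_smul, hsz z, map_zero]
    have h4 := (hn _).mpr h3
    rcases hq.mem_or_mem h4 with h | h
    · exact absurd h hsp
    · exact h
  have hxq : algebraMap A B x ∈ q := hxp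
  have h5 : algebraMap A B x • nbar = 0 := by
    rw [hnbar, ← map_smul, (hn _).mp hxq, map_zero]
  have h6 : nbar = 0 :=
    hreg (show algebraMap A B x • nbar = algebraMap A B x • 0 by rw [h5, smul_zero])
  have h7 : (1 : B) ∈ q := hann 1 (by rw [h6, smul_zero])
  exact hq.ne_top ((Ideal.eq_top_iff_one _).mpr h7)

end H5AssFlat

namespace H5AssFlat

variable {A B M : Type*} [CommRing A] [CommRing B] [Algebra A B]
  [AddCommGroup M] [Module A M]

/-- Flat base change of associated primes (`⊆` direction), general module. -/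
theorem comap_mem_ass_of_flat [Module.Flat A B] [IsNoetherianRing A]
    (q : Ideal B) [hq : q.IsPrime] (n : B ⊗[A] M)
    (hn : ∀ b : B, b ∈ q ↔ b • n = 0) :
    q.comap (algebraMap A B) ∈ associatedPrimes A M := by
  obtain ⟨N', hfin, hsub⟩ :=
    TensorProduct.exists_finite_submodule_right_of_setFinite ({n} : Set (B ⊗[A] M))
      (Set.finite_singleton n)
  obtain ⟨n', hn'⟩ := hsub (Set.mem_singleton n)
  have hinj : Function.Injective (N'.subtype.lTensor B) :=
    Module.Flat.lTensor_preserves_injective_linearMap _ N'.injective_subtype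
  have hlin : ∀ (b : B) (z : B ⊗[A] N'), (N'.subtype.lTensor B) (b • z) =
      b • (N'.subtype.lTensor B) z := fun b z =>
    (LinearMap.baseChange B N'.subtype).map_smul b z
  have key := comap_mem_ass_of_flat_fg (M := N') q n' (fun b => by
    rw [hn b, ← hn', ← hlin, map_eq_zero_iff _ hinj])
  exact associatedPrimes.subset_of_injective N'.injective_subtype key

end H5AssFlat
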