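import Mathlib.Algebra.Module.FinitePresentation
import Mathlib.Algebra.Module.Torsion.Basic
import Mathlib.LinearAlgebra.TensorProduct.Finiteness
import Mathlib.LinearAlgebra.TensorProduct.RightExactness
import Mathlib.RingTheory.Flat.Basic
import Mathlib.RingTheory.Ideal.AssociatedPrime.Basic
import Mathlib.RingTheory.Ideal.AssociatedPrime.Finiteness
import Mathlib.RingTheory.Ideal.AssociatedPrime.Localization
import Mathlib.RingTheory.Regular.IsSMulRegular
import Mathlib.RingTheory.Noetherian.Basic
import Mathlib.RingTheory.Ideal.Quotient.Noetherian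
import Groth.Agent.Lib.Helper5.CA2.AssFlat

set_option autoImplicit false
open TensorProduct

namespace H5AssFlat

variable {A B M : Type*} [CommRing A] [CommRing B] [Algebra A B]
  [AddCommGroup M] [Module A M]

/-- Flat base change of associated primes along a flat ring map which is injective on spectra
(`⊇` direction). -/
theorem mem_ass_of_comap_mem [Module.Flat A B] [IsNoetherianRing A] [IsNoetherianRing B]
    (hinj : ∀ q₁ q₂ : Ideal B, q₁.IsPrime → q₂.IsPrime →
      q₁.comap (algebraMap A B) = q₂.comap (algebraMap A B) → q₁ = q₂)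
    (q : Ideal B) [hq : q.IsPrime]
    (h : q.comap (algebraMap A B) ∈ associatedPrimes A M) :
    q ∈ associatedPrimes B (B ⊗[A] M) := by
  classical
  set p := q.comap (algebraMap A B) with hp
  obtain ⟨hpp, j, hj⟩ := (isAssociatedPrime_iff_exists_injective_linearMap _ _).mp h
  have hjB : Function.Injective (LinearMap.baseChange B j) :=
    Module.Flat.lTensor_preserves_injective_linearMap j hj
  -- the map B ⊗ (A/p) → B/q
  let g : (A ⧸ p) →ₗ[A] (B ⧸ q) :=
    (Algebra.linearMap (A ⧸ p) (B ⧸ q)).restrictScalars A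
  let G : B ⊗[A] (A ⧸ p) →ₗ[B] (B ⧸ q) := LinearMap.liftBaseChange B g
  let n₀ : B ⊗[A] M := (1 : B) ⊗ₜ[A] j 1
  let J : Ideal B := (⊥ : Submodule B (B ⊗[A] M)).colon {n₀}
  have hJ : ∀ b : B, b ∈ J ↔ b • n₀ = 0 := fun b => by
    rw [Submodule.mem_colon_singleton, Submodule.mem_bot]
  have hJq : J ≤ q := by
    intro b hb
    rw [hJ] at hb
    have h1 : (LinearMap.baseChange B j) (b ⊗ₜ[A] (1 : A ⧸ p)) = 0 := by
      rw [LinearMap.baseChange_tmul]
      rw [← hb]
      rw [TensorProduct.smul_tmul', smul_eq_mul, mul_one]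
    have h2 : b ⊗ₜ[A] (1 : A ⧸ p) = 0 := (map_eq_zero_iff _ hjB).mp h1
    have h3 := congrArg G h2
    rw [map_zero, LinearMap.liftBaseChange_tmul] at h3
    have h4 : g 1 = 1 := by
      change algebraMap (A ⧸ p) (B ⧸ q) 1 = 1
      exact map_one _
    rw [h4] at h3
    have h5 : (Ideal.Quotient.mk q b : B ⧸ q) = 0 := by
      rw [← h3]
      rw [Algebra.smul_def, mul_one]
      rfl
    exact Ideal.Quotient.eq_zero_iff_mem.mp h5
  have hpJ : p ≤ J.comap (algebraMap A B) := by
    intro a ha
    rw [Ideal.mem_comap, hJ]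
    change algebraMap A B a • ((1 : B) ⊗ₜ[A] j 1) = 0
    rw [algebraMap_smul, ← TensorProduct.tmul_smul, ← map_smul]
    have : a • (1 : A ⧸ p) = 0 := by
      rw [Algebra.smul_def, mul_one]
      exact Ideal.Quotient.eq_zero_iff_mem.mpr ha
    rw [this, map_zero, tmul_zero]
  have hmin : q ∈ J.minimalPrimes := by
    refine ⟨⟨hq, hJq⟩, ?_⟩
    rintro q₁ ⟨hq₁, hJq₁⟩ hle
    have : q₁ = q := by
      apply hinj q₁ q hq₁ hq
      apply le_antisymm
      · exact Ideal.comap_mono hle
      · exact hpJ.trans (Ideal.comap_mono hJq₁)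
    exact this ▸ le_rfl
  -- the cyclic submodule generated by n₀
  let C : Submodule B (B ⊗[A] M) := Submodule.span B {n₀}
  have hann : Module.annihilator B C = J := by
    ext b
    rw [Module.mem_annihilator, hJ]
    constructor
    · intro hb
      have := hb ⟨n₀, Submodule.mem_span_singleton_self n₀⟩
      exact congrArg Subtype.val this
    · intro hb c
      obtain ⟨c, hc⟩ := c
      obtain ⟨r, rfl⟩ := Submodule.mem_span_singleton.mp hc
      apply Subtype.ext
      change b • r • n₀ = 0
      rw [smul_comm, hb, smul_zero]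
  haveI : Module.Finite B C := Module.Finite.span_singleton B n₀
  have h1 : q ∈ associatedPrimes B C :=
    Module.associatedPrimes.minimalPrimes_annihilator_subset_associatedPrimes B C (hann ▸ hmin)
  exact associatedPrimes.subset_of_injective C.injective_subtype h1

end H5AssFlat
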