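import Mathlib

set_option autoImplicit false
universe u
open Matrix

namespace H5CB

variable {R : Type u} [CommRing R] {e r : ℕ}

/-- weak Cauchy–Binet -/
theorem det_mul_eq_sum (B : Matrix (Fin e) (Fin r) R) (C : Matrix (Fin r) (Fin e) R) :
    (B * C).det = ∑ κ : Fin e → Fin r, (∏ i, B i (κ i)) * (C.submatrix κ id).det := by
  have h1 : (B * C) = fun i => ∑ k, B i k • C k := by
    ext i j
    simp [Matrix.mul_apply, Finset.sum_apply]
  have h2 : (B * C).det = (Matrix.detRowAlternating (R := R) (n := Fin e)).toMultilinearMap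
      (fun i => ∑ k, B i k • C k) := by
    rw [h1]; rfl
  rw [h2, MultilinearMap.map_sum]
  refine Finset.sum_congr rfl fun κ _ => ?_
  rw [MultilinearMap.map_smul_univ, smul_eq_mul]
  rfl

abbrev Sub (r e : ℕ) := {s : Finset (Fin r) // s.card = e}

/-- the function attached to a subset and a permutation -/
def g (p : Sub r e × Equiv.Perm (Fin e)) : Fin e → Fin r :=
  fun i => p.1.1.orderEmbOfFin p.1.2 (p.2 i)

lemma g_injective : Function.Injective (g (r := r) (e := e)) := by
  rintro ⟨L, σ⟩ ⟨L', τ⟩ h
  have hr : ∀ (L : Sub r e) (σ : Equiv.Perm (Fin e)), Finset.univ.image (g (L, σ)) = L.1 := by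
    intro L σ
    ext x
    simp only [Finset.mem_image, Finset.mem_univ, true_and, g]
    constructor
    · rintro ⟨i, rfl⟩
      exact Finset.orderEmbOfFin_mem _ _ _
    · intro hx
      have : x ∈ Set.range (L.1.orderEmbOfFin L.2) := by
        rw [Finset.range_orderEmbOfFin]; exact hx
      obtain ⟨i, rfl⟩ := this
      exact ⟨σ.symm i, by simp⟩
  have hL : L = L' := by
    apply Subtype.ext
    rw [← hr L σ, ← hr L' τ, h]
  subst hL
  congr 1
  ext i
  have := congrFun h i
  simp only [g] at this
  exact congrArg _ ((L.1.orderEmbOfFin L.2).injective this)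

lemma exists_of_injective (κ : Fin e → Fin r) (hκ : Function.Injective κ) :
    ∃ p, g p = κ := by
  classical
  have hc : (Finset.univ.image κ).card = e := by
    rw [Finset.card_image_of_injective _ hκ]; simp
  let L : Sub r e := ⟨Finset.univ.image κ, hc⟩
  have hmem : ∀ i, κ i ∈ Set.range (L.1.orderEmbOfFin L.2) := by
    intro i
    rw [Finset.range_orderEmbOfFin]
    exact Finset.mem_image_of_mem _ (Finset.mem_univ _)
  choose σ hσ using hmem
  have hinj : Function.Injective σ := by
    intro i j hij
    apply hκ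
    rw [← hσ i, ← hσ j, hij]
  refine ⟨(L, Equiv.ofBijective σ (Finite.injective_iff_bijective.mp hinj)), ?_⟩
  ext i
  simp [g, hσ]

/-- Cauchy–Binet, ordered form -/
theorem cauchy_binet (B : Matrix (Fin e) (Fin r) R) (C : Matrix (Fin r) (Fin e) R) :
    (B * C).det = ∑ L : Sub r e, (B.submatrix id (L.1.orderEmbOfFin L.2)).det *
      (C.submatrix (L.1.orderEmbOfFin L.2) id).det := by
  classical
  rw [det_mul_eq_sum]
  have h0 : ∀ κ : Fin e → Fin r, κ ∉ (Finset.univ.image (g (r := r) (e := e))) →
      (∏ i, B i (κ i)) * (C.submatrix κ id).det = 0 := by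
    intro κ hκ
    have hni : ¬ Function.Injective κ := by
      intro hinj
      obtain ⟨p, hp⟩ := exists_of_injective κ hinj
      exact hκ (Finset.mem_image.mpr ⟨p, Finset.mem_univ _, hp⟩)
    rw [Function.Injective] at hni
    push Not at hni
    obtain ⟨i, j, hij, hne⟩ := hni
    rw [Matrix.det_zero_of_row_eq hne, mul_zero]
    ext k
    simp [hij]
  rw [← Finset.sum_subset (Finset.subset_univ (Finset.univ.image (g (r := r) (e := e))))
    (fun κ _ h => h0 κ h), Finset.sum_image (fun x _ y _ h => g_injective h),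
    ← Finset.univ_product_univ, Finset.sum_product]
  refine Finset.sum_congr rfl fun L _ => ?_
  have h1 : ∀ σ : Equiv.Perm (Fin e), (C.submatrix (g (L, σ)) id).det =
      (Equiv.Perm.sign σ : ℤ) * (C.submatrix (L.1.orderEmbOfFin L.2) id).det := by
    intro σ
    have : C.submatrix (g (L, σ)) id = (C.submatrix (L.1.orderEmbOfFin L.2) id).submatrix σ id := by
      ext i j; rfl
    rw [this, Matrix.det_permute]
  simp_rw [h1]
  generalize (C.submatrix (L.1.orderEmbOfFin L.2) id).det = d
  rw [← Matrix.det_transpose (B.submatrix id _), Matrix.det_apply', Finset.sum_mul]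
  refine Finset.sum_congr rfl fun σ _ => ?_
  simp only [g, Matrix.transpose_apply, Matrix.submatrix_apply, id]
  ring



theorem main17662 {R : Type u} [CommRing R] (e r n : ℕ)
    (M : Matrix (Fin r) (Fin n) R)
    (A : {s : Finset (Fin r) // s.card = e} → Matrix (Fin e) (Fin r) R)
    (hA : IsUnit (Matrix.det (Matrix.of fun i j : {s : Finset (Fin r) // s.card = e} =>
      ((A i).submatrix id (j.1.orderEmbOfFin j.2)).det))) :
    (⨆ i, Ideal.span (Set.range fun t : {s : Finset (Fin n) // s.card = e} =>
        ((A i * M).submatrix id (t.1.orderEmbOfFin t.2)).det)) =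
      Ideal.span (Set.range fun p : {s : Finset (Fin r) // s.card = e} × {s : Finset (Fin n) // s.card = e} =>
        (M.submatrix (p.1.1.orderEmbOfFin p.1.2) (p.2.1.orderEmbOfFin p.2.2)).det) := by
  classical
  set N : Matrix (Sub r e) (Sub r e) R := Matrix.of fun i j : Sub r e =>
      ((A i).submatrix id (j.1.orderEmbOfFin j.2)).det with hN
  have key : ∀ (i : Sub r e) (t : Sub n e),
      ((A i * M).submatrix id (t.1.orderEmbOfFin t.2)).det =
        ∑ L : Sub r e, N i L * (M.submatrix (L.1.orderEmbOfFin L.2) (t.1.orderEmbOfFin t.2)).det := by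
    intro i t
    have : (A i * M).submatrix id (t.1.orderEmbOfFin t.2) =
        A i * M.submatrix id (t.1.orderEmbOfFin t.2) := by
      ext a b
      simp [Matrix.mul_apply]
    rw [this, cauchy_binet]
    rfl
  apply le_antisymm
  · refine iSup_le fun i => ?_
    rw [Ideal.span_le]
    rintro _ ⟨t, rfl⟩
    simp only
    rw [key]
    refine Ideal.sum_mem _ fun L _ => Ideal.mul_mem_left _ _ ?_
    exact Ideal.subset_span ⟨(L, t), rfl⟩
  · rw [Ideal.span_le]
    rintro _ ⟨⟨L, t⟩, rfl⟩
    simp only
    have hinv : N⁻¹ * N = 1 := Matrix.nonsing_inv_mul N hA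
    have h1 : (M.submatrix (L.1.orderEmbOfFin L.2) (t.1.orderEmbOfFin t.2)).det =
        ∑ i : Sub r e, N⁻¹ L i * ((A i * M).submatrix id (t.1.orderEmbOfFin t.2)).det := by
      simp_rw [key, Finset.mul_sum]
      rw [Finset.sum_comm]
      have : ∀ L' : Sub r e, ∑ i : Sub r e, N⁻¹ L i *
          (N i L' * (M.submatrix (L'.1.orderEmbOfFin L'.2) (t.1.orderEmbOfFin t.2)).det) =
          (N⁻¹ * N) L L' * (M.submatrix (L'.1.orderEmbOfFin L'.2) (t.1.orderEmbOfFin t.2)).det := by
        intro L'
        rw [Matrix.mul_apply, Finset.sum_mul]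
        exact Finset.sum_congr rfl fun i _ => (mul_assoc _ _ _).symm
      simp_rw [this, hinv, Matrix.one_apply]
      simp
    rw [h1]
    refine Ideal.sum_mem _ fun i _ => Ideal.mul_mem_left _ _ ?_
    exact (le_iSup (fun i => Ideal.span (Set.range fun t : {s : Finset (Fin n) // s.card = e} =>
        ((A i * M).submatrix id (t.1.orderEmbOfFin t.2)).det)) i) (Ideal.subset_span ⟨t, rfl⟩)

end H5CB
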