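import Mathlib.RingTheory.Extension.Cotangent.LocalizationAway
import Mathlib.RingTheory.Etale.Basic
import Mathlib.RingTheory.Smooth.Basic
import Mathlib.RingTheory.Kaehler.JacobiZariski
import Mathlib.RingTheory.Localization.BaseChange
import Mathlib.RingTheory.Etale.Kaehler

open Algebra MvPolynomial TensorProduct KaehlerDifferential

namespace H5CotPres

section step1

variable {S T ι : Type*} [CommRing S] [CommRing T] [Algebra S T]

/-- For generators of a formally étale algebra, the cotangent module is free on the variables. -/
noncomputable def cotFree [Algebra.FormallyEtale S T] (Q : Generators S T ι) :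
    Q.toExtension.Cotangent ≃ₗ[T] (ι →₀ T) := by
  have hinj : Function.Injective Q.toExtension.cotangentComplex := by
    haveI : Algebra.FormallySmooth S Q.toExtension.Ring :=
      inferInstanceAs (Algebra.FormallySmooth S (MvPolynomial ι S))
    haveI : Algebra.FormallySmooth S T := inferInstance
    exact (Q.toExtension.cotangentComplex_injective_iff).mpr
      Algebra.FormallySmooth.subsingleton_h1Cotangent
  have hsurj : Function.Surjective Q.toExtension.cotangentComplex := by
    intro x
    haveI : Subsingleton (Ω[T⁄S]) := inferInstance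
    exact (Q.toExtension.exact_cotangentComplex_toKaehler x).mp (Subsingleton.elim _ _)
  exact (LinearEquiv.ofBijective Q.toExtension.cotangentComplex ⟨hinj, hsurj⟩) ≪≫ₗ
    Q.cotangentSpaceBasis.repr

end step1


section step2

variable {R S T ι σ : Type*} [CommRing R] [CommRing S] [Algebra R S]
  [CommRing T] [Algebra R T] [Algebra S T] [IsScalarTower R S T]
variable (g : S) [IsLocalization.Away g T] (P : Generators R S σ) (Q : Generators S T ι)

/-- comparison hom from `Q.comp P` to `(localizationAway T g).comp P`. -/
noncomputable def cmpHom :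
    Generators.Hom (Q.comp P) ((Generators.localizationAway T g).comp P) where
  val := Sum.elim (fun i => ((Generators.localizationAway T g).comp P).σ (Q.val i))
    (fun j => X (Sum.inr j))
  aeval_val k := by
    rcases k with i | j
    · simp
    · simp

theorem cmpHom_toComp (x : P.Ring) :
    (cmpHom g P Q).toAlgHom ((Q.toComp P).toAlgHom x) =
      ((Generators.localizationAway T g).toComp P).toAlgHom x := by
  rw [Generators.toComp_toAlgHom, Generators.toComp_toAlgHom, Generators.Hom.toAlgHom,
    aeval_rename, rename_eq_aeval]
  rfl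

theorem cmp_comp :
    (Extension.Cotangent.map (cmpHom g P Q).toExtensionHom) ∘ₗ
      (LinearMap.liftBaseChange T (Extension.Cotangent.map (Q.toComp P).toExtensionHom)) =
    LinearMap.liftBaseChange T (Extension.Cotangent.map
        ((Generators.localizationAway T g).toComp P).toExtensionHom) := by
  apply TensorProduct.AlgebraTensorModule.curry_injective
  ext c
  obtain ⟨x, rfl⟩ := Extension.Cotangent.mk_surjective c
  simp only [TensorProduct.AlgebraTensorModule.curry_apply, LinearMap.restrictScalars_comp,
    TensorProduct.curry_apply, LinearMap.coe_comp, LinearMap.coe_restrictScalars,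
    Function.comp_apply, LinearMap.liftBaseChange_tmul, one_smul]
  rw [Extension.Cotangent.map_mk, Extension.Cotangent.map_mk, Extension.Cotangent.map_mk]
  refine congrArg Extension.Cotangent.mk (Subtype.ext ?_)
  exact cmpHom_toComp g P Q x.1

include g in
theorem liftBaseChange_injective :
    Function.Injective (LinearMap.liftBaseChange T
      (Extension.Cotangent.map (Q.toComp P).toExtensionHom)) := by
  have h := Generators.liftBaseChange_injective_of_isLocalizationAway (T := T) g P
  rw [← cmp_comp g P Q] at h
  exact Function.Injective.of_comp h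


include g in
/-- Theorem A: `J/J² ≃ T ⊗ I/I² × T^ι` for the composed generators. -/
theorem nonempty_compEquiv :
    Nonempty ((Q.comp P).toExtension.Cotangent ≃ₗ[T]
      (T ⊗[S] P.toExtension.Cotangent) × (ι →₀ T)) := by
  haveI : Algebra.FormallyEtale S T := Algebra.FormallyEtale.of_isLocalization (Submonoid.powers g)
  have e₀ := cotFree Q
  haveI : Module.Projective T Q.toExtension.Cotangent :=
    Module.Projective.of_equiv e₀.symm
  obtain ⟨l, hl⟩ := Module.projective_lifting_property
    (Extension.Cotangent.map (Q.ofComp P).toExtensionHom) LinearMap.id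
    (Generators.Cotangent.surjective_map_ofComp Q P)
  have e₁ := ((Generators.Cotangent.exact Q P).splitSurjectiveEquiv
    (liftBaseChange_injective g P Q) ⟨l, hl⟩).1
  exact ⟨e₁ ≪≫ₗ (LinearEquiv.prodCongr (LinearEquiv.refl T _) e₀)⟩

end step2


section step4

variable {R S : Type*} [CommRing R] [CommRing S] [Algebra R S]

theorem map_map_of_leftInverse {P P' : Extension R S} (f : P.Hom P') (g : P'.Hom P)
    (h : ∀ x, g.toRingHom (f.toRingHom x) = x) (c : P.Cotangent) :
    Extension.Cotangent.map g (Extension.Cotangent.map f c) = c := by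
  obtain ⟨x, rfl⟩ := Extension.Cotangent.mk_surjective c
  rw [Extension.Cotangent.map_mk, Extension.Cotangent.map_mk]
  refine congrArg Extension.Cotangent.mk (Subtype.ext ?_)
  exact h x.1

noncomputable def cotEquiv {P P' : Extension R S} (f : P.Hom P') (g : P'.Hom P)
    (h : ∀ x, g.toRingHom (f.toRingHom x) = x) (h' : ∀ x, f.toRingHom (g.toRingHom x) = x) :
    P.Cotangent ≃ₗ[S] P'.Cotangent :=
  LinearEquiv.ofLinear (Extension.Cotangent.map f) (Extension.Cotangent.map g)
    (LinearMap.ext (map_map_of_leftInverse g f h')) (LinearMap.ext (map_map_of_leftInverse f g h))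

end step4

section step5

variable {R S T σ σ₁ : Type*} [CommRing R] [CommRing S] [Algebra R S]
  [CommRing T] [Algebra R T] [Algebra S T] [IsScalarTower R S T]
variable (g : S) [IsLocalization.Away g T] (P : Generators R S σ) (P₁ : Generators R T σ₁)

/-- the generators of `T` over `T` given by the images of the generators of `S`. -/
noncomputable def selfGen : Generators T T σ :=
  Generators.ofSurjective (algebraMap S T ∘ P.val) (fun t => ⟨C t, by simp⟩)

noncomputable def swapHom₁ : Generators.Hom ((P₁.extendScalars S).comp P) ((selfGen (T := T) P).comp P₁) where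
  val k := X k.swap
  aeval_val k := by
    rcases k with i | j
    · simp [selfGen]
    · simp [selfGen]

noncomputable def swapHom₂ : Generators.Hom ((selfGen (T := T) P).comp P₁) ((P₁.extendScalars S).comp P) where
  val k := X k.swap
  aeval_val k := by
    rcases k with i | j
    · simp [selfGen]
    · simp [selfGen]

noncomputable def swapEquiv : ((P₁.extendScalars S).comp P).toExtension.Cotangent ≃ₗ[T]
    ((selfGen (T := T) P).comp P₁).toExtension.Cotangent :=
  cotEquiv (swapHom₁ P P₁).toExtensionHom (swapHom₂ P P₁).toExtensionHom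
    (fun x => by
      change (swapHom₂ P P₁).toAlgHom ((swapHom₁ P P₁).toAlgHom x) = x
      rw [Generators.Hom.toAlgHom, Generators.Hom.toAlgHom, ← AlgHom.comp_apply]
      conv_rhs => rw [← AlgHom.id_apply (R := R) x]
      congr 1
      refine MvPolynomial.algHom_ext fun k => ?_
      simp [swapHom₁, swapHom₂]
      rfl)
    (fun x => by
      change (swapHom₁ P P₁).toAlgHom ((swapHom₂ P P₁).toAlgHom x) = x
      rw [Generators.Hom.toAlgHom, Generators.Hom.toAlgHom, ← AlgHom.comp_apply]
      conv_rhs => rw [← AlgHom.id_apply (R := R) x]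
      congr 1
      refine MvPolynomial.algHom_ext fun k => ?_
      simp [swapHom₁, swapHom₂]
      rfl)

include g in
/-- Theorem B. -/
theorem nonempty_equiv :
    Nonempty (((T ⊗[S] P.toExtension.Cotangent) × (σ₁ →₀ T)) ≃ₗ[T]
      ((T ⊗[T] P₁.toExtension.Cotangent) × (σ →₀ T))) := by
  obtain ⟨e₁⟩ := nonempty_compEquiv g P (P₁.extendScalars S)
  haveI : IsLocalization.Away (1 : T) T :=
    IsLocalization.away_of_isUnit_of_bijective T isUnit_one Function.bijective_id
  obtain ⟨e₂⟩ := nonempty_compEquiv (1 : T) P₁ (selfGen (T := T) P)
  exact ⟨e₁.symm ≪≫ₗ swapEquiv P P₁ ≪≫ₗ e₂⟩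

end step5


section step6

variable {R S σ : Type*} [CommRing R] [CommRing S] [Algebra R S]
  (α : MvPolynomial σ R →ₐ[R] S) (hα : Function.Surjective α)

theorem aeval_ofAlgHom (x : MvPolynomial σ R) :
    aeval (Generators.ofAlgHom α hα).val x = α x := by
  have : aeval (Generators.ofAlgHom α hα).val = α := by
    refine MvPolynomial.algHom_ext fun k => ?_
    simp [Generators.ofAlgHom]
  rw [this]

noncomputable def homTo : (Extension.ofSurjective α hα).Hom (Generators.ofAlgHom α hα).toExtension where
  toRingHom := RingHom.id _
  toRingHom_algebraMap x := by simp; rfl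
  algebraMap_toRingHom x := by
    simp only [RingHom.id_apply, Algebra.algebraMap_self]
    change aeval (Generators.ofAlgHom α hα).val x = α x
    exact aeval_ofAlgHom α hα x

noncomputable def homFrom : (Generators.ofAlgHom α hα).toExtension.Hom (Extension.ofSurjective α hα) where
  toRingHom := RingHom.id _
  toRingHom_algebraMap x := by simp; rfl
  algebraMap_toRingHom x := by
    simp only [RingHom.id_apply, Algebra.algebraMap_self]
    change α x = aeval (Generators.ofAlgHom α hα).val x
    exact (aeval_ofAlgHom α hα x).symm

noncomputable def presEquiv : (Extension.ofSurjective α hα).Cotangent ≃ₗ[S]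
    (Generators.ofAlgHom α hα).toExtension.Cotangent :=
  cotEquiv (homTo α hα) (homFrom α hα) (fun _ => rfl) (fun _ => rfl)

end step6


section final

universe u

theorem main9162 (R S : Type u) [CommRing R] [CommRing S]
    [Algebra R S] (n m : ℕ) (α : MvPolynomial (Fin n) R →ₐ[R] S) (hα : Function.Surjective α)
    (β : MvPolynomial (Fin m) R →ₐ[R] S) (hβ : Function.Surjective β) :
    Nonempty (((Algebra.Extension.ofSurjective α hα).Cotangent × (Fin m → S)) ≃ₗ[S]
      ((Algebra.Extension.ofSurjective β hβ).Cotangent × (Fin n → S))) := by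
  haveI : IsLocalization.Away (1 : S) S :=
    IsLocalization.away_of_isUnit_of_bijective S isUnit_one Function.bijective_id
  obtain ⟨e⟩ := nonempty_equiv (T := S) (1 : S) (Generators.ofAlgHom α hα) (Generators.ofAlgHom β hβ)
  refine ⟨?_ ≪≫ₗ e ≪≫ₗ ?_⟩
  · exact LinearEquiv.prodCongr ((presEquiv α hα) ≪≫ₗ (TensorProduct.lid S _).symm)
      (Finsupp.linearEquivFunOnFinite S S (Fin m)).symm
  · exact LinearEquiv.prodCongr ((TensorProduct.lid S _) ≪≫ₗ (presEquiv β hβ).symm)
      (Finsupp.linearEquivFunOnFinite S S (Fin n))

theorem main9182 (R S : Type u) [CommRing R] [CommRing S] [Algebra R S]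
    (g : S) (n m : ℕ) (α : MvPolynomial (Fin n) R →ₐ[R] S) (hα : Function.Surjective α)
    (β : MvPolynomial (Fin m) R →ₐ[R] Localization.Away g) (hβ : Function.Surjective β) :
    Nonempty ((LocalizedModule (Submonoid.powers g) (Algebra.Extension.ofSurjective α hα).Cotangent ×
        (Fin m → Localization.Away g)) ≃ₗ[Localization.Away g]
      ((Algebra.Extension.ofSurjective β hβ).Cotangent × (Fin n → Localization.Away g))) := by
  obtain ⟨e⟩ := nonempty_equiv (T := Localization.Away g) g
    (Generators.ofAlgHom α hα) (Generators.ofAlgHom β hβ)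
  refine ⟨?_ ≪≫ₗ e ≪≫ₗ ?_⟩
  · refine LinearEquiv.prodCongr ?_
      (Finsupp.linearEquivFunOnFinite (Localization.Away g) (Localization.Away g) (Fin m)).symm
    have h1 := (IsLocalizedModule.isBaseChange (Submonoid.powers g) (Localization.Away g)
      (LocalizedModule.mkLinearMap (Submonoid.powers g)
        (Algebra.Extension.ofSurjective α hα).Cotangent)).equiv
    refine h1.symm ≪≫ₗ ?_
    exact TensorProduct.AlgebraTensorModule.congr (LinearEquiv.refl _ _) (presEquiv α hα)
  · exact LinearEquiv.prodCongr ((TensorProduct.lid _ _) ≪≫ₗ (presEquiv β hβ).symm)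
      (Finsupp.linearEquivFunOnFinite _ _ (Fin n))

end final

end H5CotPres
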