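import Mathlib.LinearAlgebra.TensorProduct.DirectLimit
import Mathlib.Algebra.Colimit.Ring
import Mathlib.Algebra.Colimit.Module
import Mathlib.RingTheory.FiniteType
import Mathlib.RingTheory.TensorProduct.Maps
import Mathlib.Order.Directed

open TensorProduct

namespace H5DLimTensor

universe u

section setup

variable {ι : Type u} [Preorder ι] [Nonempty ι] [IsDirectedOrder ι] [DecidableEq ι] (G : ι → Type u)
  [∀ i, CommRing (G i)]
  (f : ∀ i j, i ≤ j → G i →+* G j) [DirectedSystem G (fun i j h => f i j h)]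
  (A : Type u) [CommRing A] [∀ i, Algebra A (G i)]
  (hf : ∀ i j (h : i ≤ j), (f i j h).comp (algebraMap A (G i)) = algebraMap A (G j))
  [Algebra A (Ring.DirectLimit G (fun i j h => f i j h))]
  (hA : ∀ i a, algebraMap A (Ring.DirectLimit G (fun i j h => f i j h)) a =
    Ring.DirectLimit.of G (fun i j h => f i j h) i (algebraMap A (G i) a))

/-- the transition maps as `A`-linear maps -/
def fL (i j : ι) (h : i ≤ j) : G i →ₗ[A] G j where
  toFun := f i j h
  map_add' := map_add _
  map_smul' a x := by
    simp only [Algebra.smul_def, map_mul, RingHom.id_apply]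
    rw [← hf i j h]; rfl

include hA in
/-- the canonical maps as `A`-linear maps -/
noncomputable def ofL (i : ι) : G i →ₗ[A] Ring.DirectLimit G (fun i j h => f i j h) where
  toFun := Ring.DirectLimit.of G (fun i j h => f i j h) i
  map_add' := map_add _
  map_smul' a x := by
    simp only [Algebra.smul_def, map_mul, RingHom.id_apply, hA i]

instance : DirectedSystem G (fun i j h => fL G f A hf i j h) where
  map_self i x := DirectedSystem.map_self (f := fun i j h => f i j h) x
  map_map k j i hij hjk x := DirectedSystem.map_map (f := fun i j h => f i j h) hij hjk x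


/-- comparison from the module direct limit -/
noncomputable def e : Module.DirectLimit G (fL G f A hf) →ₗ[A]
    Ring.DirectLimit G (fun i j h => f i j h) :=
  Module.DirectLimit.lift A ι G (fL G f A hf) (ofL G f A hA)
    (fun i j h x => Ring.DirectLimit.of_f (f := fun i j h => f i j h) h x)

theorem e_of (i : ι) (x : G i) :
    e G f A hf hA (Module.DirectLimit.of A ι G (fL G f A hf) i x) =
      Ring.DirectLimit.of G (fun i j h => f i j h) i x := by
  simp [e, ofL]

theorem e_bijective : Function.Bijective (e G f A hf hA) := by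
  classical
  constructor
  · rw [injective_iff_map_eq_zero]
    intro x hx
    obtain ⟨i, g, rfl⟩ := Module.DirectLimit.exists_of x
    rw [e_of] at hx
    obtain ⟨j, hij, h0⟩ := Ring.DirectLimit.of.zero_exact hx
    rw [← Module.DirectLimit.of_f (hij := hij)]
    change Module.DirectLimit.of A ι G (fL G f A hf) j (f i j hij g) = 0
    rw [h0, map_zero]
  · intro y
    obtain ⟨i, g, rfl⟩ := Ring.DirectLimit.exists_of y
    exact ⟨Module.DirectLimit.of A ι G (fL G f A hf) i g, e_of G f A hf hA i g⟩

noncomputable def eqv : Module.DirectLimit G (fL G f A hf) ≃ₗ[A]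
    Ring.DirectLimit G (fun i j h => f i j h) :=
  LinearEquiv.ofBijective (e G f A hf hA) (e_bijective G f A hf hA)

theorem ofL_eq (i : ι) : ofL G f A hA i =
    (eqv G f A hf hA).toLinearMap ∘ₗ Module.DirectLimit.of A ι G (fL G f A hf) i := by
  ext x
  simp [eqv, e_of, ofL]

variable (C : Type u) [AddCommGroup C] [Module A C]

/-- Lemma Z: an element dying in the limit dies at a finite stage. -/
theorem lemmaZ (i : ι) (x : G i ⊗[A] C) (hx : (ofL G f A hA i).rTensor C x = 0) :
    ∃ j, ∃ h : i ≤ j, (fL G f A hf i j h).rTensor C x = 0 := by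
  classical
  rw [ofL_eq G f A hf hA, LinearMap.rTensor_comp_apply] at hx
  have h1 : (Module.DirectLimit.of A ι G (fL G f A hf) i).rTensor C x = 0 := by
    have := (LinearEquiv.rTensor C (eqv G f A hf hA)).injective
    apply this
    rw [map_zero]
    exact hx
  have h2 := congrArg (directLimitLeft (fL G f A hf) C) h1
  rw [directLimitLeft_rTensor_of, map_zero] at h2
  exact Module.DirectLimit.of.zero_exact h2

include hf in
/-- Lemma Y: every element of the limit tensor comes from a finite stage. -/
theorem lemmaY (y : Ring.DirectLimit G (fun i j h => f i j h) ⊗[A] C) :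
    ∃ i, ∃ y' : G i ⊗[A] C, (ofL G f A hA i).rTensor C y' = y := by
  classical
  let z := directLimitLeft (fL G f A hf) C ((LinearEquiv.rTensor C (eqv G f A hf hA).symm) y)
  obtain ⟨i, y', hy'⟩ := Module.DirectLimit.exists_of z
  refine ⟨i, y', ?_⟩
  have inj : Function.Injective (fun w => directLimitLeft (fL G f A hf) C
      ((LinearEquiv.rTensor C (eqv G f A hf hA).symm) w)) :=
    (directLimitLeft (fL G f A hf) C).injective.comp (LinearEquiv.rTensor C _).injective
  apply inj
  change _ = z
  rw [← hy', ← directLimitLeft_rTensor_of]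
  change directLimitLeft (fL G f A hf) C _ = directLimitLeft (fL G f A hf) C _
  congr 1
  rw [ofL_eq G f A hf hA, LinearMap.rTensor_comp_apply]
  exact (LinearEquiv.rTensor C (eqv G f A hf hA)).symm_apply_apply _

end setup

section comm

variable {A : Type*} [CommRing A] {G G' : Type*} [CommRing G] [CommRing G'] [Algebra A G]
  [Algebra A G'] {B C : Type*} [CommRing B] [CommRing C] [Algebra A B] [Algebra A C]

theorem rTensor_map (φ : G →ₗ[A] G') (u : B →ₐ[A] C) (y : G ⊗[A] B) :
    φ.rTensor C ((Algebra.TensorProduct.map (AlgHom.id A G) u) y) =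
      (Algebra.TensorProduct.map (AlgHom.id A G') u) (φ.rTensor B y) := by
  induction y using TensorProduct.induction_on with
  | zero => simp
  | tmul g b => simp
  | add x y hx hy => simp only [map_add, hx, hy]

/-- two maps `id ⊗ u`, `id ⊗ u'` agree iff they agree on `1 ⊗ b` for generators `b`. -/
theorem map_eq_of_eqOn (u u' : B →ₐ[A] C) (s : Set B) (hs : Algebra.adjoin A s = ⊤)
    (h : ∀ b ∈ s, ((1 : G) ⊗ₜ[A] u b : G ⊗[A] C) = 1 ⊗ₜ[A] u' b) :
    Algebra.TensorProduct.map (AlgHom.id A G) u = Algebra.TensorProduct.map (AlgHom.id A G) u' := by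
  have key : (Algebra.TensorProduct.includeRight : C →ₐ[A] G ⊗[A] C).comp u =
      (Algebra.TensorProduct.includeRight : C →ₐ[A] G ⊗[A] C).comp u' :=
    AlgHom.ext_of_adjoin_eq_top hs (fun b hb => by simpa using h b hb)
  refine AlgHom.ext fun y => ?_
  induction y using TensorProduct.induction_on with
  | zero => simp
  | tmul g b =>
    have := DFunLike.congr_fun key b
    simp only [AlgHom.coe_comp, Function.comp_apply, Algebra.TensorProduct.includeRight_apply] at this
    simp only [Algebra.TensorProduct.map_tmul, AlgHom.coe_id, id_eq]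
    calc g ⊗ₜ[A] u b = (g ⊗ₜ[A] (1 : C)) * ((1 : G) ⊗ₜ[A] u b) := by simp
      _ = (g ⊗ₜ[A] (1 : C)) * ((1 : G) ⊗ₜ[A] u' b) := by rw [this]
      _ = g ⊗ₜ[A] u' b := by simp
  | add x y hx hy => simp only [map_add, hx, hy]

/-- `id ⊗ u` is surjective when `1 ⊗ c` is in the range for generators `c`. -/
theorem map_surjective_of_mem_range (u : B →ₐ[A] C) (t : Set C) (ht : Algebra.adjoin A t = ⊤)
    (h : ∀ c ∈ t, ((1 : G) ⊗ₜ[A] c : G ⊗[A] C) ∈
      (Algebra.TensorProduct.map (AlgHom.id A G) u).range) :
    Function.Surjective (Algebra.TensorProduct.map (AlgHom.id A G) u) := by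
  set ψ := Algebra.TensorProduct.map (AlgHom.id A G) u
  have h1 : ∀ c : C, ((1 : G) ⊗ₜ[A] c : G ⊗[A] C) ∈ ψ.range := by
    have : Algebra.adjoin A t ≤ ψ.range.comap
        (Algebra.TensorProduct.includeRight : C →ₐ[A] G ⊗[A] C) :=
      Algebra.adjoin_le (fun c hc => h c hc)
    rw [ht] at this
    intro c
    exact this (Algebra.mem_top : c ∈ (⊤ : Subalgebra A C))
  rw [← AlgHom.range_eq_top, eq_top_iff]
  rintro y -
  induction y using TensorProduct.induction_on with
  | zero => exact Subalgebra.zero_mem _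
  | tmul g c =>
    have e : g ⊗ₜ[A] c = (g ⊗ₜ[A] (1 : C)) * ((1 : G) ⊗ₜ[A] c) := by simp
    rw [e]
    exact Subalgebra.mul_mem _ ⟨g ⊗ₜ 1, by simp [ψ]⟩ (h1 c)
  | add x y hx hy => exact Subalgebra.add_mem _ hx hy

end comm


section main

variable {ι : Type u} [Preorder ι] [Nonempty ι] [IsDirectedOrder ι] (G : ι → Type u)
  [∀ i, CommRing (G i)]
  (f : ∀ i j, i ≤ j → G i →+* G j) [DirectedSystem G (fun i j h => f i j h)]
  (A : Type u) [CommRing A] [∀ i, Algebra A (G i)]
  (hf : ∀ i j (h : i ≤ j), (f i j h).comp (algebraMap A (G i)) = algebraMap A (G j))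
  [Algebra A (Ring.DirectLimit G (fun i j h => f i j h))]
  (hA : ∀ i a, algebraMap A (Ring.DirectLimit G (fun i j h => f i j h)) a =
    Ring.DirectLimit.of G (fun i j h => f i j h) i (algebraMap A (G i) a))
  (B C : Type u) [CommRing B] [CommRing C] [Algebra A B] [Algebra A C]

include hf hA in
theorem part1 (hB : Algebra.FiniteType A B) (u u' : B →ₐ[A] C)
    (heq : Algebra.TensorProduct.map (AlgHom.id A (Ring.DirectLimit G (fun i j h => f i j h))) u =
      Algebra.TensorProduct.map (AlgHom.id A (Ring.DirectLimit G (fun i j h => f i j h))) u') :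
    ∃ i : ι, Algebra.TensorProduct.map (AlgHom.id A (G i)) u =
      Algebra.TensorProduct.map (AlgHom.id A (G i)) u' := by
  classical
  obtain ⟨s, hs⟩ := hB.out
  obtain ⟨l⟩ := ‹Nonempty ι›
  have step : ∀ b ∈ s, ∃ j : ι, ((1 : G j) ⊗ₜ[A] u b : G j ⊗[A] C) = 1 ⊗ₜ[A] u' b := by
    intro b _
    have hx : (ofL G f A hA l).rTensor C ((1 : G l) ⊗ₜ[A] u b - 1 ⊗ₜ[A] u' b) = 0 := by
      have h1 := DFunLike.congr_fun heq (1 ⊗ₜ[A] b)
      simp only [Algebra.TensorProduct.map_tmul, AlgHom.coe_id, id_eq] at h1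
      simp only [map_sub, LinearMap.rTensor_tmul]
      have h2 : ofL G f A hA l 1 = 1 := map_one (Ring.DirectLimit.of G (fun i j h => f i j h) l)
      rw [h2, h1, sub_self]
    obtain ⟨j, hlj, hj⟩ := lemmaZ G f A hf hA C l _ hx
    refine ⟨j, ?_⟩
    simp only [map_sub, LinearMap.rTensor_tmul] at hj
    have h2 : fL G f A hf l j hlj 1 = 1 := map_one (f l j hlj)
    rw [h2, sub_eq_zero] at hj
    exact hj
  choose! j hj using step
  obtain ⟨i, hi⟩ := Finset.exists_le (s.image j)
  refine ⟨i, map_eq_of_eqOn u u' (s : Set B) hs (fun b hb => ?_)⟩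
  have hji : j b ≤ i := hi _ (Finset.mem_image_of_mem j hb)
  have := congrArg ((fL G f A hf (j b) i hji).rTensor C) (hj b hb)
  simp only [LinearMap.rTensor_tmul] at this
  have h2 : fL G f A hf (j b) i hji 1 = 1 := map_one (f (j b) i hji)
  rwa [h2] at this

include hf hA in
theorem part2 (hC : Algebra.FiniteType A C) (u : B →ₐ[A] C)
    (hsurj : Function.Surjective
      (Algebra.TensorProduct.map (AlgHom.id A (Ring.DirectLimit G (fun i j h => f i j h))) u)) :
    ∃ i : ι, Function.Surjective (Algebra.TensorProduct.map (AlgHom.id A (G i)) u) := by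
  classical
  obtain ⟨t, ht⟩ := hC.out
  have step : ∀ c ∈ t, ∃ k : ι, ∀ i, k ≤ i → ((1 : G i) ⊗ₜ[A] c : G i ⊗[A] C) ∈
      (Algebra.TensorProduct.map (AlgHom.id A (G i)) u).range := by
    intro c _
    obtain ⟨y, hy⟩ := hsurj (1 ⊗ₜ[A] c)
    obtain ⟨j, y', rfl⟩ := lemmaY G f A hf hA B y
    have hx : (ofL G f A hA j).rTensor C
        ((Algebra.TensorProduct.map (AlgHom.id A (G j)) u) y' - 1 ⊗ₜ[A] c) = 0 := by
      rw [map_sub, rTensor_map, hy, LinearMap.rTensor_tmul]
      have h2 : ofL G f A hA j 1 = 1 := map_one (Ring.DirectLimit.of G (fun i j h => f i j h) j)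
      rw [h2, sub_self]
    obtain ⟨k, hjk, hk⟩ := lemmaZ G f A hf hA C j _ hx
    refine ⟨k, fun i hki => ?_⟩
    rw [map_sub, rTensor_map, LinearMap.rTensor_tmul, sub_eq_zero] at hk
    have h2 : fL G f A hf j k hjk 1 = 1 := map_one (f j k hjk)
    rw [h2] at hk
    have := congrArg ((fL G f A hf k i hki).rTensor C) hk
    rw [rTensor_map, LinearMap.rTensor_tmul] at this
    have h3 : fL G f A hf k i hki 1 = 1 := map_one (f k i hki)
    rw [h3] at this
    exact ⟨_, this⟩
  choose! k hk using step
  obtain ⟨i, hi⟩ := Finset.exists_le (t.image k)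
  refine ⟨i, map_surjective_of_mem_range u (t : Set C) ht (fun c hc => ?_)⟩
  exact hk c hc i (hi _ (Finset.mem_image_of_mem k hc))

end main

end H5DLimTensor
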