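import Mathlib

set_option autoImplicit false
universe u
open scoped TensorProduct

namespace H5Deform

variable {A' : Type u} [CommRing A'] (J : Ideal A')

/-- multiplication map `M ⊗ J → M` -/
noncomputable def mu (M : Type u) [AddCommGroup M] [Module A' M] : M ⊗[A'] ↥J →ₗ[A'] M :=
  (TensorProduct.rid A' M).toLinearMap ∘ₗ LinearMap.lTensor M (Submodule.subtype J)

lemma mu_apply (M : Type u) [AddCommGroup M] [Module A' M] (z : M ⊗[A'] ↥J) :
    mu J M z = TensorProduct.rid A' M (LinearMap.lTensor M (Submodule.subtype J) z) := rfl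

@[simp] lemma mu_tmul (M : Type u) [AddCommGroup M] [Module A' M] (m : M) (j : ↥J) :
    mu J M (m ⊗ₜ j) = (j : A') • m := by
  simp [mu]

lemma mu_injective (M : Type u) [AddCommGroup M] [Module A' M] [Module.Flat A' M] :
    Function.Injective (mu J M) := by
  unfold mu
  rw [LinearMap.coe_comp]
  exact (TensorProduct.rid A' M).injective.comp
    (Module.Flat.lTensor_preserves_injective_linearMap _ (Submodule.injective_subtype J))

lemma mu_natural {M N : Type u} [AddCommGroup M] [Module A' M] [AddCommGroup N] [Module A' N]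
    (f : M →ₗ[A'] N) (z : M ⊗[A'] ↥J) :
    mu J N (LinearMap.rTensor ↥J f z) = f (mu J M z) := by
  induction z using TensorProduct.induction_on with
  | zero => simp
  | tmul m j => simp
  | add a b ha hb => simp [ha, hb]

variable {B' : Type u} [CommRing B'] [Algebra A' B']

lemma mu_smul (b : B') (z : B' ⊗[A'] ↥J) : mu J B' (b • z) = b * mu J B' z := by
  induction z using TensorProduct.induction_on with
  | zero => simp
  | tmul m j => simp [TensorProduct.smul_tmul']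
  | add x y hx hy => simp [hx, hy, mul_add]

lemma exists_mu_eq {y : B'} (hy : y ∈ J.map (algebraMap A' B')) : ∃ z, mu J B' z = y := by
  unfold Ideal.map at hy
  induction hy using Submodule.span_induction with
  | mem x hx =>
    obtain ⟨a, ha, rfl⟩ := hx
    exact ⟨1 ⊗ₜ ⟨a, ha⟩, by simp [Algebra.smul_def]⟩
  | zero => exact ⟨0, by simp⟩
  | add x y _ _ hx hy =>
    obtain ⟨z, rfl⟩ := hx
    obtain ⟨w, rfl⟩ := hy
    exact ⟨z + w, by simp⟩
  | smul b x _ hx =>
    obtain ⟨z, rfl⟩ := hx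
    exact ⟨b • z, by rw [mu_smul, smul_eq_mul]⟩

lemma mu_mem (z : B' ⊗[A'] ↥J) : mu J B' z ∈ J.map (algebraMap A' B') := by
  induction z using TensorProduct.induction_on with
  | zero => simp
  | tmul m j =>
    rw [mu_tmul, Algebra.smul_def]
    exact Ideal.mul_mem_right _ _ (Ideal.mem_map_of_mem _ j.2)
  | add x y hx hy => rw [map_add]; exact add_mem hx hy

lemma key (I' : Ideal B') [Module.Flat A' (B' ⧸ I')] {N : Type u} [AddCommGroup N] [Module A' N]
    (π : B' →ₗ[A'] N) (hπ : ∀ x ∈ I', π x = 0) (z : B' ⊗[A'] ↥J) (hz : mu J B' z ∈ I') :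
    LinearMap.rTensor ↥J π z = 0 := by
  set p : B' →ₗ[A'] B' ⧸ I' := (Submodule.mkQ I').restrictScalars A' with hp
  set f : ↥I' →ₗ[A'] B' := (Submodule.subtype I').restrictScalars A' with hf
  have h1 : LinearMap.rTensor ↥J p z = 0 := by
    apply mu_injective J (B' ⧸ I')
    rw [mu_natural, map_zero]
    exact (Submodule.Quotient.mk_eq_zero I').mpr hz
  have hex : Function.Exact f p := by
    intro y
    constructor
    · intro hy
      exact ⟨⟨y, (Submodule.Quotient.mk_eq_zero I').mp hy⟩, rfl⟩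
    · rintro ⟨x, rfl⟩
      exact (Submodule.Quotient.mk_eq_zero I').mpr x.2
  have hsurj : Function.Surjective p := Submodule.mkQ_surjective I'
  obtain ⟨s, rfl⟩ := (rTensor_exact (↥J) hex hsurj z).mp h1
  rw [← LinearMap.comp_apply, ← LinearMap.rTensor_comp]
  have : π ∘ₗ f = 0 := by
    ext x
    exact hπ x x.2
  rw [this, LinearMap.rTensor_zero, LinearMap.zero_apply]



section main
variable (I : Ideal (B' ⧸ J.map (algebraMap A' B'))) (I' I'' : Ideal B')

/-- the relation defining `φ` -/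
def Rel (x : B' ⧸ J.map (algebraMap A' B'))
    (t : ((B' ⧸ J.map (algebraMap A' B')) ⧸ I) ⊗[A'] ↥J) : Prop :=
  ∃ x' ∈ I', ∃ x'' ∈ I'', Ideal.Quotient.mk (J.map (algebraMap A' B')) x' = x ∧
    Ideal.Quotient.mk (J.map (algebraMap A' B')) x'' = x ∧
    ∃ z : B' ⊗[A'] ↥J, mu J B' z = x'' - x' ∧
      LinearMap.rTensor ↥J
        (IsScalarTower.toAlgHom A' B' ((B' ⧸ J.map (algebraMap A' B')) ⧸ I)).toLinearMap z = t

variable {J I I' I''}

lemma pi_zero (hI' : I'.map (Ideal.Quotient.mk (J.map (algebraMap A' B'))) = I) (x : B') (hx : x ∈ I') :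
    (IsScalarTower.toAlgHom A' B' ((B' ⧸ J.map (algebraMap A' B')) ⧸ I)).toLinearMap x = 0 := by
  change Ideal.Quotient.mk I (Ideal.Quotient.mk _ x) = 0
  rw [Ideal.Quotient.eq_zero_iff_mem, ← hI']
  exact Ideal.mem_map_of_mem _ hx

lemma Rel.exists (hI' : I'.map (Ideal.Quotient.mk (J.map (algebraMap A' B'))) = I)
    (hI'' : I''.map (Ideal.Quotient.mk (J.map (algebraMap A' B'))) = I)
    {x : B' ⧸ J.map (algebraMap A' B')} (hx : x ∈ I) : ∃ t, Rel J I I' I'' x t := by
  have h1 : x ∈ I'.map (Ideal.Quotient.mk (J.map (algebraMap A' B'))) := hI' ▸ hx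
  have h2 : x ∈ I''.map (Ideal.Quotient.mk (J.map (algebraMap A' B'))) := hI'' ▸ hx
  rw [Ideal.mem_map_iff_of_surjective _ Ideal.Quotient.mk_surjective] at h1 h2
  obtain ⟨x', hx', h1⟩ := h1
  obtain ⟨x'', hx'', h2⟩ := h2
  have : x'' - x' ∈ J.map (algebraMap A' B') := by
    rw [← Ideal.Quotient.eq, h1, h2]
  obtain ⟨z, hz⟩ := exists_mu_eq J this
  exact ⟨_, x', hx', x'', hx'', h1, h2, z, hz, rfl⟩

lemma Rel.unique [Module.Flat A' B'] [Module.Flat A' (B' ⧸ I')] [Module.Flat A' (B' ⧸ I'')]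
    (hI' : I'.map (Ideal.Quotient.mk (J.map (algebraMap A' B'))) = I)
    (hI'' : I''.map (Ideal.Quotient.mk (J.map (algebraMap A' B'))) = I)
    {x : B' ⧸ J.map (algebraMap A' B')} {t s} (ht : Rel J I I' I'' x t) (hs : Rel J I I' I'' x s) :
    t = s := by
  obtain ⟨x', hx', x'', hx'', h1, h2, z, hz, rfl⟩ := ht
  obtain ⟨y', hy', y'', hy'', k1, k2, w, hw, rfl⟩ := hs
  have e1 : x' - y' ∈ J.map (algebraMap A' B') := by rw [← Ideal.Quotient.eq, h1, k1]
  have e2 : x'' - y'' ∈ J.map (algebraMap A' B') := by rw [← Ideal.Quotient.eq, h2, k2]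
  obtain ⟨z1, hz1⟩ := exists_mu_eq J e1
  obtain ⟨z2, hz2⟩ := exists_mu_eq J e2
  have hzw : z - w = z2 - z1 := by
    apply mu_injective J B'
    rw [map_sub, map_sub, hz, hw, hz1, hz2]
    ring
  have k1' := key J I' _ (pi_zero hI') z1 (hz1 ▸ sub_mem hx' hy')
  have k2' := key J I'' _ (pi_zero hI'') z2 (hz2 ▸ sub_mem hx'' hy'')
  rw [← sub_eq_zero, ← map_sub, hzw, map_sub, k1', k2', sub_zero]

lemma Rel.add {x y : B' ⧸ J.map (algebraMap A' B')} {t s} (ht : Rel J I I' I'' x t)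
    (hs : Rel J I I' I'' y s) : Rel J I I' I'' (x + y) (t + s) := by
  obtain ⟨x', hx', x'', hx'', h1, h2, z, hz, rfl⟩ := ht
  obtain ⟨y', hy', y'', hy'', k1, k2, w, hw, rfl⟩ := hs
  refine ⟨x' + y', add_mem hx' hy', x'' + y'', add_mem hx'' hy'', by rw [map_add, h1, k1],
    by rw [map_add, h2, k2], z + w, ?_, by rw [map_add]⟩
  rw [map_add, hz, hw]; ring

lemma rTensor_smul (b : B') (z : B' ⊗[A'] ↥J) :
    LinearMap.rTensor ↥J
        (IsScalarTower.toAlgHom A' B' ((B' ⧸ J.map (algebraMap A' B')) ⧸ I)).toLinearMap (b • z) =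
      b • LinearMap.rTensor ↥J
        (IsScalarTower.toAlgHom A' B' ((B' ⧸ J.map (algebraMap A' B')) ⧸ I)).toLinearMap z := by
  induction z using TensorProduct.induction_on with
  | zero => simp
  | tmul m j =>
    rw [TensorProduct.smul_tmul', LinearMap.rTensor_tmul, LinearMap.rTensor_tmul,
      TensorProduct.smul_tmul']
    congr 1
  | add x y hx hy => simp only [smul_add, map_add, hx, hy]

lemma Rel.smul (b : B') {x : B' ⧸ J.map (algebraMap A' B')} {t} (ht : Rel J I I' I'' x t) :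
    Rel J I I' I'' (b • x) (b • t) := by
  obtain ⟨x', hx', x'', hx'', h1, h2, z, hz, rfl⟩ := ht
  refine ⟨b * x', Ideal.mul_mem_left _ _ hx', b * x'', Ideal.mul_mem_left _ _ hx'', ?_, ?_,
    b • z, ?_, rTensor_smul b z⟩
  · rw [map_mul, h1, Algebra.smul_def]; rfl
  · rw [map_mul, h2, Algebra.smul_def]; rfl
  · rw [mu_smul, hz]; ring

theorem main (A' : Type u) [CommRing A'] [IsNoetherianRing A']
    (J : Ideal A') (hJ : J * J = ⊥) (B' : Type u) [CommRing B'] [Algebra A' B'] [Module.Flat A' B']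
    (I : Ideal (B' ⧸ J.map (algebraMap A' B')))
    [Module.Flat (A' ⧸ J) ((B' ⧸ J.map (algebraMap A' B')) ⧸ I)]
    (I' I'' : Ideal B') [Module.Flat A' (B' ⧸ I')] [Module.Flat A' (B' ⧸ I'')]
    (hI' : I'.map (Ideal.Quotient.mk (J.map (algebraMap A' B'))) = I)
    (hI'' : I''.map (Ideal.Quotient.mk (J.map (algebraMap A' B'))) = I) :
    ∃! φ : ↥I →ₗ[B'] (((B' ⧸ J.map (algebraMap A' B')) ⧸ I) ⊗[A'] ↥J),
      (∀ (x : (B' ⧸ J.map (algebraMap A' B'))) (hx : x ∈ I) (x' x'' : B'), x' ∈ I' → x'' ∈ I'' →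
          Ideal.Quotient.mk (J.map (algebraMap A' B')) x' = x → Ideal.Quotient.mk (J.map (algebraMap A' B')) x'' = x →
          ∀ z : B' ⊗[A'] ↥J, TensorProduct.rid A' B' (LinearMap.lTensor B' (Submodule.subtype J) z) = x'' - x' →
            LinearMap.rTensor ↥J (IsScalarTower.toAlgHom A' B' ((B' ⧸ J.map (algebraMap A' B')) ⧸ I)).toLinearMap z = φ ⟨x, hx⟩) := by
  classical
  have hex : ∀ x : ↥I, ∃ t, Rel J I I' I'' x.1 t := fun x => Rel.exists hI' hI'' x.2
  choose φ0 hφ0 using hex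
  let φ : ↥I →ₗ[B'] (((B' ⧸ J.map (algebraMap A' B')) ⧸ I) ⊗[A'] ↥J) :=
    { toFun := φ0
      map_add' := fun x y => Rel.unique hI' hI'' (hφ0 (x + y)) (Rel.add (hφ0 x) (hφ0 y))
      map_smul' := fun b x => Rel.unique hI' hI'' (hφ0 (b • x)) (Rel.smul b (hφ0 x)) }
  refine ⟨φ, ?_, ?_⟩
  · intro x hx x' x'' hx' hx'' h1 h2 z hz
    exact Rel.unique hI' hI'' ⟨x', hx', x'', hx'', h1, h2, z, hz, rfl⟩ (hφ0 ⟨x, hx⟩)
  · intro ψ hψ
    ext x
    obtain ⟨x', hx', x'', hx'', h1, h2, z, hz, ht⟩ := hφ0 x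
    have := hψ x.1 x.2 x' x'' hx' hx'' h1 h2 z hz
    rw [this] at ht
    exact ht

end main

end H5Deform
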