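import Groth.Agent.Lib.Helper5.CA2.DeformHom
import Groth.Agent.Lib.Helper1.FlatNilpotent

set_option autoImplicit false
universe u
open scoped TensorProduct

namespace H5Deform

variable {A' : Type u} [CommRing A'] (J : Ideal A') {B' : Type u} [CommRing B'] [Algebra A' B']

lemma mu_tmul_zero (hJ : J * J = ⊥) (w : B' ⊗[A'] ↥J) (j : ↥J) :
    (mu J B' w) ⊗ₜ[A'] j = (0 : B' ⊗[A'] ↥J) := by
  induction w using TensorProduct.induction_on with
  | zero => simp
  | tmul b j' =>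
    rw [mu_tmul, TensorProduct.smul_tmul]
    have : (j' : A') • j = 0 := by
      apply Subtype.ext
      have h : (j' : A') * (j : A') ∈ J * J := Ideal.mul_mem_mul j'.2 j.2
      rw [hJ] at h
      simpa using h
    rw [this, TensorProduct.tmul_zero]
  | add x y hx hy => rw [map_add, TensorProduct.add_tmul, hx, hy, add_zero]

variable {J}
variable {I : Ideal (B' ⧸ J.map (algebraMap A' B'))}

/-- `(K)`: the kernel of `π ⊗ J` is the image of `I₂ ⊗ J`, for any lift `I₂` of `I`. -/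
lemma K (hJ : J * J = ⊥) (I₂ : Ideal B')
    (hI₂ : I₂.map (Ideal.Quotient.mk (J.map (algebraMap A' B'))) = I) (z : B' ⊗[A'] ↥J)
    (hz : LinearMap.rTensor ↥J
      (IsScalarTower.toAlgHom A' B' ((B' ⧸ J.map (algebraMap A' B')) ⧸ I)).toLinearMap z = 0) :
    z ∈ LinearMap.range (LinearMap.rTensor ↥J ((Submodule.subtype I₂).restrictScalars A')) := by
  set π := (IsScalarTower.toAlgHom A' B' ((B' ⧸ J.map (algebraMap A' B')) ⧸ I)).toLinearMap with hπ
  have hsurj : Function.Surjective π := by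
    intro y
    obtain ⟨y, rfl⟩ := Ideal.Quotient.mk_surjective y
    obtain ⟨y, rfl⟩ := Ideal.Quotient.mk_surjective y
    exact ⟨y, rfl⟩
  have hex : Function.Exact (LinearMap.ker π).subtype π := LinearMap.exact_subtype_ker_map π
  obtain ⟨s, rfl⟩ := (rTensor_exact (↥J) hex hsurj z).mp hz
  clear hz
  induction s using TensorProduct.induction_on with
  | zero => simp
  | tmul c j =>
    obtain ⟨c, hc⟩ := c
    have hc' : Ideal.Quotient.mk I (Ideal.Quotient.mk _ c) = 0 := hc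
    rw [Ideal.Quotient.eq_zero_iff_mem, ← hI₂,
      Ideal.mem_map_iff_of_surjective _ Ideal.Quotient.mk_surjective] at hc'
    obtain ⟨a, ha, hac⟩ := hc'
    have : c - a ∈ J.map (algebraMap A' B') := by rw [← Ideal.Quotient.eq, hac]
    obtain ⟨w, hw⟩ := exists_mu_eq J this
    refine ⟨⟨a, ha⟩ ⊗ₜ j, ?_⟩
    rw [LinearMap.rTensor_tmul, LinearMap.rTensor_tmul]
    change a ⊗ₜ[A'] j = c ⊗ₜ[A'] j
    have hc2 : c = a + mu J B' w := by rw [hw]; ring
    rw [hc2, TensorProduct.add_tmul, mu_tmul_zero J hJ, add_zero]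
  | add x y hx hy => rw [map_add]; exact add_mem hx hy

lemma K_mu (hJ : J * J = ⊥) (I₂ : Ideal B')
    (hI₂ : I₂.map (Ideal.Quotient.mk (J.map (algebraMap A' B'))) = I) (z : B' ⊗[A'] ↥J)
    (hz : LinearMap.rTensor ↥J
      (IsScalarTower.toAlgHom A' B' ((B' ⧸ J.map (algebraMap A' B')) ⧸ I)).toLinearMap z = 0) :
    mu J B' z ∈ I₂ := by
  obtain ⟨s, rfl⟩ := K hJ I₂ hI₂ z hz
  rw [mu_natural]
  exact (mu J ↥I₂ s).2

lemma K_p (hJ : J * J = ⊥) (I₂ : Ideal B')
    (hI₂ : I₂.map (Ideal.Quotient.mk (J.map (algebraMap A' B'))) = I) (z : B' ⊗[A'] ↥J)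
    (hz : LinearMap.rTensor ↥J
      (IsScalarTower.toAlgHom A' B' ((B' ⧸ J.map (algebraMap A' B')) ⧸ I)).toLinearMap z = 0) :
    LinearMap.rTensor ↥J ((Submodule.mkQ I₂).restrictScalars A') z = 0 := by
  obtain ⟨s, rfl⟩ := K hJ I₂ hI₂ z hz
  rw [← LinearMap.comp_apply, ← LinearMap.rTensor_comp]
  have : (Submodule.mkQ I₂).restrictScalars A' ∘ₗ (Submodule.subtype I₂).restrictScalars A' = 0 := by
    ext x
    exact (Submodule.Quotient.mk_eq_zero I₂).mpr x.2
  rw [this, LinearMap.rTensor_zero, LinearMap.zero_apply]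



section construct

variable (I' : Ideal B')
  (φ : ↥I →ₗ[B'] (((B' ⧸ J.map (algebraMap A' B')) ⧸ I) ⊗[A'] ↥J))
  (hI' : I'.map (Ideal.Quotient.mk (J.map (algebraMap A' B'))) = I)

include hI' in
lemma mk_mem {x' : B'} (hx' : x' ∈ I') : Ideal.Quotient.mk (J.map (algebraMap A' B')) x' ∈ I :=
  hI' ▸ Ideal.mem_map_of_mem _ hx'

/-- the translate of `I'` by `φ` -/
def translate : Ideal B' where
  carrier := {y | ∃ (x' : B') (hx' : x' ∈ I') (z : B' ⊗[A'] ↥J), y = x' + mu J B' z ∧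
    LinearMap.rTensor ↥J
      (IsScalarTower.toAlgHom A' B' ((B' ⧸ J.map (algebraMap A' B')) ⧸ I)).toLinearMap z =
      φ ⟨Ideal.Quotient.mk _ x', mk_mem I' hI' hx'⟩}
  zero_mem' := ⟨0, zero_mem _, 0, by simp, by
    rw [map_zero]
    have : (⟨Ideal.Quotient.mk (J.map (algebraMap A' B')) 0, mk_mem I' hI' (zero_mem _)⟩ : ↥I) = 0 := by
      apply Subtype.ext; simp
    rw [this, map_zero]⟩
  add_mem' := by
    rintro a b ⟨x', hx', z, rfl, hz⟩ ⟨y', hy', w, rfl, hw⟩
    refine ⟨x' + y', add_mem hx' hy', z + w, by rw [map_add]; ring, ?_⟩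
    rw [map_add, hz, hw, ← map_add]
    congr 1
  smul_mem' := by
    rintro b a ⟨x', hx', z, rfl, hz⟩
    refine ⟨b * x', Ideal.mul_mem_left _ _ hx', b • z, by rw [mu_smul, smul_eq_mul]; ring, ?_⟩
    rw [rTensor_smul, hz, ← map_smul]
    congr 1

lemma mem_translate {y : B'} : y ∈ translate I' φ hI' ↔
    ∃ (x' : B') (hx' : x' ∈ I') (z : B' ⊗[A'] ↥J), y = x' + mu J B' z ∧
    LinearMap.rTensor ↥J
      (IsScalarTower.toAlgHom A' B' ((B' ⧸ J.map (algebraMap A' B')) ⧸ I)).toLinearMap z =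
      φ ⟨Ideal.Quotient.mk _ x', mk_mem I' hI' hx'⟩ := Iff.rfl

lemma pi_surjective : Function.Surjective
    (IsScalarTower.toAlgHom A' B' ((B' ⧸ J.map (algebraMap A' B')) ⧸ I)).toLinearMap := by
  intro y
  obtain ⟨y, rfl⟩ := Ideal.Quotient.mk_surjective y
  obtain ⟨y, rfl⟩ := Ideal.Quotient.mk_surjective y
  exact ⟨y, rfl⟩

lemma mk_mu (z : B' ⊗[A'] ↥J) : Ideal.Quotient.mk (J.map (algebraMap A' B')) (mu J B' z) = 0 :=
  Ideal.Quotient.eq_zero_iff_mem.mpr (mu_mem J z)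

lemma translate_map : (translate I' φ hI').map (Ideal.Quotient.mk (J.map (algebraMap A' B'))) = I := by
  apply le_antisymm
  · rw [Ideal.map_le_iff_le_comap]
    rintro y ⟨x', hx', z, rfl, hz⟩
    rw [Ideal.mem_comap, map_add, mk_mu, add_zero]
    exact mk_mem I' hI' hx'
  · intro x hx
    have h1 : x ∈ I'.map (Ideal.Quotient.mk (J.map (algebraMap A' B'))) := hI' ▸ hx
    rw [Ideal.mem_map_iff_of_surjective _ Ideal.Quotient.mk_surjective] at h1
    obtain ⟨x', hx', rfl⟩ := h1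
    obtain ⟨z, hz⟩ := LinearMap.rTensor_surjective (↥J) (pi_surjective (I := I))
      (φ ⟨Ideal.Quotient.mk _ x', hx⟩)
    have : x' + mu J B' z ∈ translate I' φ hI' := ⟨x', hx', z, rfl, hz⟩
    have h2 := Ideal.mem_map_of_mem (Ideal.Quotient.mk (J.map (algebraMap A' B'))) this
    rwa [map_add, mk_mu, add_zero] at h2

lemma translate_diff [Module.Flat A' (B' ⧸ I')] (x : (B' ⧸ J.map (algebraMap A' B'))) (hx : x ∈ I)
    (x' x'' : B') (hx' : x' ∈ I') (hx'' : x'' ∈ translate I' φ hI')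
    (h1 : Ideal.Quotient.mk (J.map (algebraMap A' B')) x' = x)
    (h2 : Ideal.Quotient.mk (J.map (algebraMap A' B')) x'' = x)
    (z : B' ⊗[A'] ↥J) (hz : mu J B' z = x'' - x') :
    LinearMap.rTensor ↥J (IsScalarTower.toAlgHom A' B' ((B' ⧸ J.map (algebraMap A' B')) ⧸ I)).toLinearMap z
      = φ ⟨x, hx⟩ := by
  obtain ⟨y', hy', w, rfl, hw⟩ := hx''
  have hzw : mu J B' (z - w) ∈ I' := by
    rw [map_sub, hz]
    have : y' + mu J B' w - x' - mu J B' w = y' - x' := by ring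
    rw [this]
    exact sub_mem hy' hx'
  have h0 := key J I' _ (pi_zero hI') (z - w) hzw
  rw [map_sub, sub_eq_zero] at h0
  rw [h0, hw]
  congr 1
  apply Subtype.ext
  change Ideal.Quotient.mk _ y' = x
  rw [← h2, map_add, mk_mu, add_zero]

lemma mu_injective_translate (hJ : J * J = ⊥) [Module.Flat A' (B' ⧸ I')] :
    Function.Injective (mu J (B' ⧸ translate I' φ hI')) := by
  rw [injective_iff_map_eq_zero]
  intro t ht
  have hq : Function.Surjective ((Submodule.mkQ (translate I' φ hI')).restrictScalars A') := by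
    intro y
    obtain ⟨y, rfl⟩ := Submodule.Quotient.mk_surjective _ y
    exact ⟨y, rfl⟩
  have hs : Function.Surjective (LinearMap.rTensor (↥J)
    ((Submodule.mkQ (translate I' φ hI')).restrictScalars A')) := 
    LinearMap.rTensor_surjective (↥J) hq
  obtain ⟨z, rfl⟩ := hs t
  rw [mu_natural] at ht
  have hz : mu J B' z ∈ translate I' φ hI' := (Submodule.Quotient.mk_eq_zero _).mp ht
  obtain ⟨x', hx', w, hzw, hw⟩ := hz
  have hx0 : x' = mu J B' (z - w) := by rw [map_sub, hzw]; ring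
  have hmk : Ideal.Quotient.mk (J.map (algebraMap A' B')) x' = 0 := by rw [hx0, mk_mu]
  have hw0 : LinearMap.rTensor ↥J
      (IsScalarTower.toAlgHom A' B' ((B' ⧸ J.map (algebraMap A' B')) ⧸ I)).toLinearMap w = 0 := by
    rw [hw]
    have : (⟨Ideal.Quotient.mk (J.map (algebraMap A' B')) x', mk_mem I' hI' hx'⟩ : ↥I) = 0 :=
      Subtype.ext hmk
    rw [this, map_zero]
  have hzw0 := key J I' _ (pi_zero hI') (z - w) (hx0 ▸ hx')
  have e1 := K_p hJ _ (translate_map I' φ hI') w hw0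
  have e2 := K_p hJ _ (translate_map I' φ hI') (z - w) hzw0
  rw [map_sub, e1, sub_zero] at e2
  exact e2

end construct



section flat

lemma mu_mem_smul_top {M : Type u} [AddCommGroup M] [Module A' M] (t : M ⊗[A'] ↥J) :
    mu J M t ∈ (J • ⊤ : Submodule A' M) := by
  induction t using TensorProduct.induction_on with
  | zero => simp
  | tmul m j => rw [mu_tmul]; exact Submodule.smul_mem_smul j.2 Submodule.mem_top
  | add x y hx hy => rw [map_add]; exact add_mem hx hy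

lemma flat_base (I₂ : Ideal B')
    (hI₂ : I₂.map (Ideal.Quotient.mk (J.map (algebraMap A' B'))) = I)
    [Module.Flat (A' ⧸ J) ((B' ⧸ J.map (algebraMap A' B')) ⧸ I)] :
    Module.Flat (A' ⧸ J) ((A' ⧸ J) ⊗[A'] (B' ⧸ I₂)) := by
  let g0 : B' ⧸ I₂ →ₗ[B'] (B' ⧸ J.map (algebraMap A' B')) ⧸ I :=
    Submodule.liftQ I₂ (Algebra.linearMap B' _) (fun x hx => pi_zero hI₂ x hx)
  let g : B' ⧸ I₂ →ₗ[A'] (B' ⧸ J.map (algebraMap A' B')) ⧸ I := g0.restrictScalars A'
  have hgmk : ∀ b : B', g (Submodule.Quotient.mk b) =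
      Ideal.Quotient.mk I (Ideal.Quotient.mk _ b) := fun b => rfl
  have hg : Function.Surjective g := by
    intro y
    obtain ⟨y, rfl⟩ := Ideal.Quotient.mk_surjective y
    obtain ⟨y, rfl⟩ := Ideal.Quotient.mk_surjective y
    exact ⟨Submodule.Quotient.mk y, rfl⟩
  have hker : LinearMap.ker g = (J • ⊤ : Submodule A' (B' ⧸ I₂)) := by
    apply le_antisymm
    · intro m hm
      obtain ⟨b, rfl⟩ := Submodule.Quotient.mk_surjective _ m
      rw [LinearMap.mem_ker, hgmk, Ideal.Quotient.eq_zero_iff_mem, ← hI₂,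
        Ideal.mem_map_iff_of_surjective _ Ideal.Quotient.mk_surjective] at hm
      obtain ⟨a, ha, hab⟩ := hm
      have : b - a ∈ J.map (algebraMap A' B') := by rw [← Ideal.Quotient.eq, hab]
      obtain ⟨w, hw⟩ := exists_mu_eq J this
      have h1 : (Submodule.Quotient.mk b : B' ⧸ I₂) = Submodule.Quotient.mk (b - a) := by
        rw [Submodule.Quotient.mk_sub, (Submodule.Quotient.mk_eq_zero I₂).mpr ha, sub_zero]
      rw [h1, ← hw]
      have h2 := mu_natural J ((Submodule.mkQ I₂).restrictScalars A') w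
      change _ = (Submodule.Quotient.mk (mu J B' w) : B' ⧸ I₂) at h2
      rw [← h2]
      exact mu_mem_smul_top _
    · rw [Submodule.smul_le]
      intro j hj m _
      rw [LinearMap.mem_ker, map_smul]
      obtain ⟨y, hy⟩ := Ideal.Quotient.mk_surjective (g m)
      obtain ⟨y, rfl⟩ := Ideal.Quotient.mk_surjective y
      rw [← hy]
      change Ideal.Quotient.mk I (Ideal.Quotient.mk _ (j • y)) = 0
      have : Ideal.Quotient.mk (J.map (algebraMap A' B')) (j • y) = 0 := by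
        rw [Ideal.Quotient.eq_zero_iff_mem, Algebra.smul_def]
        exact Ideal.mul_mem_right _ _ (Ideal.mem_map_of_mem _ hj)
      rw [this, map_zero]
  let e : ((A' ⧸ J) ⊗[A'] (B' ⧸ I₂)) ≃ₗ[A'] ((B' ⧸ J.map (algebraMap A' B')) ⧸ I) :=
    TensorProduct.quotTensorEquivQuotSMul (B' ⧸ I₂) J ≪≫ₗ
      Submodule.quotEquivOfEq _ _ hker.symm ≪≫ₗ g.quotKerEquivOfSurjective hg
  exact Module.Flat.of_linearEquiv (e.extendScalarsOfSurjective Ideal.Quotient.mk_surjective)

end flat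



section mainthm

lemma lid_rTensor_eq_mu {M : Type u} [AddCommGroup M] [Module A' M] (t : ↥J ⊗[A'] M) :
    TensorProduct.lid A' M (LinearMap.rTensor M (Submodule.subtype J) t) =
      mu J M (TensorProduct.comm A' ↥J M t) := by
  induction t using TensorProduct.induction_on with
  | zero => simp
  | tmul j m => simp
  | add x y hx hy => simp only [map_add, hx, hy]

lemma rTensor_injective_of_mu {M : Type u} [AddCommGroup M] [Module A' M]
    (h : Function.Injective (mu J M)) :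
    Function.Injective (LinearMap.rTensor M (Submodule.subtype J)) := by
  rw [injective_iff_map_eq_zero]
  intro t ht
  have := lid_rTensor_eq_mu (J := J) t
  rw [ht, map_zero] at this
  have h2 := h (this.symm.trans (map_zero _).symm)
  exact (TensorProduct.comm A' ↥J M).injective (h2.trans (map_zero _).symm)

/-- the difference condition -/
def Diff (I' : Ideal B') (φ : ↥I →ₗ[B'] (((B' ⧸ J.map (algebraMap A' B')) ⧸ I) ⊗[A'] ↥J))
    (I'' : Ideal B') : Prop :=
  ∀ (x : (B' ⧸ J.map (algebraMap A' B'))) (hx : x ∈ I) (x' x'' : B'), x' ∈ I' → x'' ∈ I'' →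
    Ideal.Quotient.mk (J.map (algebraMap A' B')) x' = x →
    Ideal.Quotient.mk (J.map (algebraMap A' B')) x'' = x →
    ∀ z : B' ⊗[A'] ↥J,
      TensorProduct.rid A' B' (LinearMap.lTensor B' (Submodule.subtype J) z) = x'' - x' →
      LinearMap.rTensor ↥J
        (IsScalarTower.toAlgHom A' B' ((B' ⧸ J.map (algebraMap A' B')) ⧸ I)).toLinearMap z = φ ⟨x, hx⟩

lemma le_of_diff (hJ : J * J = ⊥) (I' : Ideal B')
    (hI' : I'.map (Ideal.Quotient.mk (J.map (algebraMap A' B'))) = I)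
    (φ : ↥I →ₗ[B'] (((B' ⧸ J.map (algebraMap A' B')) ⧸ I) ⊗[A'] ↥J))
    (I₁ I₂ : Ideal B')
    (h₁ : I₁.map (Ideal.Quotient.mk (J.map (algebraMap A' B'))) = I)
    (h₂ : I₂.map (Ideal.Quotient.mk (J.map (algebraMap A' B'))) = I)
    (d₁ : Diff I' φ I₁) (d₂ : Diff I' φ I₂) : I₁ ≤ I₂ := by
  intro x₁ hx₁
  have hx : Ideal.Quotient.mk (J.map (algebraMap A' B')) x₁ ∈ I := mk_mem I₁ h₁ hx₁
  have e1 : Ideal.Quotient.mk (J.map (algebraMap A' B')) x₁ ∈
      I'.map (Ideal.Quotient.mk (J.map (algebraMap A' B'))) := hI' ▸ hx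
  have e2 : Ideal.Quotient.mk (J.map (algebraMap A' B')) x₁ ∈
      I₂.map (Ideal.Quotient.mk (J.map (algebraMap A' B'))) := h₂ ▸ hx
  rw [Ideal.mem_map_iff_of_surjective _ Ideal.Quotient.mk_surjective] at e1 e2
  obtain ⟨x', hx', e1⟩ := e1
  obtain ⟨x₂, hx₂, e2⟩ := e2
  have m1 : x₁ - x' ∈ J.map (algebraMap A' B') := by rw [← Ideal.Quotient.eq, e1]
  have m2 : x₂ - x' ∈ J.map (algebraMap A' B') := by rw [← Ideal.Quotient.eq, e2, e1]
  obtain ⟨z₁, hz₁⟩ := exists_mu_eq J m1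
  obtain ⟨z₂, hz₂⟩ := exists_mu_eq J m2
  have q1 := d₁ _ hx x' x₁ hx' hx₁ e1 rfl z₁ hz₁
  have q2 := d₂ _ hx x' x₂ hx' hx₂ e1 e2 z₂ hz₂
  have q : LinearMap.rTensor ↥J
      (IsScalarTower.toAlgHom A' B' ((B' ⧸ J.map (algebraMap A' B')) ⧸ I)).toLinearMap (z₁ - z₂) = 0 := by
    rw [map_sub, q1, q2, sub_self]
  have := K_mu hJ I₂ h₂ _ q
  rw [map_sub, hz₁, hz₂] at this
  have h3 : x₁ = (x₁ - x' - (x₂ - x')) + x₂ := by ring
  rw [h3]
  exact add_mem this hx₂

theorem main17368 (A' : Type u) [CommRing A'] [IsNoetherianRing A']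
    (J : Ideal A') (hJ : J * J = ⊥) (B' : Type u) [CommRing B'] [Algebra A' B'] [Module.Flat A' B']
    (I : Ideal (B' ⧸ J.map (algebraMap A' B')))
    [Module.Flat (A' ⧸ J) ((B' ⧸ J.map (algebraMap A' B')) ⧸ I)]
    (I' : Ideal B') [Module.Flat A' (B' ⧸ I')]
    (hI' : I'.map (Ideal.Quotient.mk (J.map (algebraMap A' B'))) = I)
    (φ : ↥I →ₗ[B'] (((B' ⧸ J.map (algebraMap A' B')) ⧸ I) ⊗[A'] ↥J)) :
    ∃! I'' : Ideal B', Module.Flat A' (B' ⧸ I'') ∧
      I''.map (Ideal.Quotient.mk (J.map (algebraMap A' B'))) = I ∧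
      (∀ (x : (B' ⧸ J.map (algebraMap A' B'))) (hx : x ∈ I) (x' x'' : B'), x' ∈ I' → x'' ∈ I'' →
          Ideal.Quotient.mk (J.map (algebraMap A' B')) x' = x → Ideal.Quotient.mk (J.map (algebraMap A' B')) x'' = x →
          ∀ z : B' ⊗[A'] ↥J, TensorProduct.rid A' B' (LinearMap.lTensor B' (Submodule.subtype J) z) = x'' - x' →
            LinearMap.rTensor ↥J (IsScalarTower.toAlgHom A' B' ((B' ⧸ J.map (algebraMap A' B')) ⧸ I)).toLinearMap z = φ ⟨x, hx⟩) := by
  have hd : Diff I' φ (translate I' φ hI') := fun x hx x' x'' hx' hx'' h1 h2 z hz =>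
    translate_diff I' φ hI' x hx x' x'' hx' hx'' h1 h2 z hz
  refine ⟨translate I' φ hI', ⟨?_, translate_map I' φ hI', hd⟩, ?_⟩
  · haveI := flat_base (translate I' φ hI') (translate_map I' φ hI')
    exact Groth.Agent.H1.flat_of_isNilpotent_of_flat_quotient J ⟨2, by rw [pow_two, hJ]; rfl⟩
      (rTensor_injective_of_mu (mu_injective_translate I' φ hI' hJ))
  · rintro I₂ ⟨_, hI₂, d₂⟩
    exact le_antisymm (le_of_diff hJ I' hI' φ _ _ hI₂ (translate_map I' φ hI') d₂ hd)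
      (le_of_diff hJ I' hI' φ _ _ (translate_map I' φ hI') hI₂ hd d₂)

end mainthm

end H5Deform
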