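import Mathlib

open TensorProduct MvPolynomial

namespace H5EtModel

universe u

section

variable {ι : Type u} [Preorder ι] [IsDirected ι (· ≤ ·)] [Nonempty ι]
    (G : ι → Type u) [∀ i, CommRing (G i)] (f : ∀ i j, i ≤ j → (G i →+* G j))
    (A : Type u) [CommRing A] (g : ∀ i, G i →+* A)
    (hg : ∀ i j (h : i ≤ j), (g j).comp (f i j h) = g i)
    (hker : ∀ i (x : G i), g i x = 0 → ∃ j, ∃ h : i ≤ j, f i j h x = 0)

include hg hker in
/-- finitely many elements of the kernel die at a common later stage (no functoriality of `f`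
needed). -/
theorem lemmaK (i : ι) (s : Finset (G i)) (hs : ∀ y ∈ s, g i y = 0) :
    ∃ j, ∃ θ : G i →+* G j, (g j).comp θ = g i ∧ ∀ y ∈ s, θ y = 0 := by
  classical
  induction s using Finset.induction_on with
  | empty => exact ⟨i, RingHom.id _, by simp, by simp⟩
  | insert a s _ ih =>
    obtain ⟨j, θ, hθ, hθs⟩ := ih (fun y hy => hs y (Finset.mem_insert_of_mem hy))
    have h0 : g j (θ a) = 0 := by
      have := DFunLike.congr_fun hθ a
      simp only [RingHom.coe_comp, Function.comp_apply] at this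
      rw [this]; exact hs a (Finset.mem_insert_self a s)
    obtain ⟨j', hjj', hz⟩ := hker j (θ a) h0
    refine ⟨j', (f j j' hjj').comp θ, ?_, ?_⟩
    · rw [← RingHom.comp_assoc, hg, hθ]
    · intro y hy
      rcases Finset.mem_insert.mp hy with rfl | hy
      · exact hz
      · simp [hθs y hy]


include hg hker in
/-- a finitely generated `ℤ`-subalgebra of the colimit lifts to a finite stage. -/
theorem exists_lift (hsurj : ∀ a : A, ∃ i, ∃ x : G i, g i x = a) (A₀ : Subalgebra ℤ A)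
    (hfg : A₀.FG) :
    ∃ (j : ι) (φ : A₀ →+* G j), ∀ a : A₀, g j (φ a) = (a : A) := by
  classical
  haveI : Algebra.FiniteType ℤ A₀ := (Subalgebra.fg_iff_finiteType A₀).mp hfg
  haveI : Algebra.FinitePresentation ℤ A₀ := Algebra.FinitePresentation.of_finiteType.mp ‹_›
  obtain ⟨n, π, hπ, hkerπ⟩ := Algebra.FinitePresentation.out (R := ℤ) (A := A₀)
  obtain ⟨m, P, hP⟩ := Submodule.fg_iff_exists_fin_generating_family.mp hkerπ
  have hP' : Ideal.span (Set.range P) = RingHom.ker π.toRingHom := hP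
  choose i₁ x₁ hx₁ using fun k : Fin n => hsurj ((π (X k) : A₀) : A)
  obtain ⟨i₀, hi₀⟩ := Finset.exists_le (Finset.univ.image i₁)
  have hle : ∀ k, i₁ k ≤ i₀ := fun k => hi₀ _ (Finset.mem_image_of_mem _ (Finset.mem_univ k))
  let b : Fin n → G i₀ := fun k => f (i₁ k) i₀ (hle k) (x₁ k)
  have hb : ∀ k, g i₀ (b k) = ((π (X k) : A₀) : A) := by
    intro k
    have := DFunLike.congr_fun (hg (i₁ k) i₀ (hle k)) (x₁ k)
    simp only [RingHom.coe_comp, Function.comp_apply] at this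
    rw [this, hx₁]
  let ψ₀ : MvPolynomial (Fin n) ℤ →+* G i₀ := MvPolynomial.eval₂Hom (Int.castRingHom _) b
  have hcomp : (g i₀).comp ψ₀ = (A₀.val.toRingHom).comp π.toRingHom := by
    refine MvPolynomial.ringHom_ext (fun z => ?_) (fun k => ?_)
    · simp
    · simp [ψ₀, hb]
  obtain ⟨j, θ, hθ, hθs⟩ := lemmaK G f A g hg hker i₀ (Finset.univ.image (fun l => ψ₀ (P l)))
    (by
      intro y hy
      obtain ⟨l, -, rfl⟩ := Finset.mem_image.mp hy
      have := DFunLike.congr_fun hcomp (P l)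
      simp only [RingHom.coe_comp, Function.comp_apply] at this
      rw [this]
      have hPl : P l ∈ RingHom.ker π.toRingHom := hP' ▸ Ideal.subset_span ⟨l, rfl⟩
      rw [RingHom.mem_ker] at hPl
      rw [hPl]; simp)
  let ψ : MvPolynomial (Fin n) ℤ →+* G j := θ.comp ψ₀
  have hψle : RingHom.ker π.toRingHom ≤ RingHom.ker ψ := by
    rw [← hP', Ideal.span_le]
    rintro _ ⟨l, rfl⟩
    exact hθs _ (Finset.mem_image_of_mem _ (Finset.mem_univ l))
  let φ : A₀ →+* G j := RingHom.liftOfSurjective π.toRingHom hπ ⟨ψ, hψle⟩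
  refine ⟨j, φ, fun a => ?_⟩
  obtain ⟨q, rfl⟩ := hπ a
  have h1 : φ (π q) = ψ q := RingHom.liftOfRightInverse_comp_apply _ _ _ _ q
  rw [h1]
  have h2 := DFunLike.congr_fun hθ (ψ₀ q)
  have h3 := DFunLike.congr_fun hcomp q
  simp only [RingHom.coe_comp, Function.comp_apply] at h2 h3
  change g j (θ (ψ₀ q)) = _
  rw [h2, h3]
  rfl

end

open TensorProduct in
theorem main {ι : Type u} [Preorder ι] [IsDirected ι (· ≤ ·)] [Nonempty ι]
    (G : ι → Type u) [∀ i, CommRing (G i)] (f : ∀ i j, i ≤ j → (G i →+* G j))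
    (A : Type u) [CommRing A] (g : ∀ i, G i →+* A) (hg : ∀ i j (h : i ≤ j), (g j).comp (f i j h) = g i)
    (hsurj : ∀ a : A, ∃ i, ∃ x : G i, g i x = a)
    (hker : ∀ i (x : G i), g i x = 0 → ∃ j, ∃ h : i ≤ j, f i j h x = 0)
    (B : Type u) [CommRing B] [Algebra A B] [Algebra.Etale A B] :
    ∃ (i : ι) (Bi : Type u) (_ : CommRing Bi) (_ : Algebra (G i) Bi), Algebra.Etale (G i) Bi ∧
      letI : Algebra (G i) A := (g i).toAlgebra
      Nonempty (B ≃ₐ[A] A ⊗[G i] Bi) := by
  obtain ⟨A₀, B₀, _, _, hfg, het, ⟨e⟩⟩ := Algebra.Etale.exists_subalgebra_fg ℤ A B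
  obtain ⟨j, φ, hφ⟩ := exists_lift G f A g hg hker hsurj A₀ hfg
  letI : Algebra A₀ (G j) := φ.toAlgebra
  letI : Algebra (G j) A := (g j).toAlgebra
  haveI : IsScalarTower A₀ (G j) A := IsScalarTower.of_algebraMap_eq (fun a => (hφ a).symm)
  refine ⟨j, G j ⊗[A₀] B₀, inferInstance, inferInstance, inferInstance, ?_⟩
  exact ⟨e.trans (Algebra.TensorProduct.cancelBaseChange A₀ (G j) A A B₀).symm⟩

end H5EtModel
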