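import Mathlib

open PowerSeries

namespace H5ExpProd

/-- the exponential of a power series without constant term. -/
noncomputable def E (f : ℚ⟦X⟧) : ℚ⟦X⟧ := (exp ℚ).subst f

theorem hs {f : ℚ⟦X⟧} (hf : constantCoeff f = 0) : HasSubst f :=
  HasSubst.of_constantCoeff_zero' hf

theorem constantCoeff_E {f : ℚ⟦X⟧} (hf : constantCoeff f = 0) : constantCoeff (E f) = 1 := by
  have h1 : exp ℚ = 1 + (exp ℚ - 1) := by ring
  have h2 : constantCoeff ((exp ℚ - 1 : ℚ⟦X⟧).subst f) = 0 :=
    constantCoeff_subst_eq_zero hf _ (by simp [constantCoeff_exp])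
  rw [E, h1, subst_add (hs hf)]
  have h3 : (1 : ℚ⟦X⟧).subst f = (1 : ℚ⟦X⟧) := by
    have := subst_C (a := f) (1 : ℚ)
    simpa using this
  rw [h3, map_add, h2]
  simp

theorem derivative_E {f : ℚ⟦X⟧} (hf : constantCoeff f = 0) :
    d⁄dX ℚ (E f) = E f * d⁄dX ℚ f := by
  rw [E, derivative_subst (hs hf), derivative_exp]

/-- uniqueness for the linear ODE `G' = G h`. -/
theorem ode_unique (h G H : ℚ⟦X⟧) (hG : d⁄dX ℚ G = G * h) (hH : d⁄dX ℚ H = H * h)
    (h0 : constantCoeff G = constantCoeff H) : G = H := by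
  ext n
  induction n using Nat.strong_induction_on with
  | _ n ih =>
    rcases n with _ | n
    · simpa using h0
    · have e1 := congrArg (coeff n) hG
      have e2 := congrArg (coeff n) hH
      rw [coeff_derivative, coeff_mul] at e1 e2
      have e3 : ∑ p ∈ Finset.HasAntidiagonal.antidiagonal n, coeff p.1 G * coeff p.2 h =
          ∑ p ∈ Finset.HasAntidiagonal.antidiagonal n, coeff p.1 H * coeff p.2 h := by
        refine Finset.sum_congr rfl (fun p hp => ?_)
        rw [ih p.1 (by
          have := Finset.HasAntidiagonal.mem_antidiagonal.mp hp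
          omega)]
      rw [e3, ← e2] at e1
      have hne : ((n : ℚ) + 1) ≠ 0 := by positivity
      exact mul_right_cancel₀ hne e1

theorem E_add {f g : ℚ⟦X⟧} (hf : constantCoeff f = 0) (hg : constantCoeff g = 0) :
    E (f + g) = E f * E g := by
  have hfg : constantCoeff (f + g) = 0 := by rw [map_add, hf, hg, add_zero]
  apply ode_unique (d⁄dX ℚ f + d⁄dX ℚ g)
  · rw [derivative_E hfg, map_add]
  · rw [Derivation.leibniz, derivative_E hf, derivative_E hg]
    simp only [smul_eq_mul]
    ring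
  · rw [constantCoeff_E hfg, map_mul, constantCoeff_E hf, constantCoeff_E hg, mul_one]

theorem E_zero : E 0 = 1 := by
  apply ode_unique 0
  · rw [derivative_E (map_zero _), map_zero]
  · rw [derivative_one, mul_zero]
  · rw [constantCoeff_E (map_zero _), map_one]

theorem E_nsmul {f : ℚ⟦X⟧} (hf : constantCoeff f = 0) (k : ℕ) : E (k • f) = E f ^ k := by
  induction k with
  | zero => simp [E_zero]
  | succ k ih =>
    have hk : constantCoeff (k • f) = 0 := by simp [hf]
    rw [succ_nsmul, E_add hk hf, ih, pow_succ]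

theorem E_neg_mul {f : ℚ⟦X⟧} (hf : constantCoeff f = 0) : E (-f) * E f = 1 := by
  have hnf : constantCoeff (-f) = 0 := by simp [hf]
  rw [← E_add hnf hf, neg_add_cancel, E_zero]

theorem E_sum {ι : Type*} (s : Finset ι) (g : ι → ℚ⟦X⟧) (hg : ∀ i ∈ s, constantCoeff (g i) = 0) :
    E (∑ i ∈ s, g i) = ∏ i ∈ s, E (g i) := by
  classical
  induction s using Finset.induction_on with
  | empty => simp [E_zero]
  | insert a s ha ih =>
    have h1 : constantCoeff (g a) = 0 := hg a (Finset.mem_insert_self a s)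
    have h2 : constantCoeff (∑ i ∈ s, g i) = 0 := by
      rw [map_sum]
      exact Finset.sum_eq_zero (fun i hi => hg i (Finset.mem_insert_of_mem hi))
    rw [Finset.sum_insert ha, Finset.prod_insert ha, E_add h1 h2,
      ih (fun i hi => hg i (Finset.mem_insert_of_mem hi))]

/-- `L a = Σ_{v ≥ 1} a^v t^v / v = -log (1 - a t)`. -/
noncomputable def L (a : ℚ) : ℚ⟦X⟧ := mk fun v : ℕ => if v = 0 then (0 : ℚ) else a ^ v / (v : ℚ)

theorem constantCoeff_L (a : ℚ) : constantCoeff (L a) = 0 := by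
  rw [← coeff_zero_eq_constantCoeff_apply, L, coeff_mk]
  simp

theorem derivative_L_mul (a : ℚ) : d⁄dX ℚ (L a) * (1 - C a * X) = C a := by
  have h1 : d⁄dX ℚ (L a) = mk fun v : ℕ => a ^ (v + 1) := by
    ext v
    rw [coeff_derivative, L, coeff_mk, coeff_mk, if_neg (Nat.succ_ne_zero v)]
    have : ((v : ℚ) + 1) ≠ 0 := by positivity
    push_cast
    field_simp
  rw [h1]
  ext n
  rw [mul_sub, mul_one, map_sub, mul_comm (C a) X, ← mul_assoc, coeff_mul_C]
  rcases n with _ | n
  · simp
  · rw [coeff_succ_mul_X, coeff_mk, coeff_mk, coeff_C, if_neg (Nat.succ_ne_zero n)]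
    ring

theorem E_L_mul (a : ℚ) : E (L a) * (1 - C a * X) = 1 := by
  apply derivative.ext
  · rw [Derivation.leibniz, derivative_E (constantCoeff_L a), derivative_one]
    simp only [smul_eq_mul, map_sub, derivative_one, Derivation.leibniz, derivative_C,
      derivative_X, smul_zero, zero_sub, add_zero]
    have := derivative_L_mul a
    linear_combination E (L a) * this
  · rw [map_mul, constantCoeff_E (constantCoeff_L a)]
    simp

/-- the single-term identity. -/
theorem E_zsmul_L (a : ℚ) (r : ℤ) :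
    E ((r : ℚ) • L a) * (1 - C a * X) ^ r.toNat = (1 - C a * X) ^ (-r).toNat := by
  have hk : ∀ k : ℕ, E (k • L a) * (1 - C a * X) ^ k = 1 := by
    intro k
    rw [E_nsmul (constantCoeff_L a), ← mul_pow, E_L_mul, one_pow]
  obtain ⟨k, rfl | rfl⟩ := Int.eq_nat_or_neg r
  · have e1 : ((k : ℤ) : ℚ) • L a = k • L a := by
      rw [Int.cast_natCast, Nat.cast_smul_eq_nsmul]
    rw [e1]
    simp only [Int.toNat_natCast, Int.toNat_neg_natCast, pow_zero]
    exact hk k
  · have e1 : ((-(k : ℤ) : ℤ) : ℚ) • L a = -(k • L a) := by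
      rw [Int.cast_neg, Int.cast_natCast, neg_smul, Nat.cast_smul_eq_nsmul]
    rw [e1]
    simp only [Int.toNat_neg_natCast, neg_neg, Int.toNat_natCast, pow_zero, mul_one]
    have hkc : constantCoeff (k • L a) = 0 := by simp [constantCoeff_L]
    have h1 := E_neg_mul hkc
    calc E (-(k • L a)) = E (-(k • L a)) * (E (k • L a) * (1 - C a * X) ^ k) := by
          rw [hk k, mul_one]
      _ = (E (-(k • L a)) * E (k • L a)) * (1 - C a * X) ^ k := by ring
      _ = (1 - C a * X) ^ k := by rw [h1, one_mul]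

theorem main (R : LaurentPolynomial ℤ) (q : ℤ) (hq : 1 < q) :
    (PowerSeries.exp ℚ).subst
        (PowerSeries.mk fun v : ℕ => if v = 0 then (0 : ℚ)
          else (R.coeff.sum fun (n : ℤ) (r : ℤ) => (r : ℚ) * (q : ℚ) ^ (n * (v : ℤ))) / (v : ℚ))
      * ∏ n ∈ R.coeff.support, (1 - PowerSeries.C ((q : ℚ) ^ n) * PowerSeries.X) ^ (R.coeff n).toNat
    = ∏ n ∈ R.coeff.support, (1 - PowerSeries.C ((q : ℚ) ^ n) * PowerSeries.X) ^ (-(R.coeff n)).toNat := by
  have hq0 : (q : ℚ) ≠ 0 := by
    have : (0 : ℤ) < q := by omega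
    exact_mod_cast this.ne'
  have hsum : (PowerSeries.mk fun v : ℕ => if v = 0 then (0 : ℚ)
          else (R.coeff.sum fun (n : ℤ) (r : ℤ) => (r : ℚ) * (q : ℚ) ^ (n * (v : ℤ))) / (v : ℚ)) =
      ∑ n ∈ R.coeff.support, ((R.coeff n : ℤ) : ℚ) • L ((q : ℚ) ^ n) := by
    ext v
    rw [coeff_mk, map_sum]
    by_cases hv : v = 0
    · subst hv
      simp [L]
    · rw [if_neg hv, Finsupp.sum, Finset.sum_div]
      refine Finset.sum_congr rfl (fun n _ => ?_)
      rw [coeff_smul, L, coeff_mk, if_neg hv, zpow_mul, zpow_natCast]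
      simp only [smul_eq_mul]
      ring
  change E _ * _ = _
  rw [hsum, E_sum _ _ (fun n _ => by simp [constantCoeff_L]), ← Finset.prod_mul_distrib]
  exact Finset.prod_congr rfl (fun n _ => E_zsmul_L _ _)

end H5ExpProd
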