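import Mathlib.Algebra.Module.FinitePresentation
import Mathlib.RingTheory.TensorProduct.IsBaseChangeRightExact
import Mathlib.RingTheory.Localization.BaseChange
import Mathlib.LinearAlgebra.TensorProduct.Quotient
import Mathlib.RingTheory.Localization.Integer
import Mathlib.LinearAlgebra.TensorProduct.Pi
import Mathlib.Algebra.Module.Torsion.Basic

open TensorProduct

namespace H5FPLift

universe u
variable (R : Type u) [CommRing R]

/-- coordinatewise algebra map -/
noncomputable def φ (A : Type*) [CommRing A] [Algebra R A] (n : ℕ) :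
    (Fin n → R) →ₗ[R] (Fin n → A) :=
  (Algebra.linearMap R A).compLeft (Fin n)

theorem φ_apply (A : Type*) [CommRing A] [Algebra R A] (n : ℕ) (x : Fin n → R) (i : Fin n) :
    φ R A n x i = algebraMap R A (x i) := rfl

theorem isBaseChange_φ (A : Type*) [CommRing A] [Algebra R A] (n : ℕ) :
    IsBaseChange A (φ R A n) := by
  refine IsBaseChange.of_equiv (TensorProduct.piScalarRight R A A (Fin n)) (fun x => ?_)
  ext i
  simp [φ_apply, Algebra.smul_def]

theorem isBaseChange_mkQ (I : Ideal R) (M : Type*) [AddCommGroup M] [Module R M] :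
    IsBaseChange (R ⧸ I) (I • ⊤ : Submodule R M).mkQ := by
  refine IsBaseChange.of_equiv
    ((TensorProduct.quotTensorEquivQuotSMul M I).extendScalarsOfSurjective
      Ideal.Quotient.mk_surjective) (fun x => ?_)
  change TensorProduct.quotTensorEquivQuotSMul M I ((Ideal.Quotient.mk I 1) ⊗ₜ x) = _
  simp


theorem exists_fp (A : Type u) [CommRing A] [Algebra R A]
    (H : ∀ (ι : Type) [Finite ι] (c : ι → A), ∃ u : R, IsUnit (algebraMap R A u) ∧
      ∀ i, ∃ r : R, algebraMap R A u * c i = algebraMap R A r)
    (M' : Type u) [AddCommGroup M'] [Module A M'] [Module R M'] [IsScalarTower R A M']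
    [Module.FinitePresentation A M'] :
    ∃ (M : Type u) (_ : AddCommGroup M) (_ : Module R M) (h : M →ₗ[R] M'),
      Module.FinitePresentation R M ∧ IsBaseChange A h := by
  classical
  obtain ⟨n, m, f', g', hf', hex⟩ := Module.FinitePresentation.exists_fin' A M'
  obtain ⟨u, hu, hr⟩ := H (Fin m × Fin n) (fun p => g' (Pi.single p.1 1) p.2)
  choose w hw using hr
  let g : (Fin m → R) →ₗ[R] (Fin n → R) := Fintype.linearCombination R (fun j => fun i => w (j, i))
  let g'' : (Fin m → A) →ₗ[A] (Fin n → A) := (algebraMap R A u) • g'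
  have hex'' : Function.Exact g'' f' := by
    intro y
    rw [hex y]
    obtain ⟨v, hv⟩ := hu.exists_left_inv
    constructor
    · rintro ⟨x, rfl⟩
      refine ⟨v • x, ?_⟩
      simp only [g'', LinearMap.smul_apply, map_smul, smul_smul]
      rw [hv, one_smul]
    · rintro ⟨x, rfl⟩
      exact ⟨algebraMap R A u • x, by simp [g'']⟩
  have comm₁ : (φ R A n).comp g = (g''.restrictScalars R).comp (φ R A m) := by
    refine (Pi.basisFun R (Fin m)).ext fun j => ?_
    ext i
    simp only [Pi.basisFun_apply, LinearMap.coe_comp, Function.comp_apply, φ_apply,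
      LinearMap.coe_restrictScalars, g'', LinearMap.smul_apply, Pi.smul_apply, smul_eq_mul, g,
      Fintype.linearCombination_apply_single, one_smul]
    rw [← hw (j, i)]
    have e : (φ R A m) (Pi.single j 1) = Pi.single j 1 := by
      funext k
      simp [φ_apply, Pi.single_apply, apply_ite (algebraMap R A)]
    rw [e]
  let N := LinearMap.range g
  have hker : ∀ x ∈ N, ((f'.restrictScalars R).comp (φ R A n)) x = 0 := by
    rintro _ ⟨x, rfl⟩
    have := LinearMap.congr_fun comm₁ x
    simp only [LinearMap.coe_comp, Function.comp_apply, LinearMap.coe_restrictScalars] at this ⊢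
    rw [this]
    exact hex''.apply_apply_eq_zero _
  let h₃ : ((Fin n → R) ⧸ N) →ₗ[R] M' := N.liftQ ((f'.restrictScalars R).comp (φ R A n)) hker
  refine ⟨(Fin n → R) ⧸ N, inferInstance, inferInstance, h₃, ?_, ?_⟩
  · refine Module.finitePresentation_of_free_of_surjective N.mkQ N.mkQ_surjective ?_
    rw [Submodule.ker_mkQ]
    have := (Module.Finite.fg_top (R := R) (M := Fin m → R)).map g
    rwa [← LinearMap.range_eq_map] at this
  · exact IsBaseChange.of_right_exact A (φ R A m) (φ R A n) h₃ (f := g) (g := N.mkQ)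
      (f' := g'') (g' := f') comm₁ (by ext x; simp [h₃]) (isBaseChange_φ R A m)
      (isBaseChange_φ R A n) (LinearMap.exact_map_mkQ_range g) N.mkQ_surjective hex'' hf'


theorem main (I : Ideal R)
    (S : Submonoid R) (M' : Type u) [AddCommGroup M']
    [Module (Localization (S.map (Ideal.Quotient.mk I))) M']
    [Module.FinitePresentation (Localization (S.map (Ideal.Quotient.mk I))) M'] :
    ∃ (M : Type u) (_ : AddCommGroup M) (_ : Module R M), Module.FinitePresentation R M ∧
      Nonempty (LocalizedModule (S.map (Ideal.Quotient.mk I)) (M ⧸ (I • ⊤ : Submodule R M))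
        ≃ₗ[Localization (S.map (Ideal.Quotient.mk I))] M') := by
  letI : Module R M' := Module.compHom M' (algebraMap R (Localization (S.map (Ideal.Quotient.mk I))))
  haveI : IsScalarTower R (Localization (S.map (Ideal.Quotient.mk I))) M' :=
    IsScalarTower.of_algebraMap_smul (fun r x => rfl)
  have H : ∀ (ι : Type) [Finite ι] (c : ι → Localization (S.map (Ideal.Quotient.mk I))),
      ∃ u : R, IsUnit (algebraMap R (Localization (S.map (Ideal.Quotient.mk I))) u) ∧
      ∀ i, ∃ r : R, algebraMap R (Localization (S.map (Ideal.Quotient.mk I))) u * c i =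
        algebraMap R (Localization (S.map (Ideal.Quotient.mk I))) r := by
    intro ι _ c
    obtain ⟨⟨b, hb⟩, hbc⟩ := IsLocalization.exist_integer_multiples_of_finite
      (S.map (Ideal.Quotient.mk I)) c
    obtain ⟨s, hs, rfl⟩ := Submonoid.mem_map.mp hb
    refine ⟨s, ?_, fun i => ?_⟩
    · rw [IsScalarTower.algebraMap_apply R (R ⧸ I)]
      exact IsLocalization.map_units _ (⟨_, hb⟩ : S.map (Ideal.Quotient.mk I))
    · obtain ⟨rb, hrb⟩ := hbc i
      obtain ⟨r, rfl⟩ := Ideal.Quotient.mk_surjective rb
      refine ⟨r, ?_⟩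
      rw [IsScalarTower.algebraMap_apply R (R ⧸ I) (Localization (S.map (Ideal.Quotient.mk I))) r,
        IsScalarTower.algebraMap_apply R (R ⧸ I) (Localization (S.map (Ideal.Quotient.mk I))) s]
      rw [Ideal.Quotient.algebraMap_eq, hrb, Algebra.smul_def]
  obtain ⟨M, _, _, h, hfp, hbc⟩ := exists_fp R (Localization (S.map (Ideal.Quotient.mk I))) H M'
  refine ⟨M, inferInstance, inferInstance, hfp, ⟨?_⟩⟩
  have b1 : IsBaseChange (R ⧸ I) (I • ⊤ : Submodule R M).mkQ := isBaseChange_mkQ R I M
  have b2 : IsBaseChange (Localization (S.map (Ideal.Quotient.mk I)))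
      (LocalizedModule.mkLinearMap (S.map (Ideal.Quotient.mk I)) (M ⧸ (I • ⊤ : Submodule R M))) :=
    IsLocalizedModule.isBaseChange (S.map (Ideal.Quotient.mk I)) _ _
  have b3 := b1.comp b2
  exact b3.equiv.symm ≪≫ₗ hbc.equiv

end H5FPLift
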