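import Mathlib.RingTheory.Flat.Equalizer
import Mathlib.LinearAlgebra.TensorProduct.Pi
import Mathlib.LinearAlgebra.TensorProduct.RightExactness
import Mathlib.RingTheory.TensorProduct.Basic
import Groth.Prelude.Def_CAlgX

set_option autoImplicit false
universe u
open TensorProduct

namespace H5H1Reg

variable (A B A' : Type u) [CommRing A] [CommRing B] [CommRing A'] [Algebra A B] [Algebra A A']
  (r : ℕ) (f : Fin r → B)

/-- the Koszul differential `B^r → B` -/
noncomputable def φ : (Fin r → B) →ₗ[B] B := Fintype.linearCombination B f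

theorem φ_apply (a : Fin r → B) : φ B r f a = ∑ i, a i * f i := by
  rw [φ, Fintype.linearCombination_apply]; rfl

/-- trivial relations -/
def triv : Set (Fin r → B) :=
  {v | ∃ i j : Fin r, v = Pi.single i (f j) - Pi.single j (f i)}

/-- the image relation vectors -/
def triv' : Set (Fin r → A' ⊗[A] B) :=
  {v | ∃ i j : Fin r, v = Pi.single i ((1 : A') ⊗ₜ[A] f j) - Pi.single j ((1 : A') ⊗ₜ[A] f i)}

/-- `e : A' ⊗ B^r ≃ (A' ⊗ B)^r` -/
noncomputable def e : A' ⊗[A] (Fin r → B) ≃ₗ[A'] (Fin r → A' ⊗[A] B) :=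
  TensorProduct.piRight A A' A' (fun _ : Fin r => B)

theorem e_tmul (x : A') (a : Fin r → B) (i : Fin r) : e A B A' r (x ⊗ₜ a) i = x ⊗ₜ a i := by
  simp [e]

theorem e_tmul_smul (x : A') (b : B) (a : Fin r → B) :
    e A B A' r (x ⊗ₜ (b • a)) = ((1 : A') ⊗ₜ[A] b) • e A B A' r (x ⊗ₜ a) := by
  funext i
  rw [Pi.smul_apply, e_tmul, e_tmul, Pi.smul_apply, smul_eq_mul, smul_eq_mul,
    Algebra.TensorProduct.tmul_mul_tmul, one_mul]

theorem e_tmul_triv (x : A') (v : Fin r → B) (hv : v ∈ triv B r f) :
    e A B A' r (x ⊗ₜ v) ∈ Submodule.span (A' ⊗[A] B) (triv' A B A' r f) := by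
  classical
  obtain ⟨i, j, rfl⟩ := hv
  have : e A B A' r (x ⊗ₜ (Pi.single i (f j) - Pi.single j (f i))) =
      (x ⊗ₜ[A] (1 : B)) • (Pi.single i ((1 : A') ⊗ₜ[A] f j) - Pi.single j ((1 : A') ⊗ₜ[A] f i)) := by
    funext k
    rw [e_tmul, Pi.smul_apply, Pi.sub_apply, Pi.sub_apply, tmul_sub, smul_eq_mul, mul_sub]
    congr 1
    · by_cases h : k = i
      · subst h; simp
      · simp [Pi.single_eq_of_ne h]
    · by_cases h : k = j
      · subst h; simp
      · simp [Pi.single_eq_of_ne h]
  rw [this]
  exact Submodule.smul_mem _ _ (Submodule.subset_span ⟨i, j, rfl⟩)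

end H5H1Reg

namespace H5H1Reg

variable (A B A' : Type u) [CommRing A] [CommRing B] [CommRing A'] [Algebra A B] [Algebra A A']
  (r : ℕ) (f : Fin r → B)

/-- elements of `A' ⊗ K` map into `K'`. -/
theorem e_tmul_mem (x : A') (z : Fin r → B) (hz : z ∈ Submodule.span B (triv B r f)) :
    e A B A' r (x ⊗ₜ z) ∈ Submodule.span (A' ⊗[A] B) (triv' A B A' r f) := by
  revert x
  refine Submodule.span_induction ?_ ?_ ?_ ?_ hz
  · intro v hv x
    exact e_tmul_triv A B A' r f x v hv
  · intro x
    rw [tmul_zero, map_zero]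
    exact Submodule.zero_mem _
  · intro v w _ _ hv hw x
    rw [tmul_add, map_add]
    exact Submodule.add_mem _ (hv x) (hw x)
  · intro b v _ hv x
    rw [e_tmul_smul]
    exact Submodule.smul_mem _ _ (hv x)

/-- the `A`-linear map `B^r → J` -/
noncomputable def φ₀ : (Fin r → B) →ₗ[A] ((Ideal.span (Set.range f)).restrictScalars A) :=
  ((φ B r f).restrictScalars A).codRestrict
    ((Ideal.span (Set.range f)).restrictScalars A) (fun a => by
      change φ B r f a ∈ Ideal.span (Set.range f)
      rw [φ_apply]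
      exact Ideal.sum_mem _ fun i _ => Ideal.mul_mem_left _ _ (Ideal.subset_span ⟨i, rfl⟩))

theorem φ₀_coe (a : Fin r → B) : ((φ₀ A B r f a : (Ideal.span (Set.range f)).restrictScalars A) : B) = ∑ i, a i * f i :=
  φ_apply B r f a

theorem φ₀_surjective : Function.Surjective (φ₀ A B r f) := by
  classical
  rintro ⟨y, hy⟩
  have : y ∈ LinearMap.range (φ B r f) := by
    have hle : Ideal.span (Set.range f) ≤ LinearMap.range (φ B r f) := by
      rw [Ideal.span_le]
      rintro _ ⟨i, rfl⟩
      exact ⟨Pi.single i 1, by rw [φ_apply]; simp [Pi.single_apply]⟩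
    exact hle hy
  obtain ⟨a, ha⟩ := this
  exact ⟨a, Subtype.ext ha⟩

/-- evaluating the base-changed Koszul differential -/
theorem sum_e_mul (t : A' ⊗[A] (Fin r → B)) :
    ∑ i, e A B A' r t i * ((1 : A') ⊗ₜ[A] f i) =
      (((Ideal.span (Set.range f)).restrictScalars A).subtype.lTensor A')
        ((φ₀ A B r f).lTensor A' t) := by
  induction t using TensorProduct.induction_on with
  | zero => simp
  | add x y hx hy =>
    rw [map_add, map_add, map_add, ← hx, ← hy, ← Finset.sum_add_distrib]
    refine Finset.sum_congr rfl fun i _ => ?_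
    rw [Pi.add_apply, add_mul]
  | tmul x a =>
    rw [LinearMap.lTensor_tmul, LinearMap.lTensor_tmul]
    change _ = x ⊗ₜ[A] ((φ₀ A B r f a : (Ideal.span (Set.range f)).restrictScalars A) : B)
    rw [φ₀_coe, tmul_sum]
    refine Finset.sum_congr rfl fun i _ => ?_
    rw [e_tmul, Algebra.TensorProduct.tmul_mul_tmul, mul_one]

theorem h1_baseChange (hflat : Module.Flat A (B ⧸ Ideal.span (Set.range f)))
    (hq : CAlgX.IsH1Regular f) :
    CAlgX.IsH1Regular (fun i => ((1 : A') ⊗ₜ[A] f i : A' ⊗[A] B)) := by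
  classical
  intro a' ha'
  set J := Ideal.span (Set.range f) with hJ
  -- injectivity of A' ⊗ J → A' ⊗ B
  have hinj : Function.Injective ((J.restrictScalars A).subtype.lTensor A') :=
    LinearMap.lTensor_injective_of_exact_of_flat
      ((Submodule.mkQ J).restrictScalars A) (Submodule.mkQ_surjective J)
      (J.restrictScalars A).subtype (Submodule.injective_subtype _)
      (by
        intro y
        change Submodule.mkQ J y = 0 ↔ y ∈ Set.range ((J.restrictScalars A).subtype)
        rw [Submodule.mkQ_apply, Submodule.Quotient.mk_eq_zero]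
        constructor
        · intro h; exact ⟨⟨y, h⟩, rfl⟩
        · rintro ⟨z, rfl⟩; exact z.2) A'
  set t := (e A B A' r).symm a' with ht
  have het : e A B A' r t = a' := LinearEquiv.apply_symm_apply _ _
  have h0 : (φ₀ A B r f).lTensor A' t = 0 := by
    apply hinj
    rw [map_zero, ← sum_e_mul, het]
    exact ha'
  have hex := lTensor_exact A' (LinearMap.exact_subtype_ker_map (φ₀ A B r f)) (φ₀_surjective A B r f)
  obtain ⟨u, hu⟩ := (hex t).mp h0
  rw [← het, ← hu]
  -- elements of the kernel lie in the span of trivial relations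
  have hker : ∀ z : LinearMap.ker (φ₀ A B r f), (z : Fin r → B) ∈ Submodule.span B (triv B r f) := by
    rintro ⟨z, hz⟩
    apply hq z
    have := congrArg Subtype.val (LinearMap.mem_ker.mp hz)
    rw [φ₀_coe] at this
    exact this
  clear hu
  induction u using TensorProduct.induction_on with
  | zero => rw [map_zero, map_zero]; exact Submodule.zero_mem _
  | add x y hx hy => rw [map_add, map_add]; exact Submodule.add_mem _ hx hy
  | tmul x z =>
    rw [LinearMap.lTensor_tmul]
    exact e_tmul_mem A B A' r f x z (hker z)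

end H5H1Reg
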