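import Groth.Agent.Lib.Helper5.CA2.MinorInv
import Mathlib.RingTheory.Ideal.AssociatedPrime.Finiteness
import Mathlib.RingTheory.Ideal.AssociatedPrime.Basic

set_option autoImplicit false
universe u
open Matrix

namespace H5McCoy

variable {R : Type u} [CommRing R] {n m : ℕ}

/-- minors of size larger than the number of columns vanish -/
theorem minorIdeal_eq_bot_of_lt (M : Matrix (Fin n) (Fin m) R) {r : ℕ} (h : m < r) :
    CAlgX.minorIdeal M r = ⊥ := by
  unfold CAlgX.minorIdeal
  rw [Ideal.span_eq_bot]
  rintro _ ⟨⟨κ, g⟩, rfl⟩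
  simp only
  have hni : ¬ Function.Injective g := fun hinj => by
    have := Fintype.card_le_of_injective g hinj
    simp at this
    omega
  rw [Function.Injective] at hni
  push_neg at hni
  obtain ⟨i, j, hij, hne⟩ := hni
  exact Matrix.det_zero_of_column_eq hne (by intro l; simp [hij])

/-- descending step in McCoy's theorem -/
theorem step (M : Matrix (Fin n) (Fin m) R) (hinj : Function.Injective (Matrix.mulVecLin M))
    (a : R) (r : ℕ) (hr : r < m)
    (h : ∀ (κ : Fin (r + 1) → Fin n) (g : Fin (r + 1) → Fin m), a * (M.submatrix κ g).det = 0)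
    (κ : Fin r → Fin n) (g : Fin r → Fin m) : a * (M.submatrix κ g).det = 0 := by
  classical
  -- a column outside the range of g
  have hns : ¬ Function.Surjective g := fun hs => by
    have := Fintype.card_le_of_surjective g hs
    simp at this
    omega
  rw [Function.Surjective] at hns
  push_neg at hns
  obtain ⟨j₀, hj₀⟩ := hns
  let g' : Fin (r + 1) → Fin m := Fin.cons j₀ g
  let y : Fin (r + 1) → R := fun t => a * ((-1) ^ (t : ℕ) * (M.submatrix κ (g' ∘ t.succAbove)).det)
  let x : Fin m → R := fun j => ∑ t, if g' t = j then y t else 0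
  have hMx : M.mulVec x = 0 := by
    ext i
    have h1 : (M.mulVec x) i = ∑ t, M i (g' t) * y t := by
      simp only [Matrix.mulVec, dotProduct, x, Finset.mul_sum]
      rw [Finset.sum_comm]
      refine Finset.sum_congr rfl fun t _ => ?_
      simp [mul_ite, Finset.sum_ite_eq]
    rw [h1]
    have h2 := Matrix.det_succ_row_zero (M.submatrix (Fin.cons i κ : Fin (r + 1) → Fin n) g')
    have h3 : ∑ t, M i (g' t) * y t =
        a * (M.submatrix (Fin.cons i κ : Fin (r + 1) → Fin n) g').det := by
      rw [h2, Finset.mul_sum]
      refine Finset.sum_congr rfl fun t _ => ?_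
      simp only [y, Matrix.submatrix_apply, Fin.cons_zero]
      have : (M.submatrix (Fin.cons i κ : Fin (r + 1) → Fin n) g').submatrix Fin.succ t.succAbove =
          M.submatrix κ (g' ∘ t.succAbove) := by
        ext p q
        simp [Matrix.submatrix_apply]
      rw [this]
      ring
    rw [h3, h]
    rfl
  have hx : x = 0 := by
    apply hinj
    rw [Matrix.mulVecLin_apply, hMx, map_zero]
  have hx0 : x j₀ = y 0 := by
    simp only [x]
    rw [Finset.sum_eq_single (0 : Fin (r + 1))]
    · simp [g']
    · intro t _ ht
      obtain ⟨s, rfl⟩ := Fin.exists_succ_eq.mpr ht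
      have : g' s.succ ≠ j₀ := by
        simp only [g', Fin.cons_succ]
        exact hj₀ s
      rw [if_neg this]
    · intro h0; exact absurd (Finset.mem_univ _) h0
  have hy0 : y 0 = a * (M.submatrix κ g).det := by
    simp only [y, Fin.val_zero, pow_zero, one_mul]
    congr 2
  rw [← hy0, ← hx0, hx]
  rfl

theorem mccoy (M : Matrix (Fin n) (Fin m) R) (hinj : Function.Injective (Matrix.mulVecLin M))
    (a : R) (h : ∀ (κ : Fin m → Fin n) (g : Fin m → Fin m), a * (M.submatrix κ g).det = 0) :
    a = 0 := by
  have key : ∀ d : ℕ, d ≤ m → ∀ (κ : Fin (m - d) → Fin n) (g : Fin (m - d) → Fin m),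
      a * (M.submatrix κ g).det = 0 := by
    intro d
    induction d with
    | zero => intro _ κ g; exact h κ g
    | succ d ih =>
      intro hd κ g
      have h1 : m - (d + 1) < m := by omega
      have h2 : m - (d + 1) + 1 = m - d := by omega
      apply step M hinj a (m - (d + 1)) h1
      intro κ' g'
      have := ih (by omega)
      rw [← h2] at this
      exact this κ' g'
  have := key m le_rfl (fun i => (by simpa using i : Fin 0).elim0) (fun i => (by simpa using i : Fin 0).elim0)
  have hempty : IsEmpty (Fin (m - m)) := by rw [Nat.sub_self]; infer_instance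
  rw [Matrix.det_isEmpty, mul_one] at this
  exact this

/-- the easy direction: if nothing kills all maximal minors then `M` is injective. -/
theorem injective_of_forall (M : Matrix (Fin n) (Fin m) R)
    (h : ∀ a : R, (∀ (κ : Fin m → Fin n) (g : Fin m → Fin m), a * (M.submatrix κ g).det = 0) →
      a = 0) : Function.Injective (Matrix.mulVecLin M) := by
  classical
  rw [injective_iff_map_eq_zero]
  intro x hx
  rw [Matrix.mulVecLin_apply] at hx
  ext j
  apply h
  intro κ g
  -- first the case g = id
  have hid : x j * (M.submatrix κ id).det = 0 := by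
    have h1 : (M.submatrix κ id).mulVec x = 0 := by
      ext i
      have := congrFun hx (κ i)
      simpa [Matrix.mulVec, dotProduct] using this
    have h2 := congrArg (fun v => (M.submatrix κ id).adjugate.mulVec v) h1
    simp only [Matrix.mulVec_mulVec, Matrix.adjugate_mul, Matrix.mulVec_zero] at h2
    have h3 := congrFun h2 j
    simp only [Matrix.smul_mulVec, Matrix.one_mulVec, Pi.smul_apply, smul_eq_mul,
      Pi.zero_apply] at h3
    rw [mul_comm]
    exact h3
  by_cases hg : Function.Injective g
  · have hb : Function.Bijective g := Finite.injective_iff_bijective.mp hg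
    let σ : Equiv.Perm (Fin m) := Equiv.ofBijective g hb
    have : M.submatrix κ g = (M.submatrix κ id).submatrix id σ := rfl
    rw [this, Matrix.det_permute', mul_left_comm, hid, mul_zero]
  · rw [Function.Injective] at hg
    push_neg at hg
    obtain ⟨i, i', hii, hne⟩ := hg
    rw [Matrix.det_zero_of_column_eq hne (by intro l; simp [hii]), mul_zero]

theorem mem_annihilator_minorIdeal_iff (M : Matrix (Fin n) (Fin m) R) (r : ℕ) (a : R) :
    a ∈ (CAlgX.minorIdeal M r).annihilator ↔
      ∀ (κ : Fin r → Fin n) (g : Fin r → Fin m), a * (M.submatrix κ g).det = 0 := by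
  unfold CAlgX.minorIdeal
  rw [Ideal.span, Submodule.mem_annihilator_span]
  constructor
  · intro h κ g
    exact h ⟨_, ⟨(κ, g), rfl⟩⟩
  · rintro h ⟨_, ⟨⟨κ, g⟩, rfl⟩⟩
    exact h κ g

theorem injective_iff_annihilator (M : Matrix (Fin n) (Fin m) R) :
    Function.Injective (Matrix.mulVecLin M) ↔ (CAlgX.minorIdeal M m).annihilator = ⊥ := by
  constructor
  · intro hinj
    rw [eq_bot_iff]
    intro a ha
    rw [mem_annihilator_minorIdeal_iff] at ha
    exact mccoy M hinj a ha
  · intro h
    apply injective_of_forall
    intro a ha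
    have : a ∈ (CAlgX.minorIdeal M m).annihilator := (mem_annihilator_minorIdeal_iff M m a).mpr ha
    rw [h] at this
    exact this

theorem matrixRank_eq_iff [Nontrivial R] (M : Matrix (Fin n) (Fin m) R) :
    CAlgX.matrixRank M = m ↔ CAlgX.minorIdeal M m ≠ ⊥ := by
  unfold CAlgX.matrixRank
  have hbdd : ∀ r ∈ {r : ℕ | CAlgX.minorIdeal M r ≠ ⊥}, r ≤ m := by
    intro r hr
    by_contra hlt
    exact hr (minorIdeal_eq_bot_of_lt M (not_le.mp hlt))
  constructor
  · intro h
    rcases Nat.eq_zero_or_pos m with h0 | hpos
    · subst h0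
      intro hbot
      have h1 : (1 : R) ∈ CAlgX.minorIdeal M 0 := by
        unfold CAlgX.minorIdeal
        refine Ideal.subset_span ⟨(Fin.elim0, Fin.elim0), ?_⟩
        simp
      rw [hbot, Ideal.mem_bot] at h1
      exact one_ne_zero h1
    · have hne : {r : ℕ | CAlgX.minorIdeal M r ≠ ⊥}.Nonempty := by
        by_contra hemp
        rw [Set.not_nonempty_iff_eq_empty] at hemp
        rw [hemp, csSup_empty, bot_eq_zero] at h
        omega
      have := Nat.sSup_mem hne ⟨m, hbdd⟩
      rw [h] at this
      exact this
  · intro h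
    exact (IsGreatest.csSup_eq ⟨h, hbdd⟩)

theorem injective_iff_rank_ann [Nontrivial R] (M : Matrix (Fin n) (Fin m) R) :
    Function.Injective (Matrix.mulVecLin M) ↔
      CAlgX.matrixRank M = m ∧ (CAlgX.detIdeal M).annihilator = ⊥ := by
  constructor
  · intro hinj
    have hann := (injective_iff_annihilator M).mp hinj
    have hne : CAlgX.minorIdeal M m ≠ ⊥ := by
      intro hbot
      rw [hbot] at hann
      have : (1 : R) ∈ (⊥ : Ideal R).annihilator := by
        rw [Submodule.mem_annihilator]
        intro x hx
        rw [(Submodule.mem_bot R).mp hx, smul_zero]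
      rw [hann, Ideal.mem_bot] at this
      exact one_ne_zero this
    have hrk := (matrixRank_eq_iff M).mpr hne
    refine ⟨hrk, ?_⟩
    unfold CAlgX.detIdeal
    rw [hrk, hann]
  · rintro ⟨hrk, hann⟩
    unfold CAlgX.detIdeal at hann
    rw [hrk] at hann
    exact (injective_iff_annihilator M).mpr hann

/-- in a Noetherian ring, an ideal has zero annihilator iff it contains a regular element -/
theorem annihilator_eq_bot_iff_exists_regular [IsNoetherianRing R] (I : Ideal R) :
    I.annihilator = ⊥ ↔ ∃ a ∈ I, IsRegular a := by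
  classical
  constructor
  · intro h
    by_contra hno
    push_neg at hno
    have hsub : (I : Set R) ⊆ ⋃ p ∈ associatedPrimes R R, (p : Set R) := by
      rw [biUnion_associatedPrimes_eq_compl_nonZeroDivisors]
      intro a ha hreg
      apply hno a ha
      exact isRegular_iff_mem_nonZeroDivisors.mpr hreg
    have hfin : (associatedPrimes R R).Finite := associatedPrimes.finite R R
    have hsub' : (I : Set R) ⊆ ⋃ p ∈ (hfin.toFinset : Set (Ideal R)), (p : Set R) := by
      simpa using hsub
    obtain ⟨p, hp, hIp⟩ := (Ideal.subset_union_prime (f := fun p : Ideal R => p) ⊥ ⊥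
      (fun p hp _ _ => by
        have : p ∈ associatedPrimes R R := by simpa using hp
        exact this.isPrime)).mp hsub'
    have hp' : p ∈ associatedPrimes R R := by simpa using hp
    obtain ⟨_, x, hx⟩ := isAssociatedPrime_iff.mp (AssociatedPrimes.mem_iff.mp hp')
    have hx0 : x ≠ 0 := by
      intro h0
      have : p = ⊤ := by
        rw [hx, h0]
        ext r
        simp [Submodule.mem_colon_singleton]
      exact hp'.isPrime.ne_top this
    have : x ∈ I.annihilator := by
      rw [Submodule.mem_annihilator]
      intro y hy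
      have : y ∈ p := hIp hy
      rw [hx, Submodule.mem_colon_singleton] at this
      rw [smul_eq_mul, mul_comm]
      simpa using this
    rw [h, Ideal.mem_bot] at this
    exact hx0 this
  · rintro ⟨a, ha, hreg⟩
    rw [eq_bot_iff]
    intro b hb
    rw [Submodule.mem_annihilator] at hb
    have := hb a ha
    rw [smul_eq_mul] at this
    have hb0 : b = 0 := hreg.right (by simpa using this)
    rw [hb0]
    exact Ideal.zero_mem _

theorem injective_iff_rank_regular [Nontrivial R] [IsNoetherianRing R]
    (M : Matrix (Fin n) (Fin m) R) :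
    Function.Injective (Matrix.mulVecLin M) ↔
      CAlgX.matrixRank M = m ∧
        (CAlgX.detIdeal M = ⊤ ∨ ∃ a ∈ CAlgX.detIdeal M, IsRegular a) := by
  rw [injective_iff_rank_ann, annihilator_eq_bot_iff_exists_regular]
  constructor
  · rintro ⟨h1, h2⟩
    exact ⟨h1, Or.inr h2⟩
  · rintro ⟨h1, h2 | h2⟩
    · exact ⟨h1, 1, by rw [h2]; trivial, isRegular_one⟩
    · exact ⟨h1, h2⟩

end H5McCoy
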