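import Groth.Agent.Lib.Helper5.CA2.MinorInv
import Mathlib.LinearAlgebra.Matrix.SchurComplement
import Mathlib.RingTheory.LocalRing.Module
import Mathlib.LinearAlgebra.Dimension.Free
import Mathlib.LinearAlgebra.Projection

set_option autoImplicit false
universe u
open Matrix

namespace H5MinorLocal

variable {R : Type u} [CommRing R]

theorem det_mul_eq_zero_of_lt {p q : ℕ} (h : q < p) (B : Matrix (Fin p) (Fin q) R)
    (A : Matrix (Fin q) (Fin p) R) : (B * A).det = 0 := by
  rw [H5Minor.det_mul_eq_sum]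
  refine Finset.sum_eq_zero fun κ _ => ?_
  have hni : ¬ Function.Injective κ := fun hinj => by
    have := Fintype.card_le_of_injective κ hinj
    simp at this
    omega
  rw [Function.Injective] at hni
  push_neg at hni
  obtain ⟨i, j, hij, hne⟩ := hni
  rw [Matrix.det_zero_of_row_eq hne (by ext l; simp [hij]), mul_zero]

/-- minors of a product `A * Y` are combinations of minors of `A`. -/
theorem minorIdeal_mul_le {n m k r : ℕ} (A : Matrix (Fin n) (Fin m) R)
    (Y : Matrix (Fin m) (Fin k) R) :
    CAlgX.minorIdeal (A * Y) r ≤ CAlgX.minorIdeal A r := by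
  unfold CAlgX.minorIdeal
  rw [Ideal.span_le]
  rintro _ ⟨⟨κ, g⟩, rfl⟩
  simp only
  rw [Matrix.submatrix_mul A Y κ id g Function.bijective_id, ← Matrix.det_transpose,
    Matrix.transpose_mul, H5Minor.det_mul_eq_sum]
  refine Ideal.sum_mem _ fun κ' _ => Ideal.mul_mem_left _ _ ?_
  have : ((A.submatrix κ id)ᵀ.submatrix κ' id) = (A.submatrix κ κ')ᵀ := by
    ext i j
    rfl
  rw [this, Matrix.det_transpose]
  exact Ideal.subset_span ⟨(κ, κ'), rfl⟩

theorem forward [IsLocalRing R] (n m r : ℕ) (A : Matrix (Fin n) (Fin m) R)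
    (N' : Submodule R (Fin n → R))
    (hc : IsCompl (LinearMap.range (Matrix.mulVecLin A)) N')
    (hrk : Module.finrank R (LinearMap.range (Matrix.mulVecLin A)) = r) :
    CAlgX.minorIdeal A (r + 1) = ⊥ ∧ CAlgX.minorIdeal A r = ⊤ := by
  classical
  set N := LinearMap.range (Matrix.mulVecLin A) with hN
  let proj : (Fin n → R) →ₗ[R] N := Submodule.linearProjOfIsCompl N N' hc
  haveI : Module.Finite R N := Module.Finite.range _
  haveI : Module.Projective R N :=
    Module.Projective.of_split N.subtype proj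
      (LinearMap.ext fun x => Submodule.linearProjOfIsCompl_apply_left hc x)
  haveI : Module.Free R N := Module.free_of_flat_of_isLocalRing
  let b : Module.Basis (Fin r) R N := Module.finBasisOfFinrankEq R N hrk
  let C : Matrix (Fin n) (Fin r) R := fun i l => (b l : Fin n → R) i
  have hx : ∀ l, ∃ x : Fin m → R, A.mulVec x = (b l : Fin n → R) := by
    intro l
    obtain ⟨x, hx⟩ := (b l).2
    exact ⟨x, hx⟩
  choose x hx using hx
  let c' : Matrix (Fin m) (Fin r) R := fun j l => x l j
  have hAc' : A * c' = C := by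
    ext i l
    change (A * c') i l = (b l : Fin n → R) i
    rw [← hx l]
    simp [Matrix.mul_apply, Matrix.mulVec, dotProduct, c']
  have hmem : ∀ j, A.mulVec (Pi.single j 1) ∈ N := fun j => ⟨_, rfl⟩
  let c : Matrix (Fin r) (Fin m) R := fun l j => b.repr ⟨A.mulVec (Pi.single j 1), hmem j⟩ l
  have hCc : A = C * c := by
    ext i j
    have h1 := b.sum_repr ⟨A.mulVec (Pi.single j 1), hmem j⟩
    have h2 := congrArg (fun y : N => (y : Fin n → R) i) h1
    simp only [Submodule.coe_sum, Submodule.coe_smul, Finset.sum_apply, Pi.smul_apply,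
      smul_eq_mul] at h2
    have h3 : (A.mulVec (Pi.single j 1)) i = A i j := by
      simp [Matrix.mulVec, dotProduct, Pi.single_apply]
    rw [← h3, ← h2]
    simp only [Matrix.mul_apply, C, c]
    exact Finset.sum_congr rfl fun l _ => mul_comm _ _
  let L : Matrix (Fin r) (Fin n) R := fun l i => b.repr (proj (Pi.single i 1)) l
  have hLC : L * C = 1 := by
    ext l l'
    have h1 : (b l' : Fin n → R) = ∑ i, (b l' : Fin n → R) i • (Pi.single i (1 : R) : Fin n → R) := by
      ext k
      simp [Finset.sum_apply, Pi.single_apply]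
    have h2 : proj (b l' : Fin n → R) = b l' :=
      Submodule.linearProjOfIsCompl_apply_left hc (b l')
    have h3 : b.repr (proj (b l' : Fin n → R)) l = (1 : Matrix (Fin r) (Fin r) R) l l' := by
      rw [h2, b.repr_self, Matrix.one_apply, Finsupp.single_apply]
      simp [eq_comm]
    rw [← h3]
    conv_rhs => rw [h1, map_sum, map_sum, Finsupp.coe_finset_sum, Finset.sum_apply]
    simp only [Matrix.mul_apply, L, C, map_smul, Finsupp.coe_smul, Pi.smul_apply, smul_eq_mul,
      mul_comm]
  constructor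
  · unfold CAlgX.minorIdeal
    rw [Ideal.span_eq_bot]
    rintro _ ⟨⟨κ, g⟩, rfl⟩
    simp only
    rw [hCc, Matrix.submatrix_mul C c κ id g Function.bijective_id]
    exact det_mul_eq_zero_of_lt (Nat.lt_succ_self r) _ _
  · rw [Ideal.eq_top_iff_one]
    apply minorIdeal_mul_le A c'
    have := H5Minor.part2 (A * c') 1 L (by rw [hAc', hLC, one_smul])
    rwa [one_pow] at this

theorem exists_isUnit_minor [IsLocalRing R] {n m : ℕ} (r : ℕ) (A : Matrix (Fin n) (Fin m) R)
    (h : CAlgX.minorIdeal A r = ⊤) :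
    ∃ (κ : Fin r → Fin n) (g : Fin r → Fin m), IsUnit (A.submatrix κ g).det := by
  by_contra hne
  push_neg at hne
  have : CAlgX.minorIdeal A r ≤ IsLocalRing.maximalIdeal R := by
    unfold CAlgX.minorIdeal
    rw [Ideal.span_le]
    rintro _ ⟨⟨κ, g⟩, rfl⟩
    exact (IsLocalRing.mem_maximalIdeal _).mpr (hne κ g)
  rw [h] at this
  exact (IsLocalRing.maximalIdeal.isMaximal R).ne_top (top_le_iff.mp this)

/-- if all `(r+1)`-minors vanish and the minor on rows `κ`, columns `g` is invertible, then
`A = C * c` with `C` the columns `g` of `A`. -/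
theorem eq_mul_of_minors {n m r : ℕ} (A : Matrix (Fin n) (Fin m) R)
    (h0 : CAlgX.minorIdeal A (r + 1) = ⊥) (κ : Fin r → Fin n) (g : Fin r → Fin m)
    (hu : IsUnit (A.submatrix κ g).det) :
    A = A.submatrix id g * ((A.submatrix κ g)⁻¹ * A.submatrix κ id) := by
  classical
  set P := A.submatrix κ g with hP
  letI : Invertible P := Matrix.invertibleOfIsUnitDet P hu
  ext i j
  -- the bordered minor
  let κ' : Fin r ⊕ Fin 1 → Fin n := Sum.elim κ (fun _ => i)
  let g' : Fin r ⊕ Fin 1 → Fin m := Sum.elim g (fun _ => j)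
  have hM : A.submatrix κ' g' = Matrix.fromBlocks P (fun l _ => A (κ l) j)
      (fun _ l => A i (g l)) (fun _ _ => A i j) := by
    ext a b
    rcases a with a | a <;> rcases b with b | b <;> rfl
  have hdet0 : (A.submatrix κ' g').det = 0 := by
    have h1 : (A.submatrix (κ' ∘ finSumFinEquiv.symm) (g' ∘ finSumFinEquiv.symm)).det ∈
        CAlgX.minorIdeal A (r + 1) := Ideal.subset_span ⟨(_, _), rfl⟩
    rw [h0, Ideal.mem_bot] at h1
    have h2 : A.submatrix (κ' ∘ finSumFinEquiv.symm) (g' ∘ finSumFinEquiv.symm) =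
        (A.submatrix κ' g').submatrix finSumFinEquiv.symm finSumFinEquiv.symm := rfl
    rw [h2, Matrix.det_submatrix_equiv_self] at h1
    exact h1
  rw [hM, Matrix.det_fromBlocks₁₁] at hdet0
  have h3 := (hu.mul_right_eq_zero).mp hdet0
  rw [Matrix.det_unique, Matrix.sub_apply, sub_eq_zero] at h3
  rw [h3, Matrix.invOf_eq_nonsing_inv]
  simp only [Matrix.mul_apply, Matrix.submatrix_apply, id_eq, Finset.sum_mul, Finset.mul_sum]
  rw [Finset.sum_comm]
  refine Finset.sum_congr rfl fun l _ => Finset.sum_congr rfl fun l' _ => ?_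
  ring

theorem backward [IsLocalRing R] (n m r : ℕ) (A : Matrix (Fin n) (Fin m) R)
    (h0 : CAlgX.minorIdeal A (r + 1) = ⊥) (h1 : CAlgX.minorIdeal A r = ⊤) :
    ∃ N' : Submodule R (Fin n → R), IsCompl (LinearMap.range (Matrix.mulVecLin A)) N' ∧
      Module.finrank R (LinearMap.range (Matrix.mulVecLin A)) = r := by
  classical
  obtain ⟨κ, g, hu⟩ := exists_isUnit_minor r A h1
  set P := A.submatrix κ g with hP
  set C := A.submatrix id g with hC
  set c := P⁻¹ * A.submatrix κ id with hc
  have hA : A = C * c := eq_mul_of_minors A h0 κ g hu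
  have hCA : C = A * (1 : Matrix (Fin m) (Fin m) R).submatrix id g := by
    rw [← Matrix.submatrix_id_id A, ← Matrix.submatrix_mul A 1 id id g Function.bijective_id,
      Matrix.mul_one]
  let L : Matrix (Fin r) (Fin n) R := P⁻¹ * (1 : Matrix (Fin n) (Fin n) R).submatrix κ id
  have hLC : L * C = 1 := by
    have : (1 : Matrix (Fin n) (Fin n) R).submatrix κ id * C = P := by
      rw [hC, ← Matrix.submatrix_id_id (A.submatrix id g),
        ← Matrix.submatrix_mul 1 (A.submatrix id g) κ id id Function.bijective_id, Matrix.one_mul]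
      rfl
    rw [Matrix.mul_assoc, this, Matrix.nonsing_inv_mul _ hu]
  have hrange : LinearMap.range (Matrix.mulVecLin A) = LinearMap.range (Matrix.mulVecLin C) := by
    apply le_antisymm
    · rintro _ ⟨x, rfl⟩
      refine ⟨c.mulVec x, ?_⟩
      simp only [Matrix.mulVecLin_apply]
      rw [Matrix.mulVec_mulVec, ← hA]
    · rintro _ ⟨y, rfl⟩
      refine ⟨((1 : Matrix (Fin m) (Fin m) R).submatrix id g).mulVec y, ?_⟩
      simp only [Matrix.mulVecLin_apply]
      rw [Matrix.mulVec_mulVec, ← hCA]
  rw [hrange]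
  have hinj : Function.Injective (Matrix.mulVecLin C) := by
    intro y y' hy
    have := congrArg (fun v => L.mulVec v) hy
    simp only [Matrix.mulVecLin_apply, Matrix.mulVec_mulVec, hLC, Matrix.one_mulVec] at this
    exact this
  let f : (Fin n → R) →ₗ[R] LinearMap.range (Matrix.mulVecLin C) :=
    (Matrix.mulVecLin C).rangeRestrict ∘ₗ Matrix.mulVecLin L
  have hf : ∀ x : LinearMap.range (Matrix.mulVecLin C), f x = x := by
    rintro ⟨_, ⟨y, rfl⟩⟩
    apply Subtype.ext
    simp only [f, LinearMap.comp_apply, LinearMap.codRestrict_apply, Matrix.mulVecLin_apply,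
      Matrix.mulVec_mulVec, hLC, Matrix.one_mulVec]
  refine ⟨LinearMap.ker f, LinearMap.isCompl_of_proj hf, ?_⟩
  rw [← (LinearEquiv.ofInjective _ hinj).finrank_eq, Module.finrank_fin_fun]

theorem main [IsLocalRing R] (n m r : ℕ) (A : Matrix (Fin n) (Fin m) R) :
    (∃ N' : Submodule R (Fin n → R), IsCompl (LinearMap.range (Matrix.mulVecLin A)) N' ∧
        Module.finrank R (LinearMap.range (Matrix.mulVecLin A)) = r) ↔
      (CAlgX.minorIdeal A (r + 1) = ⊥ ∧ CAlgX.minorIdeal A r = ⊤) := by
  constructor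
  · rintro ⟨N', hc, hrk⟩
    exact forward n m r A N' hc hrk
  · rintro ⟨h0, h1⟩
    exact backward n m r A h0 h1

end H5MinorLocal
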