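import Groth.Prelude.Def_CAlg
import Groth.Agent.Lib.Helper5.CA2.McCoy
import Groth.Agent.Lib.Helper5.CA2.MinorLocal
import Mathlib.RingTheory.Regular.RegularSequence

set_option autoImplicit false
universe u
open Matrix

namespace H5HB

variable {R : Type u} [CommRing R]

/-- extracting a regular pair from `depth ≥ 2` -/
theorem exists_regular_pair (I : Ideal R) (h : 2 ≤ LocCoh.idealDepth I R) :
    ∃ x ∈ I, ∃ y ∈ I, (∀ r, x * r = 0 → r = 0) ∧
      (∀ r s, y * r = x * s → ∃ r', r = x * r') := by
  classical
  unfold LocCoh.idealDepth at h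
  split_ifs at h with htop
  · have hI : I = ⊤ := by rwa [smul_eq_mul, Ideal.mul_top] at htop
    refine ⟨1, by rw [hI]; trivial, 1, by rw [hI]; trivial, fun r hr => by simpa using hr,
      fun r s hrs => ⟨r, by simp⟩⟩
  · have hex : ∃ rs : List R, (RingTheory.Sequence.IsWeaklyRegular R rs ∧ ∀ r ∈ rs, r ∈ I) ∧
        2 ≤ rs.length := by
      by_contra hno
      push Not at hno
      have : (⨆ (rs : List R) (_ : RingTheory.Sequence.IsWeaklyRegular R rs ∧ ∀ r ∈ rs, r ∈ I),
          (rs.length : ℕ∞)) ≤ 1 := by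
        refine iSup_le fun rs => iSup_le fun hrs => ?_
        have := hno rs hrs
        exact_mod_cast Nat.lt_succ_iff.mp this
      have h2 := le_trans h this
      exact absurd h2 (by norm_num)
    obtain ⟨rs, ⟨hreg, hmem⟩, hlen⟩ := hex
    match rs, hreg, hmem, hlen with
    | x :: y :: tl, hreg, hmem, _ =>
      rw [RingTheory.Sequence.isWeaklyRegular_cons_iff,
        RingTheory.Sequence.isWeaklyRegular_cons_iff] at hreg
      obtain ⟨hx, hy, -⟩ := hreg
      refine ⟨x, hmem x (by simp), y, hmem y (by simp), ?_, ?_⟩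
      · intro r hr
        apply hx
        simpa using hr
      · intro r s hrs
        have h0 : y • (Submodule.Quotient.mk r : QuotSMulTop x R) = y • 0 := by
          rw [smul_zero, ← Submodule.Quotient.mk_smul, Submodule.Quotient.mk_eq_zero, smul_eq_mul,
            hrs]
          exact Submodule.smul_mem_pointwise_smul s x ⊤ trivial
        have h1 := hy h0
        rw [Submodule.Quotient.mk_eq_zero, Submodule.mem_smul_pointwise_iff_exists] at h1
        obtain ⟨r', -, hr'⟩ := h1
        exact ⟨r', hr'.symm⟩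

variable {t : ℕ} (Ψ : Matrix (Fin (t + 1)) (Fin t) R)

/-- the maximal minors with one row deleted -/
noncomputable def dd (j : Fin (t + 1)) : R := (Ψ.submatrix j.succAbove id).det

/-- the bordered matrix `[v | Ψ]` -/
def bord (v : Fin (t + 1) → R) : Matrix (Fin (t + 1)) (Fin (t + 1)) R :=
  fun i c => (Fin.cons (v i) (Ψ i) : Fin (t + 1) → R) c

theorem det_bord (v : Fin (t + 1) → R) :
    (bord Ψ v).det = ∑ i : Fin (t + 1), (-1) ^ (i : ℕ) * v i * dd Ψ i := by
  rw [Matrix.det_succ_column_zero]
  refine Finset.sum_congr rfl fun i _ => ?_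
  have h1 : (bord Ψ v).submatrix i.succAbove Fin.succ = Ψ.submatrix i.succAbove id := by
    ext p q
    simp [bord, Matrix.submatrix_apply]
  rw [h1]
  simp [bord, dd]

theorem det_bord_mulVec (u : Fin t → R) : (bord Ψ (Ψ.mulVec u)).det = 0 := by
  classical
  let U : Matrix (Fin t) (Fin (t + 1)) R :=
    fun l c => (Fin.cons (u l) (fun l' => if l = l' then 1 else 0) : Fin (t + 1) → R) c
  have : bord Ψ (Ψ.mulVec u) = Ψ * U := by
    ext i c
    refine Fin.cases ?_ (fun l' => ?_) c
    · simp [bord, U, Matrix.mul_apply, Matrix.mulVec, dotProduct]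
    · simp [bord, U, Matrix.mul_apply]
  rw [this]
  exact H5MinorLocal.det_mul_eq_zero_of_lt (Nat.lt_succ_self t) _ _

theorem dd_smul_mem_range (v : Fin (t + 1) → R) (hv : (bord Ψ v).det = 0) (j : Fin (t + 1)) :
    dd Ψ j • v ∈ LinearMap.range Ψ.mulVecLin := by
  have h1 : bord Ψ v * (bord Ψ v).adjugate = 0 := by
    rw [Matrix.mul_adjugate, hv, zero_smul]
  have h2 : (bord Ψ v).adjugate 0 j = (-1) ^ (j : ℕ) * dd Ψ j := by
    rw [Matrix.adjugate_fin_succ_eq_det_submatrix]
    have : (bord Ψ v).submatrix j.succAbove (0 : Fin (t + 1)).succAbove =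
        Ψ.submatrix j.succAbove id := by
      ext p q
      simp [bord, Matrix.submatrix_apply]
    rw [this, dd]
    simp
  refine ⟨fun l => - ((-1) ^ (j : ℕ) * (bord Ψ v).adjugate l.succ j), ?_⟩
  ext i
  have h3 := congrFun (congrFun h1 i) j
  rw [Matrix.mul_apply, Fin.sum_univ_succ] at h3
  simp only [bord, Fin.cons_zero, Fin.cons_succ, Matrix.zero_apply] at h3
  change v i * (bord Ψ v).adjugate 0 j + ∑ l : Fin t, Ψ i l * (bord Ψ v).adjugate l.succ j = 0 at h3
  rw [h2] at h3
  simp only [Matrix.mulVecLin_apply, Matrix.mulVec, dotProduct, Pi.smul_apply, smul_eq_mul]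
  have h4 : ∑ l : Fin t, Ψ i l * (bord Ψ v).adjugate l.succ j = - (v i * ((-1) ^ (j : ℕ) * dd Ψ j)) := by
    rw [eq_neg_iff_add_eq_zero, add_comm]
    exact h3
  have h5 : ((-1 : R) ^ (j : ℕ)) * ((-1) ^ (j : ℕ)) = 1 := by
    rw [← mul_pow]
    simp
  calc ∑ l, Ψ i l * -((-1) ^ (j : ℕ) * (bord Ψ v).adjugate l.succ j)
      = - ((-1) ^ (j : ℕ) * ∑ l : Fin t, Ψ i l * (bord Ψ v).adjugate l.succ j) := by
        rw [Finset.mul_sum, ← Finset.sum_neg_distrib]
        refine Finset.sum_congr rfl fun l _ => ?_
        ring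
    _ = dd Ψ j * v i := by
        rw [h4]
        have : -((-1 : R) ^ (j : ℕ) * -(v i * ((-1) ^ (j : ℕ) * dd Ψ j))) =
            ((-1 : R) ^ (j : ℕ) * (-1) ^ (j : ℕ)) * (dd Ψ j * v i) := by ring
        rw [this, h5, one_mul]

/-- `det (M.submatrix σ g)` is a multiple of `det M`. -/
theorem det_submatrix_mem_span {k : ℕ} (M : Matrix (Fin k) (Fin k) R) (σ g : Fin k → Fin k) :
    (M.submatrix σ g).det ∈ Ideal.span {M.det} := by
  classical
  have : M.submatrix σ g = (1 : Matrix (Fin k) (Fin k) R).submatrix σ id * M *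
      (1 : Matrix (Fin k) (Fin k) R).submatrix id g := by
    have h1 : (1 : Matrix (Fin k) (Fin k) R).submatrix σ id * M = M.submatrix σ id := by
      ext p q
      simp [Matrix.mul_apply, Matrix.one_apply]
    rw [h1]
    have h2 : M.submatrix σ id * (1 : Matrix (Fin k) (Fin k) R).submatrix id g =
        M.submatrix σ g := by
      ext p q
      simp [Matrix.mul_apply, Matrix.one_apply]
    rw [h2]
  rw [this, Matrix.det_mul, Matrix.det_mul, Ideal.mem_span_singleton']
  exact ⟨((1 : Matrix (Fin k) (Fin k) R).submatrix σ id).det *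
    ((1 : Matrix (Fin k) (Fin k) R).submatrix id g).det, by ring⟩

theorem minorIdeal_eq_span_dd : CAlgX.minorIdeal Ψ t = Ideal.span (Set.range (dd Ψ)) := by
  classical
  apply le_antisymm
  · unfold CAlgX.minorIdeal
    rw [Ideal.span_le]
    rintro _ ⟨⟨κ, g⟩, rfl⟩
    simp only
    by_cases hκ : Function.Injective κ
    · have hns : ¬ Function.Surjective κ := fun hs => by
        have := Fintype.card_le_of_surjective κ hs
        simp at this
      rw [Function.Surjective] at hns
      push Not at hns
      obtain ⟨j, hj⟩ := hns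
      have hex : ∀ i, ∃ z, j.succAbove z = κ i := fun i => Fin.exists_succAbove_eq (hj i)
      choose σ hσ using hex
      have : Ψ.submatrix κ g = (Ψ.submatrix j.succAbove id).submatrix σ g := by
        ext p q
        simp [Matrix.submatrix_apply, hσ]
      rw [this]
      have h1 := det_submatrix_mem_span (Ψ.submatrix j.succAbove id) σ g
      exact (Ideal.span_mono (show ({(Ψ.submatrix j.succAbove id).det} : Set R) ⊆
        Set.range (dd Ψ) from Set.singleton_subset_iff.mpr ⟨j, rfl⟩)) h1
    · rw [Function.Injective] at hκ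
      push Not at hκ
      obtain ⟨i, i', hii, hne⟩ := hκ
      rw [Matrix.det_zero_of_row_eq hne (by ext l; simp [hii])]
      exact Ideal.zero_mem _
  · rw [Ideal.span_le]
    rintro _ ⟨j, rfl⟩
    exact Ideal.subset_span ⟨(j.succAbove, id), rfl⟩

theorem hilbert_burch_exact [IsNoetherianRing R]
    (hdepth : 2 ≤ LocCoh.idealDepth (CAlgX.minorIdeal Ψ t) R)
    (a : R) (ha : a ∈ nonZeroDivisors R) :
    LinearMap.ker Ψ.mulVecLin = ⊥ ∧
      LinearMap.ker (Fintype.linearCombination R
          (fun i : Fin (t + 1) => a * ((-1 : R) ^ (i : ℕ) * (Ψ.submatrix i.succAbove id).det))) =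
        LinearMap.range Ψ.mulVecLin ∧
      LinearMap.range (Fintype.linearCombination R
          (fun i : Fin (t + 1) => a * ((-1 : R) ^ (i : ℕ) * (Ψ.submatrix i.succAbove id).det))) =
        Ideal.span {a} * CAlgX.minorIdeal Ψ t := by
  classical
  obtain ⟨x, hxI, y, hyI, hx, hy⟩ := exists_regular_pair _ hdepth
  -- the functional
  have hfun : ∀ v : Fin (t + 1) → R, Fintype.linearCombination R
      (fun i : Fin (t + 1) => a * ((-1 : R) ^ (i : ℕ) * (Ψ.submatrix i.succAbove id).det)) v =
      a * (bord Ψ v).det := by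
    intro v
    rw [Fintype.linearCombination_apply, det_bord, Finset.mul_sum]
    refine Finset.sum_congr rfl fun i _ => ?_
    simp only [smul_eq_mul, dd]
    ring
  -- injectivity
  have hinj : Function.Injective Ψ.mulVecLin := by
    rw [H5McCoy.injective_iff_annihilator, eq_bot_iff]
    intro b hb
    rw [Submodule.mem_annihilator] at hb
    have := hb x hxI
    rw [smul_eq_mul, mul_comm] at this
    rw [Ideal.mem_bot]
    exact hx b this
  refine ⟨LinearMap.ker_eq_bot.mpr hinj, ?_, ?_⟩
  · apply le_antisymm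
    · intro v hv
      rw [LinearMap.mem_ker, hfun] at hv
      have hdet : (bord Ψ v).det = 0 := by
        have := (mem_nonZeroDivisors_iff_right.mp ha) _ (by rwa [mul_comm] at hv)
        exact this
      -- the ideal of r with r • v in the range
      have hI : ∀ r ∈ CAlgX.minorIdeal Ψ t, r • v ∈ LinearMap.range Ψ.mulVecLin := by
        intro r hr
        rw [minorIdeal_eq_span_dd] at hr
        induction hr using Submodule.span_induction with
        | mem r hr =>
          obtain ⟨j, rfl⟩ := hr
          exact dd_smul_mem_range Ψ v hdet j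
        | zero => rw [zero_smul]; exact Submodule.zero_mem _
        | add r s _ _ hr hs => rw [add_smul]; exact Submodule.add_mem _ hr hs
        | smul c r _ hr => rw [smul_eq_mul, mul_smul]; exact Submodule.smul_mem _ _ hr
      obtain ⟨p, hp⟩ := hI x hxI
      obtain ⟨q, hq⟩ := hI y hyI
      rw [Matrix.mulVecLin_apply] at hp hq
      have hpq : y • p = x • q := by
        apply hinj
        rw [map_smul, map_smul, Matrix.mulVecLin_apply, Matrix.mulVecLin_apply, hp, hq,
          smul_smul, smul_smul, mul_comm]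
      have hdiv : ∀ l, ∃ r', p l = x * r' := by
        intro l
        have := congrFun hpq l
        simp only [Pi.smul_apply, smul_eq_mul] at this
        exact hy (p l) (q l) this
      choose p' hp' using hdiv
      refine ⟨p', ?_⟩
      rw [Matrix.mulVecLin_apply]
      have h1 : p = x • p' := by
        ext l
        rw [hp' l]
        rfl
      have h2 : x • (Ψ.mulVec p' - v) = 0 := by
        rw [smul_sub, ← hp, h1, Matrix.mulVec_smul, sub_self]
      ext i
      have h3 := congrFun h2 i
      simp only [Pi.smul_apply, Pi.sub_apply, smul_eq_mul, Pi.zero_apply] at h3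
      exact sub_eq_zero.mp (hx _ h3)
    · rintro _ ⟨u, rfl⟩
      rw [LinearMap.mem_ker, hfun, Matrix.mulVecLin_apply, det_bord_mulVec, mul_zero]
  · rw [Fintype.range_linearCombination, minorIdeal_eq_span_dd]
    have h5 : ∀ j : Fin (t + 1), ((-1 : R) ^ (j : ℕ)) * ((-1) ^ (j : ℕ)) = 1 := by
      intro j
      rw [← mul_pow]
      simp
    apply le_antisymm
    · rw [Submodule.span_le]
      rintro _ ⟨i, rfl⟩
      exact Ideal.mul_mem_mul (Ideal.mem_span_singleton_self a)
        (Ideal.mul_mem_left _ _ (Ideal.subset_span ⟨i, rfl⟩))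
    · rw [Ideal.mul_le]
      intro r hr s hs
      rw [Ideal.mem_span_singleton'] at hr
      obtain ⟨r', rfl⟩ := hr
      induction hs using Submodule.span_induction with
      | mem s hs =>
        obtain ⟨j, rfl⟩ := hs
        have : r' * a * dd Ψ j = (r' * (-1) ^ (j : ℕ)) •
            (a * ((-1 : R) ^ (j : ℕ) * (Ψ.submatrix j.succAbove id).det)) := by
          rw [smul_eq_mul, dd]
          calc r' * a * (Ψ.submatrix j.succAbove id).det
              = ((-1 : R) ^ (j : ℕ) * (-1) ^ (j : ℕ)) *
                  (r' * a * (Ψ.submatrix j.succAbove id).det) := by rw [h5, one_mul]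
            _ = _ := by ring
        rw [this]
        exact Submodule.smul_mem _ _ (Submodule.subset_span ⟨j, rfl⟩)
      | zero => rw [mul_zero]; exact Submodule.zero_mem _
      | add s s' _ _ hs hs' => rw [mul_add]; exact Submodule.add_mem _ hs hs'
      | smul c s _ hs =>
        rw [smul_eq_mul, mul_left_comm]
        exact Submodule.smul_mem _ c hs

end H5HB
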