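import Mathlib.RingTheory.EssentialFiniteness
import Mathlib.RingTheory.LocalRing.RingHom.Basic
import Mathlib.RingTheory.Localization.Basic
import Mathlib.RingTheory.FiniteType
import Mathlib.RingTheory.Adjoin.FG

namespace H5LocSub

universe u

/-- Generic lemma: the "localization inside `R` at the units of `R`" of a finitely generated
subalgebra. -/
theorem exists_subring {A₀ R : Type*} [CommRing A₀] [CommRing R] (f₀ : A₀ →+* R) (F : Finset R) :
    ∃ L : Subring R, (∀ a, f₀ a ∈ L) ∧ (F : Set R) ⊆ L ∧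
      (∀ x ∈ L, IsUnit x → ∃ y ∈ L, x * y = 1) ∧
      ∀ (h : ∀ a, f₀ a ∈ L), (f₀.codRestrict L h).EssFiniteType := by
  letI : Algebra A₀ R := f₀.toAlgebra
  let T : Subalgebra A₀ R := Algebra.adjoin A₀ (F : Set R)
  haveI : Algebra.FiniteType A₀ T :=
    (Subalgebra.fg_iff_finiteType T).mp (Subalgebra.fg_adjoin_finset F)
  let M : Submonoid T := (IsUnit.submonoid R).comap T.val
  have hM : ∀ y : M, IsUnit (T.val y) := fun y => y.2
  let ψ : Localization M →ₐ[A₀] R := IsLocalization.liftAlgHom (M := M) (f := T.val) hM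
  have hψ : ∀ t : T, ψ (algebraMap T (Localization M) t) = t := fun t => by
    simp [ψ]
  refine ⟨ψ.range.toSubring, ?_, ?_, ?_, ?_⟩
  · intro a
    exact ⟨algebraMap A₀ _ a, ψ.commutes a⟩
  · intro x hx
    exact ⟨algebraMap T _ ⟨x, Algebra.subset_adjoin hx⟩, hψ _⟩
  · rintro x ⟨z, rfl⟩ hx
    obtain ⟨a, b, rfl⟩ := IsLocalization.exists_mk'_eq M z
    have h1 : (a : R) = (b : T) * ψ (IsLocalization.mk' (Localization M) a b) := by
      have := (IsLocalization.lift_mk'_spec (S := Localization M) (g := (T.val : T →+* R))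
        (hg := hM) a _ b).mp rfl
      exact this
    have ha : IsUnit (a : R) := by
      rw [h1]; exact (b.2 : IsUnit ((b : T) : R)).mul hx
    let a' : M := ⟨a, ha⟩
    refine ⟨ψ (IsLocalization.mk' (Localization M) (b : T) a'), ⟨_, rfl⟩, ?_⟩
    have h2 : ((b : T) : R) = (a : R) * ψ (IsLocalization.mk' (Localization M) (b : T) a') := by
      have := (IsLocalization.lift_mk'_spec (S := Localization M) (g := (T.val : T →+* R))
        (hg := hM) (b : T) _ a').mp rfl
      exact this
    apply ha.mul_left_cancel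
    rw [mul_one]
    calc (a : R) * (ψ (IsLocalization.mk' (Localization M) a b) *
          ψ (IsLocalization.mk' (Localization M) (b : T) a'))
        = ((a : R) * ψ (IsLocalization.mk' (Localization M) (b : T) a')) *
          ψ (IsLocalization.mk' (Localization M) a b) := by ring
      _ = (a : R) := by rw [← h2, ← h1]
  · intro h
    rw [RingHom.EssFiniteType]
    letI : Algebra A₀ ψ.range.toSubring := (f₀.codRestrict ψ.range.toSubring h).toAlgebra
    let g : Localization M →ₐ[A₀] ψ.range.toSubring :=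
      { toRingHom := ψ.toRingHom.codRestrict ψ.range.toSubring (fun z => ⟨z, rfl⟩)
        commutes' := fun a => by
          apply Subtype.ext
          exact ψ.commutes a }
    refine Algebra.EssFiniteType.of_surjective g ?_
    rintro ⟨x, z, rfl⟩
    exact ⟨z, rfl⟩


theorem isLocalRing_of_units {R : Type*} [CommRing R] [IsLocalRing R] (L : Subring R)
    (hL : ∀ x ∈ L, IsUnit x → ∃ y ∈ L, x * y = 1) : IsLocalRing L := by
  have key : ∀ x : L, IsUnit (x : R) → IsUnit x := by
    intro x hx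
    obtain ⟨y, hy, hxy⟩ := hL x x.2 hx
    exact isUnit_iff_exists_inv.mpr ⟨⟨y, hy⟩, Subtype.ext hxy⟩
  refine IsLocalRing.of_isUnit_or_isUnit_one_sub_self fun a => ?_
  rcases IsLocalRing.isUnit_or_isUnit_one_sub_self (a : R) with h | h
  · exact Or.inl (key a h)
  · exact Or.inr (key (1 - a) (by simpa using h))

theorem isLocalHom_subtype {R : Type*} [CommRing R] (L : Subring R)
    (hL : ∀ x ∈ L, IsUnit x → ∃ y ∈ L, x * y = 1) : IsLocalHom L.subtype := by
  refine ⟨fun x hx => ?_⟩
  obtain ⟨y, hy, hxy⟩ := hL x x.2 hx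
  exact isUnit_iff_exists_inv.mpr ⟨⟨y, hy⟩, Subtype.ext hxy⟩

theorem main (R S : Type u) [CommRing R] [CommRing S] [IsLocalRing R]
    [IsLocalRing S] [Algebra R S] [IsLocalHom (algebraMap R S)] (E : Finset R) (F : Finset S) :
    ∃ (R₀ : Subring R) (S₀ : Subring S) (h : ∀ x ∈ R₀, algebraMap R S x ∈ S₀),
      (E : Set R) ⊆ R₀ ∧ (F : Set S) ⊆ S₀ ∧ ∃ (_ : IsLocalRing R₀) (_ : IsLocalRing S₀),
        IsLocalHom R₀.subtype ∧ IsLocalHom S₀.subtype ∧
          IsLocalHom ((algebraMap R S).restrict R₀ S₀ h) ∧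
          (algebraMap ℤ R₀).EssFiniteType ∧ ((algebraMap R S).restrict R₀ S₀ h).EssFiniteType := by
  obtain ⟨R₀, hR1, hR2, hR3, hR4⟩ := exists_subring (Int.castRingHom R) E
  obtain ⟨S₀, hS1, hS2, hS3, hS4⟩ := exists_subring ((algebraMap R S).comp R₀.subtype) F
  have h : ∀ x ∈ R₀, algebraMap R S x ∈ S₀ := fun x hx => hS1 ⟨x, hx⟩
  have lh1 := isLocalHom_subtype R₀ hR3
  have lh2 := isLocalHom_subtype S₀ hS3
  refine ⟨R₀, S₀, h, hR2, hS2, isLocalRing_of_units R₀ hR3, isLocalRing_of_units S₀ hS3,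
    lh1, lh2, ⟨fun x hx => ?_⟩, ?_, ?_⟩
  · have h1 : IsUnit (algebraMap R S (x : R)) := by
      have := hx.map S₀.subtype
      exact this
    have h2 : IsUnit (x : R) := isUnit_of_map_unit (algebraMap R S) _ h1
    exact isUnit_of_map_unit R₀.subtype x h2
  · have := hR4 hR1
    convert this
    exact Subsingleton.elim _ _
  · exact hS4 (fun a => hS1 a)

end H5LocSub
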