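import Mathlib.RingTheory.Spectrum.Prime.Homeomorph
import Mathlib.RingTheory.LocalRing.ResidueField.Basic
import Mathlib.RingTheory.Ideal.GoingUp
import Mathlib.LinearAlgebra.TensorProduct.RightExactness
import Mathlib.RingTheory.IntegralClosure.IsIntegralClosure.Basic
import Mathlib.RingTheory.Flat.FaithfullyFlat.Basic
import Mathlib.LinearAlgebra.FreeModule.Basic
import Mathlib.LinearAlgebra.Dimension.Free

open TensorProduct IsLocalRing

namespace H5LocTensor

universe u

theorem isLocalRing_of_surjective {T T' : Type*} [CommRing T] [CommRing T']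
    (φ : T →+* T') (hφ : Function.Surjective φ) [Nontrivial T']
    (hT' : ∀ P Q : Ideal T', P.IsPrime → Q.IsPrime → P = Q)
    (hM : ∀ M : Ideal T, M.IsMaximal → RingHom.ker φ ≤ M) : IsLocalRing T := by
  have : Nontrivial T := φ.domain_nontrivial
  apply IsLocalRing.of_unique_max_ideal
  obtain ⟨M, hMmax⟩ := Ideal.exists_maximal T
  refine ⟨M, hMmax, fun M' hM' => ?_⟩
  have h1 : (M.map φ).IsPrime := Ideal.map_isPrime_of_surjective hφ (hM M hMmax)
  have h2 : (M'.map φ).IsPrime := Ideal.map_isPrime_of_surjective hφ (hM M' hM')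
  have h3 := hT' _ _ h1 h2
  have e1 : (M.map φ).comap φ = M := by
    rw [Ideal.comap_map_of_surjective φ hφ]
    exact sup_eq_left.mpr (hM M hMmax)
  have e2 : (M'.map φ).comap φ = M' := by
    rw [Ideal.comap_map_of_surjective φ hφ]
    exact sup_eq_left.mpr (hM M' hM')
  rw [← e1, ← e2, h3]

theorem unique_prime_of_homeo {R S : Type*} [CommRing R] [CommRing S] (f : R →+* S)
    (hf : IsHomeomorph (PrimeSpectrum.comap f)) (hR : ∀ P Q : Ideal R, P.IsPrime → Q.IsPrime → P = Q) :
    ∀ P Q : Ideal S, P.IsPrime → Q.IsPrime → P = Q := by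
  intro P Q hP hQ
  have := hf.injective (a₁ := ⟨P, hP⟩) (a₂ := ⟨Q, hQ⟩)
    (PrimeSpectrum.ext (hR _ _ (PrimeSpectrum.comap f ⟨P, hP⟩).2 (PrimeSpectrum.comap f ⟨Q, hQ⟩).2))
  exact congrArg PrimeSpectrum.asIdeal this

theorem field_unique_prime (K : Type*) [Field K] : ∀ P Q : Ideal K, P.IsPrime → Q.IsPrime → P = Q := by
  intro P Q hP hQ
  rw [(Ideal.eq_bot_or_top P).resolve_right hP.ne_top, (Ideal.eq_bot_or_top Q).resolve_right hQ.ne_top]

variable (A : Type u) [CommRing A] [IsLocalRing A] (B : Type u) [CommRing B] [IsLocalRing B]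
  [Algebra A B] [IsLocalHom (algebraMap A B)] (C : Type u) [CommRing C] [IsLocalRing C] [Algebra A C]
  [IsLocalHom (algebraMap A C)]

/-- the map to the tensor product of residue fields (over A) -/
noncomputable def φ₀ : B ⊗[A] C →ₐ[A] ResidueField B ⊗[A] ResidueField C :=
  Algebra.TensorProduct.map (IsScalarTower.toAlgHom A B (ResidueField B))
    (IsScalarTower.toAlgHom A C (ResidueField C))

theorem φ₀_surjective : Function.Surjective (φ₀ A B C) :=
  Algebra.TensorProduct.map_surjective _ _ residue_surjective residue_surjective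

theorem ker_φ₀ : RingHom.ker (φ₀ A B C) =
    (maximalIdeal B).map (Algebra.TensorProduct.includeLeft : B →ₐ[A] B ⊗[A] C) ⊔
      (maximalIdeal C).map (Algebra.TensorProduct.includeRight : C →ₐ[A] B ⊗[A] C) := by
  have := Algebra.TensorProduct.map_ker (IsScalarTower.toAlgHom A B (ResidueField B))
    (IsScalarTower.toAlgHom A C (ResidueField C)) residue_surjective residue_surjective
  rw [φ₀, this]
  congr 2
  · exact ker_residue
  · exact ker_residue

instance : TensorProduct.CompatibleSMul A (ResidueField A) (ResidueField B) (ResidueField C) :=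
  .of_algebraMap_surjective _ _ residue_surjective

instance : TensorProduct.CompatibleSMul (ResidueField A) A (ResidueField B) (ResidueField C) :=
  inferInstance

noncomputable def eqv : ResidueField B ⊗[A] ResidueField C ≃ₐ[A]
    ResidueField B ⊗[ResidueField A] ResidueField C :=
  (Algebra.TensorProduct.equivOfCompatibleSMul A (ResidueField A) A (ResidueField B)
    (ResidueField C)).symm


variable {A B C}

/-- every maximal ideal of `B ⊗ C` contracts to the maximal ideals of `B` and `C`. -/
theorem comap_left [Algebra.IsIntegral A C] (M : Ideal (B ⊗[A] C)) [hM : M.IsMaximal] :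
    M.comap (Algebra.TensorProduct.includeLeft : B →ₐ[A] B ⊗[A] C).toRingHom = maximalIdeal B := by
  have hint : (Algebra.TensorProduct.includeLeft : B →ₐ[A] B ⊗[A] C).toRingHom.IsIntegral := by
    have : Algebra.IsIntegral B (B ⊗[A] C) := inferInstance
    exact this.isIntegral
  have := Ideal.isMaximal_comap_of_isIntegral_of_isMaximal' _ hint M
  exact IsLocalRing.eq_maximalIdeal this

theorem comap_right [Algebra.IsIntegral A C] (M : Ideal (B ⊗[A] C)) [hM : M.IsMaximal] :
    M.comap (Algebra.TensorProduct.includeRight : C →ₐ[A] B ⊗[A] C).toRingHom = maximalIdeal C := by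
  have h1 := comap_left M
  set P := M.comap (Algebra.TensorProduct.includeRight : C →ₐ[A] B ⊗[A] C).toRingHom with hP
  have hPprime : P.IsPrime := Ideal.comap_isPrime _ M
  have h2 : P.comap (algebraMap A C) = maximalIdeal A := by
    have e : (algebraMap A C) = (algebraMap A C) := rfl
    have h3 : P.comap (algebraMap A C) = (M.comap
      (Algebra.TensorProduct.includeLeft : B →ₐ[A] B ⊗[A] C).toRingHom).comap (algebraMap A B) := by
      rw [hP, Ideal.comap_comap, Ideal.comap_comap]
      congr 1
      ext a
      simp [Algebra.TensorProduct.includeLeft, Algebra.TensorProduct.includeRight,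
        Algebra.algebraMap_eq_smul_one, TensorProduct.smul_tmul]
    rw [h3, h1]
    exact ((local_hom_TFAE (algebraMap A B)).out 0 4 rfl rfl).mp inferInstance
  have : P.IsMaximal := by
    apply Ideal.isMaximal_of_isIntegral_of_isMaximal_comap (R := A) P
    rw [h2]; infer_instance
  exact IsLocalRing.eq_maximalIdeal this


theorem ker_le [Algebra.IsIntegral A C] (M : Ideal (B ⊗[A] C)) (hM : M.IsMaximal) :
    RingHom.ker (φ₀ A B C) ≤ M := by
  rw [ker_φ₀]
  refine sup_le ?_ ?_
  · rw [Ideal.map_le_iff_le_comap]
    exact (comap_left M).ge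
  · rw [Ideal.map_le_iff_le_comap]
    exact (comap_right M).ge

theorem unique_prime
    (h : IsPurelyInseparable (ResidueField A) (ResidueField C) ∨
      IsPurelyInseparable (ResidueField A) (ResidueField B)) :
    ∀ P Q : Ideal (ResidueField B ⊗[ResidueField A] ResidueField C),
      P.IsPrime → Q.IsPrime → P = Q := by
  rcases h with h | h
  · exact unique_prime_of_homeo _
      (PrimeSpectrum.isHomeomorph_comap_of_isPurelyInseparable (ResidueField A) (ResidueField C)
        (ResidueField B)) (field_unique_prime _)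
  · have h1 := unique_prime_of_homeo _
      (PrimeSpectrum.isHomeomorph_comap_of_isPurelyInseparable (ResidueField A) (ResidueField B)
        (ResidueField C)) (field_unique_prime _)
    let e : ResidueField B ⊗[ResidueField A] ResidueField C ≃ₐ[ResidueField A]
      ResidueField C ⊗[ResidueField A] ResidueField B := Algebra.TensorProduct.comm _ _ _
    intro P Q hP hQ
    have := h1 (P.comap e.symm.toRingEquiv.toRingHom) (Q.comap e.symm.toRingEquiv.toRingHom)
      (Ideal.comap_isPrime _ P) (Ideal.comap_isPrime _ Q)
    have h2 := congrArg (Ideal.comap e.toRingEquiv.toRingHom) this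
    rw [Ideal.comap_comap, Ideal.comap_comap] at h2
    have e1 : (e.symm.toRingEquiv.toRingHom).comp e.toRingEquiv.toRingHom = RingHom.id _ := by
      refine RingHom.ext fun x => ?_
      exact e.symm_apply_apply x
    rw [e1, Ideal.comap_id, Ideal.comap_id] at h2
    exact h2

theorem main [Algebra.IsIntegral A C]
    (h : IsPurelyInseparable (ResidueField A) (ResidueField C) ∨
      IsPurelyInseparable (ResidueField A) (ResidueField B)) :
    IsLocalRing (B ⊗[A] C) ∧
      IsLocalHom (Algebra.TensorProduct.includeLeft : B →ₐ[A] B ⊗[A] C).toRingHom ∧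
      IsLocalHom (Algebra.TensorProduct.includeRight : C →ₐ[A] B ⊗[A] C).toRingHom := by
  have hloc : IsLocalRing (B ⊗[A] C) := by
    refine isLocalRing_of_surjective ((eqv A B C).toAlgHom.comp (φ₀ A B C)).toRingHom ?_
      (unique_prime h) ?_
    · exact (eqv A B C).surjective.comp (φ₀_surjective A B C)
    · intro M hM
      refine le_trans ?_ (ker_le M hM)
      intro x hx
      rw [RingHom.mem_ker] at hx ⊢
      have : (eqv A B C) (φ₀ A B C x) = 0 := hx
      simpa using this
  refine ⟨hloc, ⟨fun b hb => ?_⟩, ⟨fun c hc => ?_⟩⟩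
  · by_contra hb'
    have : b ∈ maximalIdeal B := (IsLocalRing.mem_maximalIdeal b).mpr hb'
    rw [← comap_left (maximalIdeal (B ⊗[A] C))] at this
    exact (IsLocalRing.mem_maximalIdeal _).mp this hb
  · by_contra hc'
    have : c ∈ maximalIdeal C := (IsLocalRing.mem_maximalIdeal c).mpr hc'
    rw [← comap_right (maximalIdeal (B ⊗[A] C))] at this
    exact (IsLocalRing.mem_maximalIdeal _).mp this hc

end H5LocTensor
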