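import Groth.Prelude.Def_CAlgX
import Mathlib.LinearAlgebra.Matrix.Adjugate
import Mathlib.LinearAlgebra.Matrix.Determinant.Basic

set_option autoImplicit false
universe u
open Matrix

namespace H5Minor

variable {R : Type u} [CommRing R] {n m : ℕ}

/-- weak Cauchy–Binet: `det (B * A)` is a combination of the determinants of the row-selections
of `A`. -/
theorem det_mul_eq_sum (B : Matrix (Fin m) (Fin n) R) (A : Matrix (Fin n) (Fin m) R) :
    (B * A).det = ∑ κ : Fin m → Fin n, (∏ i, B i (κ i)) * (A.submatrix κ id).det := by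
  have h1 : (B * A) = fun i => ∑ k, B i k • A k := by
    ext i j
    simp [Matrix.mul_apply, Finset.sum_apply]
  have h2 : (B * A).det = (Matrix.detRowAlternating (R := R) (n := Fin m)).toMultilinearMap
      (fun i => ∑ k, B i k • A k) := by
    rw [h1]; rfl
  rw [h2, MultilinearMap.map_sum]
  refine Finset.sum_congr rfl fun κ _ => ?_
  rw [MultilinearMap.map_smul_univ, smul_eq_mul]
  rfl

theorem part2 (A : Matrix (Fin n) (Fin m) R) (f : R) (B : Matrix (Fin m) (Fin n) R)
    (h : B * A = f • (1 : Matrix (Fin m) (Fin m) R)) : f ^ m ∈ CAlgX.minorIdeal A m := by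
  have h1 : (B * A).det = f ^ m := by
    rw [h, Matrix.det_smul, Matrix.det_one, mul_one, Fintype.card_fin]
  rw [← h1, det_mul_eq_sum]
  refine Ideal.sum_mem _ fun κ _ => Ideal.mul_mem_left _ _ ?_
  exact Ideal.subset_span ⟨(κ, id), rfl⟩

theorem part1 (A : Matrix (Fin n) (Fin m) R) (f : R) (hf : f ∈ CAlgX.minorIdeal A m) :
    ∃ B : Matrix (Fin m) (Fin n) R, B * A = f • (1 : Matrix (Fin m) (Fin m) R) := by
  unfold CAlgX.minorIdeal at hf
  refine Submodule.span_induction ?_ ?_ ?_ ?_ hf
  · rintro _ ⟨⟨κ, g⟩, rfl⟩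
    simp only
    by_cases hg : Function.Injective g
    · let σ : Equiv.Perm (Fin m) := Equiv.ofBijective g (Finite.injective_iff_bijective.mp hg)
      have hdet : (A.submatrix κ g).det = Equiv.Perm.sign σ * (A.submatrix κ id).det := by
        have : A.submatrix κ g = (A.submatrix κ id).submatrix id σ := by
          ext i j; rfl
        rw [this, Matrix.det_permute']
      let P : Matrix (Fin m) (Fin n) R := (1 : Matrix (Fin n) (Fin n) R).submatrix κ id
      have hP : P * A = A.submatrix κ id := by
        have := Matrix.one_submatrix_mul κ (Equiv.refl (Fin n)) A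
        simpa [P] using this
      refine ⟨((Equiv.Perm.sign σ : ℤ) : R) • ((A.submatrix κ id).adjugate * P), ?_⟩
      rw [Matrix.smul_mul, Matrix.mul_assoc, hP, Matrix.adjugate_mul, hdet, smul_smul]
    · have : (A.submatrix κ g).det = 0 := by
        rw [Function.Injective] at hg
        push Not at hg
        obtain ⟨i, j, hij, hne⟩ := hg
        exact Matrix.det_zero_of_column_eq hne (fun k => by simp [Matrix.submatrix_apply, hij])
      exact ⟨0, by rw [this, zero_smul, Matrix.zero_mul]⟩
  · exact ⟨0, by simp⟩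
  · rintro x y _ _ ⟨B1, h1⟩ ⟨B2, h2⟩
    exact ⟨B1 + B2, by rw [Matrix.add_mul, h1, h2, add_smul]⟩
  · rintro a x _ ⟨B, hB⟩
    exact ⟨a • B, by rw [Matrix.smul_mul, hB, smul_smul, smul_eq_mul]⟩

end H5Minor
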