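import Mathlib

open MvPolynomial

namespace H5Prym5

universe u

variable {K : Type u} [Field K]

local notation "m" => idealOfVars (Fin 2) K
local notation "M" => idealOfVars (Fin 3) K

theorem mem_m_iff (p : MvPolynomial (Fin 2) K) : p ∈ m ↔ constantCoeff p = 0 := by
  have := mem_pow_idealOfVars_iff' (σ := Fin 2) (R := K) 1 p
  rw [pow_one] at this
  rw [this]
  constructor
  · intro h
    exact h 0 (by simp)
  · intro h x hx
    have : x = 0 := by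
      rw [Nat.lt_one_iff, Finsupp.degree_eq_zero_iff] at hx
      exact hx
    subst this
    exact h

/-- the retraction `K[x,y,z] → K[x,y]`, `z ↦ 0`. -/
noncomputable def σ : MvPolynomial (Fin 3) K →ₐ[K] MvPolynomial (Fin 2) K :=
  aeval (Fin.snoc (fun i : Fin 2 => (X i : MvPolynomial (Fin 2) K)) 0 :
    Fin 3 → MvPolynomial (Fin 2) K)

theorem σ_rename (p : MvPolynomial (Fin 2) K) : σ (rename Fin.castSucc p) = p := by
  rw [σ, aeval_rename]
  have : (Fin.snoc (fun i : Fin 2 => (X i : MvPolynomial (Fin 2) K)) 0 :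
    Fin 3 → MvPolynomial (Fin 2) K) ∘ Fin.castSucc = X := by
    funext i
    simp
  rw [this, aeval_X_left_apply]

theorem σ_X2 : σ (X (2 : Fin 3) : MvPolynomial (Fin 3) K) = 0 := by
  rw [σ, aeval_X]
  exact Fin.snoc_last (α := fun _ => MvPolynomial (Fin 2) K) _ _

theorem map_σ_le : Ideal.map (σ (K := K)) M ≤ m := by
  rw [Ideal.map_span, Ideal.span_le]
  rintro _ ⟨_, ⟨i, rfl⟩, rfl⟩
  induction i using Fin.lastCases with
  | last =>
    have : σ (X (Fin.last 2) : MvPolynomial (Fin 3) K) = 0 := σ_X2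
    change σ (X (Fin.last 2)) ∈ m
    rw [this]; exact Ideal.zero_mem _
  | cast j =>
    change σ (X (Fin.castSucc j)) ∈ m
    have : σ (X (Fin.castSucc j) : MvPolynomial (Fin 3) K) = X j := by
      rw [σ, aeval_X, Fin.snoc_castSucc]
    rw [this]
    exact Ideal.subset_span ⟨j, rfl⟩

theorem map_rename_le :
    Ideal.map (rename (R := K) (Fin.castSucc : Fin 2 → Fin 3)) m ≤ M := by
  rw [Ideal.map_span, Ideal.span_le]
  rintro _ ⟨_, ⟨i, rfl⟩, rfl⟩
  rw [rename_X]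
  exact Ideal.subset_span ⟨_, rfl⟩

theorem rename_mem_pow_iff (n : ℕ) (p : MvPolynomial (Fin 2) K) :
    rename (Fin.castSucc : Fin 2 → Fin 3) p ∈ M ^ n ↔ p ∈ m ^ n := by
  constructor
  · intro h
    have h1 : σ (rename (Fin.castSucc : Fin 2 → Fin 3) p) ∈ Ideal.map (σ (K := K)) (M ^ n) :=
      Ideal.mem_map_of_mem _ h
    rw [σ_rename, Ideal.map_pow] at h1
    exact Ideal.pow_right_mono map_σ_le n h1
  · intro h
    have h1 : rename (Fin.castSucc : Fin 2 → Fin 3) p ∈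
        Ideal.map (rename (R := K) (Fin.castSucc : Fin 2 → Fin 3)) (m ^ n) :=
      Ideal.mem_map_of_mem _ h
    rw [Ideal.map_pow] at h1
    exact Ideal.pow_right_mono map_rename_le n h1

theorem X2_mem : (X (2 : Fin 3) : MvPolynomial (Fin 3) K) ∈ M := Ideal.subset_span ⟨_, rfl⟩

/-- for `G₄ ∈ m`: `G₂ G₄ ∈ m²` iff `G₂ ∈ m` or `G₄ ∈ m²`. -/
theorem mul_mem_sq_iff (G₂ G₄ : MvPolynomial (Fin 2) K) (h4 : G₄ ∈ m) :
    G₂ * G₄ ∈ m ^ 2 ↔ (G₂ ∈ m ∨ G₄ ∈ m ^ 2) := by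
  constructor
  · intro h
    by_cases h2 : G₂ ∈ m
    · exact Or.inl h2
    right
    rw [mem_m_iff] at h2
    set a := constantCoeff G₂ with ha
    have h5 : G₂ - C a ∈ m := by
      rw [mem_m_iff, map_sub, constantCoeff_C, sub_self]
    have h6 : (G₂ - C a) * G₄ ∈ m ^ 2 := by
      rw [pow_two]; exact Ideal.mul_mem_mul h5 h4
    have h7 : C a * G₄ ∈ m ^ 2 := by
      have : C a * G₄ = G₂ * G₄ - (G₂ - C a) * G₄ := by ring
      rw [this]; exact Ideal.sub_mem _ h h6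
    have h8 : G₄ = C a⁻¹ * (C a * G₄) := by
      rw [← mul_assoc, ← C_mul, inv_mul_cancel₀ h2, C_1, one_mul]
    rw [h8]
    exact Ideal.mul_mem_left _ _ h7
  · rintro (h | h)
    · rw [pow_two]; exact Ideal.mul_mem_mul h h4
    · exact Ideal.mul_mem_left _ _ h

theorem main (G₂ G₃ G₄ : MvPolynomial (Fin 2) K)
    (hQ : MvPolynomial.rename (Fin.castSucc : Fin 2 → Fin 3) G₂ * MvPolynomial.X (2 : Fin 3) ^ 2
        + 2 * MvPolynomial.rename (Fin.castSucc : Fin 2 → Fin 3) G₃ * MvPolynomial.X (2 : Fin 3)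
        + MvPolynomial.rename (Fin.castSucc : Fin 2 → Fin 3) G₄
        ∈ Ideal.span (Set.range (MvPolynomial.X : Fin 3 → MvPolynomial (Fin 3) K)))
    (hD : G₃ ^ 2 - G₂ * G₄ ∈ Ideal.span (Set.range (MvPolynomial.X : Fin 2 → MvPolynomial (Fin 2) K))) :
    G₃ ^ 2 - G₂ * G₄ ∈ (Ideal.span (Set.range (MvPolynomial.X : Fin 2 → MvPolynomial (Fin 2) K))) ^ 2 ↔
      (MvPolynomial.rename (Fin.castSucc : Fin 2 → Fin 3) G₂ * MvPolynomial.X (2 : Fin 3) ^ 2
          + 2 * MvPolynomial.rename (Fin.castSucc : Fin 2 → Fin 3) G₃ * MvPolynomial.X (2 : Fin 3)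
          + MvPolynomial.rename (Fin.castSucc : Fin 2 → Fin 3) G₄
          ∈ (Ideal.span (Set.range (MvPolynomial.X : Fin 3 → MvPolynomial (Fin 3) K))) ^ 2 ∨
        (G₂ ∈ Ideal.span (Set.range (MvPolynomial.X : Fin 2 → MvPolynomial (Fin 2) K)) ∧
          G₃ ∈ Ideal.span (Set.range (MvPolynomial.X : Fin 2 → MvPolynomial (Fin 2) K)) ∧
          G₄ ∈ Ideal.span (Set.range (MvPolynomial.X : Fin 2 → MvPolynomial (Fin 2) K)))) := by
  change _ ∈ M at hQ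
  change _ ∈ m at hD
  change _ ∈ m ^ 2 ↔ (_ ∈ M ^ 2 ∨ (G₂ ∈ m ∧ G₃ ∈ m ∧ G₄ ∈ m))
  -- G₄ ∈ m
  have h4 : G₄ ∈ m := by
    have h1 := map_σ_le (Ideal.mem_map_of_mem (σ (K := K)) hQ)
    simpa [σ_rename, σ_X2] using h1
  -- G₃ ∈ m
  have h3 : G₃ ∈ m := by
    have h1 : G₃ ^ 2 ∈ m := by
      have : G₃ ^ 2 = (G₃ ^ 2 - G₂ * G₄) + G₂ * G₄ := by ring
      rw [this]; exact Ideal.add_mem _ hD (Ideal.mul_mem_left _ _ h4)
    rw [mem_m_iff, map_pow] at h1
    rw [mem_m_iff]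
    exact pow_eq_zero_iff (two_ne_zero) |>.mp h1
  have h3sq : G₃ ^ 2 ∈ m ^ 2 := Ideal.pow_mem_pow h3 2
  -- LHS ⟺ G₂ G₄ ∈ m²
  have hL : G₃ ^ 2 - G₂ * G₄ ∈ m ^ 2 ↔ G₂ * G₄ ∈ m ^ 2 := by
    constructor
    · intro h
      have : G₂ * G₄ = G₃ ^ 2 - (G₃ ^ 2 - G₂ * G₄) := by ring
      rw [this]; exact Ideal.sub_mem _ h3sq h
    · intro h
      exact Ideal.sub_mem _ h3sq h
  -- h ∈ M² ⟺ G₄ ∈ m²
  have hR : MvPolynomial.rename (Fin.castSucc : Fin 2 → Fin 3) G₂ * MvPolynomial.X (2 : Fin 3) ^ 2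
          + 2 * MvPolynomial.rename (Fin.castSucc : Fin 2 → Fin 3) G₃ * MvPolynomial.X (2 : Fin 3)
          + MvPolynomial.rename (Fin.castSucc : Fin 2 → Fin 3) G₄ ∈ M ^ 2 ↔ G₄ ∈ m ^ 2 := by
    have e1 : MvPolynomial.rename (Fin.castSucc : Fin 2 → Fin 3) G₂ *
        MvPolynomial.X (2 : Fin 3) ^ 2 ∈ M ^ 2 :=
      Ideal.mul_mem_left _ _ (Ideal.pow_mem_pow X2_mem 2)
    have e2 : 2 * MvPolynomial.rename (Fin.castSucc : Fin 2 → Fin 3) G₃ *
        MvPolynomial.X (2 : Fin 3) ∈ M ^ 2 := by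
      rw [mul_assoc]
      apply Ideal.mul_mem_left
      rw [pow_two]
      refine Ideal.mul_mem_mul ?_ X2_mem
      have := (rename_mem_pow_iff 1 G₃).mpr (by rwa [pow_one])
      rwa [pow_one] at this
    rw [← rename_mem_pow_iff 2 G₄]
    constructor
    · intro h
      have : MvPolynomial.rename (Fin.castSucc : Fin 2 → Fin 3) G₄ =
        (MvPolynomial.rename (Fin.castSucc : Fin 2 → Fin 3) G₂ * MvPolynomial.X (2 : Fin 3) ^ 2
          + 2 * MvPolynomial.rename (Fin.castSucc : Fin 2 → Fin 3) G₃ * MvPolynomial.X (2 : Fin 3)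
          + MvPolynomial.rename (Fin.castSucc : Fin 2 → Fin 3) G₄) -
        MvPolynomial.rename (Fin.castSucc : Fin 2 → Fin 3) G₂ * MvPolynomial.X (2 : Fin 3) ^ 2 -
        2 * MvPolynomial.rename (Fin.castSucc : Fin 2 → Fin 3) G₃ * MvPolynomial.X (2 : Fin 3) := by
        ring
      rw [this]
      exact Ideal.sub_mem _ (Ideal.sub_mem _ h e1) e2
    · intro h
      exact Ideal.add_mem _ (Ideal.add_mem _ e1 e2) h
  rw [hL, hR, mul_mem_sq_iff G₂ G₄ h4]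
  constructor
  · rintro (h | h)
    · exact Or.inr ⟨h, h3, h4⟩
    · exact Or.inl h
  · rintro (h | ⟨h, -, -⟩)
    · exact Or.inr h
    · exact Or.inl h

end H5Prym5
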