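import Mathlib

open Polynomial

namespace H5Prym5b

universe u

section Integral

variable {R : Type*} [CommRing R] (h : R[X]) (S : Submonoid R)
  (R' A' : Type*) [CommRing R'] [CommRing A'] [Algebra R R'] [Algebra (AdjoinRoot h) A']
  [Algebra R A'] [Algebra R' A'] [IsScalarTower R R' A'] [IsScalarTower R (AdjoinRoot h) A']
  [IsLocalization S R'] [IsLocalization (Algebra.algebraMapSubmonoid (AdjoinRoot h) S) A']

include S in
theorem isIntegral_of_isUnit (hu : IsUnit (algebraMap R R' h.leadingCoeff)) :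
    Algebra.IsIntegral R' A' := by
  set z : A' := algebraMap (AdjoinRoot h) A' (AdjoinRoot.root h) with hz
  -- `z` is integral
  have hz0 : aeval z h = 0 := by
    rw [hz, aeval_algebraMap_apply, AdjoinRoot.aeval_eq, AdjoinRoot.mk_self, map_zero]
  have h1 : IsIntegral R (h.leadingCoeff • z) := isIntegral_leadingCoeff_smul h z hz0
  have h2 : IsIntegral R' (h.leadingCoeff • z) := h1.tower_top
  obtain ⟨u, hu'⟩ := hu
  have h3 : z = algebraMap R' A' (↑u⁻¹ : R') * (h.leadingCoeff • z) := by
    rw [Algebra.smul_def, IsScalarTower.algebraMap_apply R R' A', ← hu', ← mul_assoc, ← map_mul,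
      Units.inv_mul, map_one, one_mul]
  have hzint : IsIntegral R' z := by
    rw [h3]
    exact isIntegral_algebraMap.mul h2
  -- images of `A` are integral
  have hA : ∀ α : AdjoinRoot h, IsIntegral R' (algebraMap (AdjoinRoot h) A' α) := by
    intro α
    obtain ⟨P, rfl⟩ := AdjoinRoot.mk_surjective α
    rw [← AdjoinRoot.aeval_eq, ← aeval_algebraMap_apply, ← hz]
    have hmem : aeval z P ∈ Algebra.adjoin R {z} := aeval_mem_adjoin_singleton R z
    have hle : Algebra.adjoin R {z} ≤ (integralClosure R' A').restrictScalars R := by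
      apply Algebra.adjoin_le
      rintro _ rfl
      exact hzint
    exact hle hmem
  constructor
  intro x
  obtain ⟨⟨α, t⟩, hx⟩ := IsLocalization.surj (Algebra.algebraMapSubmonoid (AdjoinRoot h) S) x
  obtain ⟨s, hs, hst⟩ := t.2
  have h4 : algebraMap (AdjoinRoot h) A' (t : AdjoinRoot h) =
      algebraMap R' A' (algebraMap R R' s) := by
    rw [← hst, ← IsScalarTower.algebraMap_apply, ← IsScalarTower.algebraMap_apply]
  have h5 : x = algebraMap (AdjoinRoot h) A' α *
      algebraMap R' A' (IsLocalization.mk' R' (1 : R) (⟨s, hs⟩ : S)) := by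
    have : algebraMap R' A' (algebraMap R R' s) *
        algebraMap R' A' (IsLocalization.mk' R' (1 : R) (⟨s, hs⟩ : S)) = 1 := by
      rw [← map_mul, mul_comm]
      have := IsLocalization.mk'_spec R' (1 : R) (⟨s, hs⟩ : S)
      rw [this, map_one, map_one]
    rw [← hx, h4, mul_assoc, this, mul_one]
  rw [h5]
  exact (hA α).mul isIntegral_algebraMap

include S in
theorem isUnit_of_isIntegral [IsDomain R] (hint : Algebra.IsIntegral R' A') :
    IsUnit (algebraMap R R' h.leadingCoeff) := by
  by_cases h0S : (0 : R) ∈ S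
  · haveI : Subsingleton R' := IsLocalization.subsingleton (M := S) h0S
    exact isUnit_of_subsingleton _
  have hS : S ≤ nonZeroDivisors R := fun x hx =>
    mem_nonZeroDivisors_of_ne_zero (fun hx0 => h0S (hx0 ▸ hx))
  have hinj : Function.Injective (algebraMap R R') := IsLocalization.injective R' hS
  set z : A' := algebraMap (AdjoinRoot h) A' (AdjoinRoot.root h) with hz
  obtain ⟨g, hgm, hg0⟩ := hint.isIntegral z
  obtain ⟨b, hb⟩ := IsLocalization.integerNormalization_map_to_map S g
  set G := IsLocalization.integerNormalization S g with hG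
  -- the leading coefficient of `G` is `b`
  have hlc : G.leadingCoeff = (b : R) := by
    apply hinj
    rw [← leadingCoeff_map_of_injective hinj, hb, Algebra.smul_def, leadingCoeff_mul_monic hgm]
    simp
  have hbne : ((b : R)) ≠ 0 := fun hb0 => h0S (hb0 ▸ b.2)
  have hGne : G ≠ 0 := fun hG0 => hbne (by rw [← hlc, hG0, leadingCoeff_zero])
  -- `G` kills `z`
  have hGz : aeval z G = 0 := by
    have e1 : aeval z G = aeval z (G.map (algebraMap R R')) := (aeval_map_algebraMap R' z G).symm
    rw [e1, hb, Algebra.smul_def, map_mul, show aeval z g = eval₂ (algebraMap R' A') z g from rfl,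
      hg0, mul_zero]
  have hGA : algebraMap (AdjoinRoot h) A' (AdjoinRoot.mk h G) = 0 := by
    rw [← AdjoinRoot.aeval_eq, ← aeval_algebraMap_apply]; exact hGz
  rw [IsLocalization.map_eq_zero_iff (Algebra.algebraMapSubmonoid (AdjoinRoot h) S)] at hGA
  obtain ⟨t, ht⟩ := hGA
  obtain ⟨s, hs, hst⟩ := t.2
  have hdvd : h ∣ C s * G := by
    rw [← AdjoinRoot.mk_eq_zero, map_mul, AdjoinRoot.mk_C, ← AdjoinRoot.algebraMap_eq, hst]
    exact ht
  obtain ⟨q, hq⟩ := hdvd
  have hlc2 : h.leadingCoeff * q.leadingCoeff = s * (b : R) := by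
    rw [← leadingCoeff_mul, ← hq, leadingCoeff_mul, leadingCoeff_C, hlc]
  have hunit : IsUnit (algebraMap R R' (s * (b : R))) :=
    IsLocalization.map_units R' (⟨s * b, S.mul_mem hs b.2⟩ : S)
  rw [← hlc2, map_mul] at hunit
  exact isUnit_of_mul_isUnit_left hunit

end Integral

section Rank

open TensorProduct

variable {R : Type u} [CommRing R] [IsDomain R] (h : R[X])

local notation "K'" => FractionRing R

theorem ofId_eq : ((Algebra.ofId R (AdjoinRoot (h.map (algebraMap R K'))) :
      R →ₐ[R] AdjoinRoot (h.map (algebraMap R K'))) : R →+* AdjoinRoot (h.map (algebraMap R K'))) =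
    (AdjoinRoot.of (h.map (algebraMap R K'))).comp (algebraMap R K') := by
  refine RingHom.ext (fun r => ?_)
  change algebraMap R (AdjoinRoot (h.map (algebraMap R K'))) r = _
  rw [IsScalarTower.algebraMap_apply R K' (AdjoinRoot (h.map (algebraMap R K')))]
  rfl

/-- `K ⊗ R[z]/(h) ≃ K[z]/(h)`. -/
noncomputable def fwd : K' ⊗[R] AdjoinRoot h →ₐ[K'] AdjoinRoot (h.map (algebraMap R K')) :=
  Algebra.TensorProduct.lift (Algebra.ofId K' _)
    (AdjoinRoot.liftAlgHom h (Algebra.ofId R (AdjoinRoot (h.map (algebraMap R K'))))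
      (AdjoinRoot.root (h.map (algebraMap R K'))) (by
        rw [ofId_eq, ← eval₂_map, AdjoinRoot.eval₂_root]))
    (fun _ _ => Commute.all _ _)

noncomputable def bwd : AdjoinRoot (h.map (algebraMap R K')) →ₐ[K'] K' ⊗[R] AdjoinRoot h :=
  AdjoinRoot.liftAlgHom (h.map (algebraMap R K')) (Algebra.ofId K' _)
    ((1 : K') ⊗ₜ[R] AdjoinRoot.root h) (by
      change eval₂ (algebraMap K' (K' ⊗[R] AdjoinRoot h)) _ _ = 0
      rw [eval₂_map, ← IsScalarTower.algebraMap_eq]
      have h1 : (1 : K') ⊗ₜ[R] AdjoinRoot.root h =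
          (Algebra.TensorProduct.includeRight : AdjoinRoot h →ₐ[R] K' ⊗[R] AdjoinRoot h)
            (AdjoinRoot.root h) := rfl
      rw [h1, ← aeval_def, aeval_algHom_apply, AdjoinRoot.aeval_eq, AdjoinRoot.mk_self, map_zero])

theorem fwd_bwd : (fwd h).comp (bwd h) = AlgHom.id K' _ := by
  apply AdjoinRoot.algHom_ext
  simp [fwd, bwd]

theorem bwd_fwd : (bwd h).comp (fwd h) = AlgHom.id K' _ := by
  apply Algebra.TensorProduct.ext
  · ext
  · apply AdjoinRoot.algHom_ext
    simp [fwd, bwd]

theorem finrank_eq (h0 : h ≠ 0) :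
    Module.finrank K' (K' ⊗[R] AdjoinRoot h) = h.natDegree := by
  have hinj : Function.Injective (algebraMap R K') := IsFractionRing.injective R K'
  have hne : h.map (algebraMap R K') ≠ 0 := (Polynomial.map_ne_zero_iff hinj).mpr h0
  let e : (K' ⊗[R] AdjoinRoot h) ≃ₐ[K'] AdjoinRoot (h.map (algebraMap R K')) :=
    AlgEquiv.ofAlgHom (fwd h) (bwd h) (fwd_bwd h) (bwd_fwd h)
  rw [e.toLinearEquiv.finrank_eq, (AdjoinRoot.powerBasis hne).finrank, AdjoinRoot.powerBasis_dim,
    natDegree_map_eq_of_injective hinj]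

end Rank

theorem main (K : Type u) [Field K]
    (h : Polynomial (MvPolynomial (Fin 2) K)) (hirr : Irreducible h) (hdeg : h.natDegree = 2)
    (S : Submonoid (MvPolynomial (Fin 2) K)) :
    (Algebra.IsIntegral (Localization S) (Localization (Algebra.algebraMapSubmonoid (AdjoinRoot h) S))
        ↔ IsUnit (algebraMap (MvPolynomial (Fin 2) K) (Localization S) h.leadingCoeff))
      ∧ Module.finrank (FractionRing (MvPolynomial (Fin 2) K))
          (TensorProduct (MvPolynomial (Fin 2) K) (FractionRing (MvPolynomial (Fin 2) K)) (AdjoinRoot h)) = 2 := by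
  refine ⟨⟨fun hint => isUnit_of_isIntegral h S _ _ hint,
    fun hu => isIntegral_of_isUnit h S _ _ hu⟩, ?_⟩
  rw [finrank_eq h hirr.ne_zero, hdeg]

end H5Prym5b
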