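import Mathlib

open MvPolynomial

namespace H5RatCurve

universe u

variable {k : Type u} [Field k]

theorem aeval_smul_left {σ : Type*} {B : Type*} [CommRing B] [Algebra k B]
    (F : MvPolynomial σ k) (d : ℕ) (hF : F.IsHomogeneous d) (c : k) (x : σ → B) :
    aeval (fun i => c • x i) F = c ^ d • aeval x F := by
  rw [aeval_def, aeval_def, eval₂_eq, eval₂_eq, Finset.smul_sum]
  refine Finset.sum_congr rfl (fun m hm => ?_)
  have hd := hF.degree_eq_sum_deg_support hm
  simp only [Algebra.smul_def, mul_pow, Finset.prod_mul_distrib, Finset.prod_pow_eq_pow_sum,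
    ← hd, map_pow]
  ring

theorem aeval_smul_right {σ : Type*} {B : Type*} [CommRing B] [Algebra k B]
    (F : MvPolynomial σ k) (d : ℕ) (hF : F.IsHomogeneous d) (a : σ → k) (t : B) :
    aeval (fun i => a i • t) F = (eval a F) • t ^ d := by
  rw [aeval_def, eval₂_eq, eval_eq, Finset.sum_smul]
  refine Finset.sum_congr rfl (fun m hm => ?_)
  have hd := hF.degree_eq_sum_deg_support hm
  simp only [Algebra.smul_def, mul_pow, Finset.prod_mul_distrib, Finset.prod_pow_eq_pow_sum,
    ← hd, map_pow, map_mul, map_prod]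
  ring

/-- the linear form vanishing at `a`. -/
noncomputable def lin (a : Fin 2 → k) : MvPolynomial (Fin 2) k := C (a 1) * X 0 - C (a 0) * X 1

theorem eval_lin (a : Fin 2 → k) : eval a (lin a) = 0 := by
  simp [lin]; ring

theorem lin_dvd (a : Fin 2 → k) (ha : a ≠ 0) (F : MvPolynomial (Fin 2) k) (d : ℕ)
    (hF : F.IsHomogeneous d) (h0 : eval a F = 0) : lin a ∣ F := by
  obtain ⟨j, hj⟩ : ∃ j, a j ≠ 0 := by
    by_contra hcon
    push Not at hcon
    exact ha (funext hcon)
  rw [← Ideal.mem_span_singleton, ← Ideal.Quotient.eq_zero_iff_mem]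
  set π := Ideal.Quotient.mkₐ k (Ideal.span {lin a}) with hπ
  have hkey : ∀ i, π (a j • X i) = π (a i • X j) := by
    intro i
    rw [← sub_eq_zero, ← map_sub]
    apply Ideal.Quotient.eq_zero_iff_mem.mpr
    rw [Ideal.mem_span_singleton]
    fin_cases j <;> fin_cases i
    · simp
    · refine ⟨-1, ?_⟩
      simp [lin, smul_eq_C_mul]
    · refine ⟨1, ?_⟩
      simp [lin, smul_eq_C_mul]
    · simp
  have h1 : (a j) ^ d • π F = 0 := by
    rw [← map_smul, ← aeval_X_left_apply (R := k) F, ← aeval_smul_left F d hF (a j) X]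
    rw [← AlgHom.comp_apply, comp_aeval]
    simp only [hkey, map_smul]
    rw [aeval_smul_right F d hF a (π (X j)), h0, zero_smul]
  have h2 : π F = 0 := by
    have := congrArg (fun z => ((a j) ^ d)⁻¹ • z) h1
    simpa [inv_smul_smul₀ (pow_ne_zero d hj)] using this
  exact h2

/-- a polynomial in two variables over an algebraically closed field without nonzero zeros is a
unit. -/
theorem isUnit_of_no_zero [IsAlgClosed k] (H : MvPolynomial (Fin 2) k)
    (hH : ∀ a : Fin 2 → k, a ≠ 0 → eval a H ≠ 0) : IsUnit H := by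
  have hpow : ∀ j : Fin 2, ∃ N : ℕ, H ∣ (X j : MvPolynomial (Fin 2) k) ^ N := by
    intro j
    have hmem : (X j : MvPolynomial (Fin 2) k) ∈
        vanishingIdeal k (zeroLocus k (Ideal.span {H})) := by
      intro x hx
      have hx0 : x = 0 := by
        by_contra hne
        apply hH x hne
        have := hx H (Ideal.mem_span_singleton_self H)
        simpa [aeval_eq_eval] using this
      subst hx0
      simp
    rw [vanishingIdeal_zeroLocus_eq_radical] at hmem
    obtain ⟨N, hN⟩ := hmem
    exact ⟨N, Ideal.mem_span_singleton.mp hN⟩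
  obtain ⟨N, hN⟩ := hpow 0
  obtain ⟨M, hM⟩ := hpow 1
  have hp0 : Prime (X 0 : MvPolynomial (Fin 2) k) := X_prime
  obtain ⟨i, -, hi⟩ := (dvd_prime_pow hp0 N).mp hN
  rcases Nat.eq_zero_or_pos i with rfl | hipos
  · rw [pow_zero] at hi
    exact hi.symm.isUnit isUnit_one
  · exfalso
    have h0 : (X 0 : MvPolynomial (Fin 2) k) ∣ H :=
      (dvd_pow_self _ hipos.ne').trans hi.symm.dvd
    have h1 : (X 0 : MvPolynomial (Fin 2) k) ∣ X 1 := hp0.dvd_of_dvd_pow (h0.trans hM)
    rw [X_dvd_X] at h1
    exact absurd h1 (by decide)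

theorem main17077 [IsAlgClosed k] {n : ℕ} (F : Fin n → MvPolynomial (Fin 2) k)
    (d : Fin n → ℕ) (hF : ∀ i, (F i).IsHomogeneous (d i)) :
    (∃ H : MvPolynomial (Fin 2) k, ¬ IsUnit H ∧ ∀ i, H ∣ F i) ↔
      ∃ a : Fin 2 → k, a ≠ 0 ∧ ∀ i, MvPolynomial.eval a (F i) = 0 := by
  constructor
  · rintro ⟨H, hHu, hHd⟩
    by_contra hcon
    apply hHu
    apply isUnit_of_no_zero
    intro a ha h0
    apply hcon
    refine ⟨a, ha, fun i => ?_⟩
    obtain ⟨G, hG⟩ := hHd i
    rw [hG, map_mul, h0, zero_mul]
  · rintro ⟨a, ha, h0⟩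
    refine ⟨lin a, fun hu => ?_, fun i => lin_dvd a ha (F i) (d i) (hF i) (h0 i)⟩
    have := hu.map (eval a)
    rw [eval_lin] at this
    exact not_isUnit_zero this

theorem hc_mul {σ : Type*} (F G : MvPolynomial σ k) (d m : ℕ) (hF : F.IsHomogeneous d)
    (hdm : d ≤ m) :
    homogeneousComponent m (F * G) = F * homogeneousComponent (m - d) G := by
  classical
  conv_lhs => rw [← sum_homogeneousComponent G]
  rw [Finset.mul_sum, map_sum]
  have hterm : ∀ j, homogeneousComponent m (F * homogeneousComponent j G) =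
      if j = m - d then F * homogeneousComponent j G else 0 := by
    intro j
    have hh : (F * homogeneousComponent j G).IsHomogeneous (d + j) :=
      hF.mul (homogeneousComponent_isHomogeneous j G)
    rw [homogeneousComponent_of_mem hh]
    by_cases h : j = m - d
    · rw [if_pos h, if_pos (by omega)]
    · rw [if_neg h, if_neg (by omega)]
  simp only [hterm, Finset.sum_ite_eq']
  split_ifs with h
  · rfl
  · rw [homogeneousComponent_eq_zero _ _ (by
      have h' : ¬ (m - d < G.totalDegree + 1) := by simpa only [Finset.mem_range] using h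
      omega), mul_zero]

theorem main17078 [IsAlgClosed k] {n : ℕ} (F : Fin n → MvPolynomial (Fin 2) k)
    (d : ℕ) (hF : ∀ i, (F i).IsHomogeneous d) :
    (¬ ∃ H : MvPolynomial (Fin 2) k, ¬ IsUnit H ∧ ∀ i, H ∣ F i) ↔
      ∃ m : ℕ, d ≤ m ∧ ∀ P : MvPolynomial (Fin 2) k, P.IsHomogeneous m →
        ∃ G : Fin n → MvPolynomial (Fin 2) k, (∀ i, (G i).IsHomogeneous (m - d)) ∧
          P = ∑ i, F i * G i := by
  rw [main17077 F (fun _ => d) hF]
  constructor
  · intro hno
    -- powers of the variables lie in the ideal generated by the `F i`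
    have hpow : ∀ j : Fin 2, ∃ N : ℕ, (X j : MvPolynomial (Fin 2) k) ^ N ∈
        Ideal.span (Set.range F) := by
      intro j
      have hmem : (X j : MvPolynomial (Fin 2) k) ∈
          vanishingIdeal k (zeroLocus k (Ideal.span (Set.range F))) := by
        intro x hx
        have hx0 : x = 0 := by
          by_contra hne
          apply hno
          refine ⟨x, hne, fun i => ?_⟩
          have := hx (F i) (Ideal.subset_span ⟨i, rfl⟩)
          simpa [aeval_eq_eval] using this
        subst hx0
        simp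
      rw [vanishingIdeal_zeroLocus_eq_radical] at hmem
      exact hmem
    obtain ⟨N0, hN0⟩ := hpow 0
    obtain ⟨N1, hN1⟩ := hpow 1
    refine ⟨max d (N0 + N1), le_max_left _ _, fun P hP => ?_⟩
    set m := max d (N0 + N1) with hm
    have hPmem : P ∈ Ideal.span (Set.range F) := by
      rw [P.as_sum]
      refine Ideal.sum_mem _ (fun s hs => ?_)
      have hdeg : s.degree = m := by
        have := hP (mem_support_iff.mp hs)
        rw [Finsupp.degree_eq_weight_one]
        exact this
      have hs01 : s 0 + s 1 = m := by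
        rw [← hdeg, Finsupp.degree_eq_sum, Fin.sum_univ_two]
      have hmon : monomial s (coeff s P) = C (coeff s P) * (X 0 ^ s 0 * X 1 ^ s 1) := by
        rw [monomial_eq, Finsupp.prod_fintype _ _ (fun i => pow_zero _), Fin.prod_univ_two]
      rw [hmon]
      apply Ideal.mul_mem_left
      have hge : N0 ≤ s 0 ∨ N1 ≤ s 1 := by
        have : N0 + N1 ≤ m := le_max_right _ _
        omega
      rcases hge with h | h
      · apply Ideal.mul_mem_right
        obtain ⟨c, hc⟩ := Nat.exists_eq_add_of_le h
        rw [hc, pow_add]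
        exact Ideal.mul_mem_right _ _ hN0
      · apply Ideal.mul_mem_left
        obtain ⟨c, hc⟩ := Nat.exists_eq_add_of_le h
        rw [hc, pow_add]
        exact Ideal.mul_mem_right _ _ hN1
    obtain ⟨G, hG⟩ := Ideal.mem_span_range_iff_exists_fun.mp hPmem
    refine ⟨fun i => homogeneousComponent (m - d) (G i),
      fun i => homogeneousComponent_isHomogeneous _ _, ?_⟩
    have h1 : homogeneousComponent m P = P := homogeneousComponent_eq_self hP
    rw [← h1, ← hG, map_sum]
    refine Finset.sum_congr rfl (fun i _ => ?_)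
    rw [mul_comm, hc_mul (F i) (G i) d m (hF i) (le_max_left _ _)]
  · rintro ⟨m, hdm, hsurj⟩ ⟨a, ha, h0⟩
    obtain ⟨j, hj⟩ : ∃ j, a j ≠ 0 := by
      by_contra hcon
      push Not at hcon
      exact ha (funext hcon)
    obtain ⟨G, -, hG⟩ := hsurj (X j ^ m) (isHomogeneous_X_pow j m)
    have := congrArg (eval a) hG
    rw [map_pow, eval_X, map_sum] at this
    have hz : ∑ i, eval a (F i * G i) = 0 :=
      Finset.sum_eq_zero (fun i _ => by rw [map_mul, h0 i, zero_mul])
    rw [hz] at this
    exact pow_ne_zero m hj this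

end H5RatCurve
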