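import Mathlib.RingTheory.ReesAlgebra
import Mathlib.RingTheory.IntegralClosure.Algebra.Basic
import Mathlib.RingTheory.IntegralClosure.IsIntegralClosure.Basic
import Mathlib.Algebra.Polynomial.Eval.Degree
import Groth.Prelude.Def_W4stkalgebra1Int

set_option autoImplicit false
universe u
open Polynomial

namespace H5Rees

variable {R S : Type u} [CommRing R] [CommRing S] [Algebra R S] (I : Ideal R)

/-- the ring hom from the Rees algebra to `S[t]` -/
noncomputable abbrev reesHom : ↥(reesAlgebra I) →+* S[X] :=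
  (Polynomial.mapRingHom (algebraMap R S)).comp (reesAlgebra I).val.toRingHom

theorem reesHom_apply (a : reesAlgebra I) :
    reesHom (S := S) I a = (a : R[X]).map (algebraMap R S) := rfl

theorem forward (s : S) (h : W4stkalgebra1.IsIntegralOverIdeal I s) :
    (reesHom (S := S) I).IsIntegralElem (C s * X) := by
  classical
  obtain ⟨p, hp, hcoef, hev⟩ := h
  set d := p.natDegree with hd
  let c : Fin d → reesAlgebra I := fun i => ⟨monomial (d - i) (p.coeff i), by
    intro k
    rw [coeff_monomial]
    split_ifs with hk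
    · subst hk; exact hcoef i i.2
    · exact zero_mem _⟩
  have hf : ∀ i : Fin d, reesHom (S := S) I (c i) =
      C (algebraMap R S (p.coeff i)) * X ^ (d - (i : ℕ)) := by
    intro i
    rw [reesHom_apply]
    simp only [c, map_monomial, C_mul_X_pow_eq_monomial]
  refine ⟨X ^ d + ∑ i : Fin d, C (c i) * X ^ (i : ℕ), monic_X_pow_add (degree_sum_fin_lt c), ?_⟩
  rw [eval₂_add, eval₂_pow, eval₂_X, eval₂_finsetSum]
  simp only [eval₂_mul, eval₂_C, eval₂_pow, eval₂_X]
  have hterm : ∀ i : Fin d, reesHom (S := S) I (c i) * (C s * X) ^ (i : ℕ) =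
      C (algebraMap R S (p.coeff i) * s ^ (i : ℕ)) * X ^ d := by
    intro i
    rw [hf, mul_pow, ← C_pow, C_mul]
    have : d - (i : ℕ) + i = d := Nat.sub_add_cancel i.2.le
    calc C (algebraMap R S (p.coeff i)) * X ^ (d - (i : ℕ)) * (C (s ^ (i : ℕ)) * X ^ (i : ℕ))
        = C (algebraMap R S (p.coeff i)) * C (s ^ (i : ℕ)) * (X ^ (d - (i : ℕ)) * X ^ (i : ℕ)) := by
          ring
      _ = _ := by rw [← pow_add, this]
  rw [Finset.sum_congr rfl (fun i _ => hterm i), ← Finset.sum_mul, mul_pow, ← C_pow, ← add_mul,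
    ← map_sum, ← C_add]
  have hsum : s ^ d + ∑ i : Fin d, algebraMap R S (p.coeff i) * s ^ (i : ℕ) =
      eval₂ (algebraMap R S) s p := by
    conv_rhs => rw [hp.as_sum]
    rw [eval₂_add, eval₂_pow, eval₂_X, eval₂_finsetSum,
      Fin.sum_univ_eq_sum_range (fun i => algebraMap R S (p.coeff i) * s ^ i) d]
    simp only [eval₂_mul, eval₂_C, eval₂_pow, eval₂_X]
    rfl
  rw [hsum, hev, C_0, zero_mul]

theorem backward (s : S) (h : (reesHom (S := S) I).IsIntegralElem (C s * X)) :
    W4stkalgebra1.IsIntegralOverIdeal I s := by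
  classical
  rcases subsingleton_or_nontrivial R with hR | hR
  · haveI : Subsingleton S := (algebraMap R S).codomain_trivial
    exact ⟨1, monic_one, by simp, Subsingleton.elim _ _⟩
  obtain ⟨P, hP, hev⟩ := h
  set n := P.natDegree with hn
  let a : Fin n → R := fun i => ((P.coeff i : reesAlgebra I) : R[X]).coeff (n - i)
  have hdeg : (∑ i : Fin n, C (a i) * X ^ (i : ℕ)).degree < (n : WithBot ℕ) := degree_sum_fin_lt a
  have hmonic : (X ^ n + ∑ i : Fin n, C (a i) * X ^ (i : ℕ)).Monic := monic_X_pow_add hdeg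
  have hnat : (X ^ n + ∑ i : Fin n, C (a i) * X ^ (i : ℕ)).natDegree = n := by
    rw [add_comm]
    exact natDegree_add_eq_right_of_degree_lt (by rw [degree_X_pow]; exact hdeg) |>.trans
      (natDegree_X_pow n)
  refine ⟨X ^ n + ∑ i : Fin n, C (a i) * X ^ (i : ℕ), hmonic, ?_, ?_⟩
  · intro j hj
    rw [hnat] at hj ⊢
    rw [coeff_add, coeff_X_pow, if_neg hj.ne, zero_add, finsetSum_coeff]
    simp only [coeff_C_mul, coeff_X_pow]
    rw [Finset.sum_eq_single ⟨j, hj⟩]
    · simp only [if_true, mul_one]
      exact (P.coeff j).2 (n - j)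
    · intro b _ hb
      have : j ≠ (b : ℕ) := fun h => hb (Fin.ext h.symm)
      rw [if_neg this, mul_zero]
    · intro h; exact absurd (Finset.mem_univ _) h
  · -- evaluate
    have h0 := congrArg (fun q : S[X] => q.coeff n) hev
    simp only [coeff_zero] at h0
    rw [eval₂_eq_sum_range, finsetSum_coeff] at h0
    have hterm : ∀ j ∈ Finset.range (n + 1),
        (reesHom (S := S) I (P.coeff j) * (C s * X) ^ j).coeff n =
          algebraMap R S (((P.coeff j : reesAlgebra I) : R[X]).coeff (n - j)) * s ^ j := by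
      intro j hj
      have hjn : j ≤ n := Nat.lt_succ_iff.mp (Finset.mem_range.mp hj)
      rw [mul_pow, ← C_pow, ← mul_assoc, coeff_mul_X_pow', if_pos hjn, coeff_mul_C,
        reesHom_apply, coeff_map]
    rw [Finset.sum_congr rfl hterm, Finset.sum_range_succ] at h0
    rw [eval₂_add, eval₂_pow, eval₂_X, eval₂_finsetSum,
      ]
    simp only [eval₂_mul, eval₂_C, eval₂_pow, eval₂_X]
    rw [Fin.sum_univ_eq_sum_range
      (fun i => algebraMap R S (((P.coeff i : reesAlgebra I) : R[X]).coeff (n - i)) * s ^ i) n,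
      add_comm]
    have hlast : algebraMap R S (((P.coeff n : reesAlgebra I) : R[X]).coeff (n - n)) = 1 := by
      have : P.coeff n = 1 := hP.coeff_natDegree
      rw [this, Nat.sub_self]
      simp
    rw [hlast, one_mul] at h0
    exact h0

end H5Rees

namespace H5Rees

variable {R S : Type u} [CommRing R] [CommRing S] [Algebra R S] (I : Ideal R)

theorem iff_rees (s : S) : W4stkalgebra1.IsIntegralOverIdeal I s ↔
    (reesHom (S := S) I).IsIntegralElem (C s * X) :=
  ⟨forward I s, backward I s⟩

/-- constants integral over `R` are integral over the Rees algebra -/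
theorem isIntegralElem_C (s : S) (hs : IsIntegral R s) :
    (reesHom (S := S) I).IsIntegralElem (C s) := by
  obtain ⟨p, hp, hev⟩ := hs
  refine ⟨p.map (algebraMap R (reesAlgebra I)), hp.map _, ?_⟩
  rw [eval₂_map]
  have hcomp : (reesHom (S := S) I).comp (algebraMap R (reesAlgebra I)) =
      (C : S →+* S[X]).comp (algebraMap R S) := by
    ext r
    · simp [reesHom_apply]
  rw [hcomp, ← hom_eval₂, hev, map_zero]

theorem submodule_and_mul :
    (∃ N : Submodule R S, ∀ s : S, s ∈ N ↔ W4stkalgebra1.IsIntegralOverIdeal I s) ∧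
    (∀ s s' : S, IsIntegral R s → W4stkalgebra1.IsIntegralOverIdeal I s' →
      W4stkalgebra1.IsIntegralOverIdeal I (s * s')) := by
  have hmul : ∀ s s' : S, IsIntegral R s → W4stkalgebra1.IsIntegralOverIdeal I s' →
      W4stkalgebra1.IsIntegralOverIdeal I (s * s') := by
    intro s s' hs hs'
    rw [iff_rees] at hs' ⊢
    have := RingHom.IsIntegralElem.mul _ (isIntegralElem_C I s hs) hs'
    rwa [C_mul, mul_assoc]
  refine ⟨⟨{ carrier := {s | W4stkalgebra1.IsIntegralOverIdeal I s}
             add_mem' := ?_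
             zero_mem' := ?_
             smul_mem' := ?_ }, fun s => Iff.rfl⟩, hmul⟩
  · intro s s' hs hs'
    simp only [Set.mem_ofPred_eq, iff_rees] at hs hs' ⊢
    have := RingHom.IsIntegralElem.add _ hs hs'
    rwa [C_add, add_mul]
  · simp only [Set.mem_ofPred_eq, iff_rees]
    rw [C_0, zero_mul]
    exact (reesHom (S := S) I).isIntegralElem_zero
  · intro r s hs
    simp only [Set.mem_ofPred_eq] at hs ⊢
    rw [Algebra.smul_def]
    exact hmul _ _ isIntegral_algebraMap hs

end H5Rees
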