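import Groth.Agent.Lib.Helper5.CA2.MinorInv
import Mathlib.Algebra.Module.FinitePresentation
import Mathlib.RingTheory.Support
import Mathlib.RingTheory.Spectrum.Prime.Module
import Mathlib.RingTheory.Spectrum.Prime.Topology

set_option autoImplicit false
universe u
open Matrix

namespace H5SuppFP

variable (R : Type u) [CommRing R]

/-- the annihilator of `R^n / span(rows of A)` and the ideal of maximal minors have the same
zero locus. -/
theorem zeroLocus_annihilator_quotient {n k : ℕ} (A : Matrix (Fin k) (Fin n) R) :
    PrimeSpectrum.zeroLocus (Module.annihilator R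
        ((Fin n → R) ⧸ Submodule.span R (Set.range fun j => A j)) : Set R) =
      PrimeSpectrum.zeroLocus (CAlgX.minorIdeal A n : Set R) := by
  classical
  set K := Submodule.span R (Set.range fun j => A j) with hK
  -- row i of B * A
  have hrow : ∀ (B : Matrix (Fin n) (Fin k) R) (i : Fin n),
      (B * A) i = ∑ j, B i j • A j := by
    intro B i
    ext l
    simp [Matrix.mul_apply, Finset.sum_apply]
  have h1 : CAlgX.minorIdeal A n ≤ Module.annihilator R ((Fin n → R) ⧸ K) := by
    intro f hf
    obtain ⟨B, hB⟩ := H5Minor.part1 A f hf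
    rw [Module.mem_annihilator]
    intro x
    obtain ⟨y, rfl⟩ := Submodule.Quotient.mk_surjective K x
    rw [← Submodule.Quotient.mk_smul, Submodule.Quotient.mk_eq_zero]
    have hy : f • y = ∑ i, y i • (B * A) i := by
      rw [hB]
      ext l
      simp [Finset.sum_apply, Matrix.one_apply, mul_comm]
    rw [hy]
    refine Submodule.sum_mem _ fun i _ => Submodule.smul_mem _ _ ?_
    rw [hrow]
    exact Submodule.sum_mem _ fun j _ => Submodule.smul_mem _ _
      (Submodule.subset_span ⟨j, rfl⟩)
  have h2 : ∀ f ∈ Module.annihilator R ((Fin n → R) ⧸ K), f ^ n ∈ CAlgX.minorIdeal A n := by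
    intro f hf
    rw [Module.mem_annihilator] at hf
    have hmem : ∀ i : Fin n, f • (Pi.single i (1 : R) : Fin n → R) ∈ K := by
      intro i
      have := hf (Submodule.Quotient.mk (Pi.single i (1 : R)))
      rwa [← Submodule.Quotient.mk_smul, Submodule.Quotient.mk_eq_zero] at this
    have hex : ∀ i : Fin n, ∃ c : Fin k → R, ∑ j, c j • A j = f • (Pi.single i (1 : R) : Fin n → R) := by
      intro i
      have := hmem i
      rw [hK, Submodule.mem_span_range_iff_exists_fun] at this
      exact this
    choose B hB using hex
    have hBA : (Matrix.of B) * A = f • (1 : Matrix (Fin n) (Fin n) R) := by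
      ext i l
      have := congrFun (hB i) l
      rw [show ((Matrix.of B) * A) i l = ((Matrix.of B * A) i) l from rfl, hrow]
      simp only [Matrix.of_apply]
      rw [this]
      simp [Matrix.one_apply, Pi.single_apply, eq_comm]
    exact H5Minor.part2 A f (Matrix.of B) hBA
  apply Set.Subset.antisymm
  · exact PrimeSpectrum.zeroLocus_anti_mono h1
  · intro p hp f hf
    have : f ^ n ∈ p.asIdeal := hp (h2 f hf)
    exact p.2.mem_of_pow_mem n this

theorem isClosed_and_isCompact_compl_support (M : Type u) [AddCommGroup M] [Module R M]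
    [Module.FinitePresentation R M] :
    IsClosed (Module.support R M) ∧ IsCompact (Module.support R M)ᶜ := by
  refine ⟨Module.isClosed_support, ?_⟩
  obtain ⟨n, K, e, hK⟩ := Module.FinitePresentation.exists_fin R M
  obtain ⟨k, v, hv⟩ := Submodule.fg_iff_exists_fin_generating_family.mp hK
  let A : Matrix (Fin k) (Fin n) R := Matrix.of v
  have hKA : K = Submodule.span R (Set.range fun j => A j) := hv.symm
  subst hKA
  have hsupp : Module.support R M = PrimeSpectrum.zeroLocus (CAlgX.minorIdeal A n : Set R) := by
    rw [e.support_eq, Module.support_eq_zeroLocus, zeroLocus_annihilator_quotient]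
  rw [hsupp]
  have hfg : (CAlgX.minorIdeal A n).FG := by
    unfold CAlgX.minorIdeal
    exact ⟨(Set.finite_range fun fg : (Fin n → Fin k) × (Fin n → Fin n) =>
      Matrix.det (A.submatrix fg.1 fg.2)).toFinset, by simp⟩
  exact (PrimeSpectrum.isCompact_isOpen_iff_ideal.mpr ⟨_, hfg, rfl⟩).1

end H5SuppFP
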