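import Mathlib.RingTheory.Trace.Basic
import Mathlib.RingTheory.Length
import Mathlib.RingTheory.SimpleModule.Basic
import Mathlib.RingTheory.LocalRing.ResidueField.Basic
import Mathlib.RingTheory.Artinian.Module
import Mathlib.Algebra.CharP.Lemmas

set_option autoImplicit false
universe u

namespace H5TraceLocal

/-- trace additivity along an invariant subspace -/
theorem trace_eq_add_of_invariant {k V : Type*} [Field k] [AddCommGroup V] [Module k V]
    [FiniteDimensional k V] (f : V →ₗ[k] V) (W : Submodule k V) (hW : W ≤ W.comap f) :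
    LinearMap.trace k V f =
      LinearMap.trace k W (f.restrict hW) + LinearMap.trace k (V ⧸ W) (W.mapQ W f hW) := by
  obtain ⟨s, hs⟩ := W.mkQ.exists_rightInverse_of_surjective (Submodule.range_mkQ W)
  let p' : V →ₗ[k] V := LinearMap.id - s ∘ₗ W.mkQ
  have hp' : ∀ v, p' v ∈ W := by
    intro v
    rw [← Submodule.Quotient.mk_eq_zero W]
    have h1 : W.mkQ (s (W.mkQ v)) = W.mkQ v := LinearMap.congr_fun hs (W.mkQ v)
    show W.mkQ (p' v) = 0
    simp only [p', LinearMap.sub_apply, LinearMap.id_apply, LinearMap.comp_apply, map_sub, h1,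
      sub_self]
  let p : V →ₗ[k] W := p'.codRestrict W hp'
  have hid : (LinearMap.id : V →ₗ[k] V) = W.subtype ∘ₗ p + s ∘ₗ W.mkQ := by
    ext v
    simp [p, p']
  have h1 : LinearMap.trace k V f =
      LinearMap.trace k V (f ∘ₗ W.subtype ∘ₗ p) + LinearMap.trace k V (f ∘ₗ s ∘ₗ W.mkQ) := by
    rw [← map_add, ← LinearMap.comp_add, ← hid, LinearMap.comp_id]
  have h2 : LinearMap.trace k V ((f ∘ₗ W.subtype) ∘ₗ p) =
      LinearMap.trace k W (p ∘ₗ (f ∘ₗ W.subtype)) := LinearMap.trace_comp_comm' p (f ∘ₗ W.subtype)
  have h3 : p ∘ₗ (f ∘ₗ W.subtype) = f.restrict hW := by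
    ext w
    simp only [p, p', LinearMap.comp_apply, LinearMap.codRestrict_apply, LinearMap.sub_apply,
      LinearMap.id_apply, Submodule.subtype_apply, LinearMap.restrict_coe_apply]
    have : W.mkQ (f w) = 0 := (Submodule.Quotient.mk_eq_zero W).mpr (hW w.2)
    rw [this, map_zero, sub_zero]
  have h4 : LinearMap.trace k V ((f ∘ₗ s) ∘ₗ W.mkQ) =
      LinearMap.trace k (V ⧸ W) (W.mkQ ∘ₗ (f ∘ₗ s)) := LinearMap.trace_comp_comm' W.mkQ (f ∘ₗ s)
  have h5 : W.mkQ ∘ₗ (f ∘ₗ s) = W.mapQ W f hW := by
    have : W.mkQ ∘ₗ f = W.mapQ W f hW ∘ₗ W.mkQ := by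
      ext v; simp
    rw [← LinearMap.comp_assoc, this, LinearMap.comp_assoc, hs, LinearMap.comp_id]
  rw [h1, ← LinearMap.comp_assoc, h2, h3, ← LinearMap.comp_assoc, h4, h5]

end H5TraceLocal

namespace H5TraceLocal

section
variable (k : Type u) [Field k] (C : Type u) [CommRing C] [Algebra k C]

/-- trace over `k` of the action of `c` on `M` -/
noncomputable def trOn (M : Type u) [AddCommGroup M] [Module C M] [Module k M]
    [IsScalarTower k C M] (c : C) : k :=
  LinearMap.trace k M (Algebra.lsmul k k M c)

variable {k C}

theorem trOn_congr {M M' : Type u} [AddCommGroup M] [Module C M] [Module k M]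
    [IsScalarTower k C M] [AddCommGroup M'] [Module C M'] [Module k M'] [IsScalarTower k C M']
    (e : M ≃ₗ[C] M') (c : C) : trOn k C M c = trOn k C M' c := by
  unfold trOn
  have h : (e.restrictScalars k).conj (Algebra.lsmul k k M c) = Algebra.lsmul k k M' c := by
    ext x
    simp [LinearEquiv.conj_apply]
  rw [← h, LinearMap.trace_conj']

variable [IsLocalRing C]

theorem trOn_residueField [Module.Finite k C] (c : C) :
    trOn k C (IsLocalRing.ResidueField C) c =
      Algebra.trace k (IsLocalRing.ResidueField C) (IsLocalRing.residue C c) := by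
  unfold trOn
  rw [Algebra.trace_apply]
  congr 1

theorem trOn_eq [Module.Finite k C] (d : ℕ) :
    ∀ (M : Type u) [AddCommGroup M] [Module C M] [Module k M] [IsScalarTower k C M]
      [Module.Finite k M], Module.finrank k M = d → ∀ c : C,
        trOn k C M c = ((Module.length C M).toNat : k) *
          Algebra.trace k (IsLocalRing.ResidueField C) (IsLocalRing.residue C c) := by
  induction d using Nat.strong_induction_on with
  | _ d ih =>
    intro M _ _ _ _ _ hd c
    rcases subsingleton_or_nontrivial M with hM | hM
    · have h0 : Module.length C M = 0 := Module.length_eq_zero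
      have h1 : Algebra.lsmul k k M c = 0 := Subsingleton.elim _ _
      unfold trOn
      rw [h1, map_zero, h0]
      simp
    · haveI : Module.Finite C M := Module.Finite.of_restrictScalars_finite k C M
      obtain ⟨N, hN⟩ : ∃ N : Submodule C M, IsCoatom N := by
        rcases eq_top_or_exists_le_coatom (⊥ : Submodule C M) with h | ⟨N, hN, _⟩
        · exact absurd h bot_ne_top
        · exact ⟨N, hN⟩
      haveI hsimple : IsSimpleModule C (M ⧸ N) := isSimpleModule_iff_isCoatom.mpr hN
      obtain ⟨I, hI, ⟨e⟩⟩ := isSimpleModule_iff_quot_maximal.mp hsimple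
      have hIm : I = IsLocalRing.maximalIdeal C := IsLocalRing.eq_maximalIdeal hI
      subst hIm
      let e' : (M ⧸ N) ≃ₗ[C] IsLocalRing.ResidueField C := e
      -- the invariant subspace
      let W : Submodule k M := N.restrictScalars k
      let f : M →ₗ[k] M := Algebra.lsmul k k M c
      have hW : W ≤ W.comap f := fun x hx => N.smul_mem c hx
      have hadd := trace_eq_add_of_invariant f W hW
      -- identify the sub part
      let eW : W ≃ₗ[k] N :=
        { toFun := fun x => ⟨x.1, x.2⟩
          invFun := fun x => ⟨x.1, x.2⟩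
          map_add' := fun _ _ => rfl
          map_smul' := fun _ _ => rfl
          left_inv := fun _ => rfl
          right_inv := fun _ => rfl }
      have hsub : LinearMap.trace k W (f.restrict hW) = trOn k C N c := by
        unfold trOn
        have h : eW.conj (f.restrict hW) = Algebra.lsmul k k N c := by
          ext x
          rfl
        rw [← h, LinearMap.trace_conj']
      let eQ : (M ⧸ W) ≃ₗ[k] (M ⧸ N) := Submodule.Quotient.restrictScalarsEquiv k N
      have hquot : LinearMap.trace k (M ⧸ W) (W.mapQ W f hW) = trOn k C (M ⧸ N) c := by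
        unfold trOn
        have h : eQ.conj (W.mapQ W f hW) = Algebra.lsmul k k (M ⧸ N) c := by
          ext x
          obtain ⟨m, rfl⟩ := Submodule.Quotient.mk_surjective N x
          rfl
        rw [← h, LinearMap.trace_conj']
      have hWlt : W < ⊤ := by
        rw [lt_top_iff_ne_top]
        intro h
        apply hN.1
        rw [eq_top_iff]
        intro x _
        have : x ∈ W := h ▸ Submodule.mem_top
        exact this
      haveI : Module.Finite k N := Module.Finite.equiv eW
      have hfr : Module.finrank k N < d := by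
        rw [← hd, ← eW.finrank_eq]
        exact Submodule.finrank_lt hWlt.ne
      have ihN := ih _ hfr N rfl c
      have hQ : trOn k C (M ⧸ N) c =
          Algebra.trace k (IsLocalRing.ResidueField C) (IsLocalRing.residue C c) := by
        rw [trOn_congr e' c, trOn_residueField]
      have hlen : Module.length C M = Module.length C N + 1 := by
        have h1 : Module.length C M = Module.length C N + Module.length C (M ⧸ N) :=
          Module.length_eq_add_of_exact N.subtype N.mkQ N.injective_subtype
            N.mkQ_surjective (LinearMap.exact_subtype_mkQ N)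
        rw [h1, Module.length_eq_one (R := C) (M := M ⧸ N)]
      haveI : IsNoetherian C N := isNoetherian_of_tower k inferInstance
      haveI : IsArtinian C N := isArtinian_of_tower k inferInstance
      have hne : Module.length C N ≠ ⊤ := Module.length_ne_top
      have htoNat : (Module.length C M).toNat = (Module.length C N).toNat + 1 := by
        rw [hlen, ENat.toNat_add hne (by simp)]
        rfl
      have hfinal : trOn k C M c = LinearMap.trace k M f := rfl
      rw [hfinal, hadd, hsub, hquot, ihN, hQ, htoNat]
      push_cast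
      ring
end

end H5TraceLocal

namespace H5TraceLocal

section
variable (k : Type u) [Field k] (C : Type u) [CommRing C] [Algebra k C] [IsLocalRing C]
  [Module.Finite k C]

theorem trace_eq_length_mul (c : C) :
    Algebra.trace k C c = ((Module.length C C).toNat : k) *
      Algebra.trace k (IsLocalRing.ResidueField C) (IsLocalRing.residue C c) := by
  rw [← trOn_eq (Module.finrank k C) C rfl c]
  unfold trOn
  rw [Algebra.trace_apply]
  congr 1

theorem trace_ne_zero_iff :
    Algebra.trace k C ≠ 0 ↔
      (Algebra.IsSeparable k (IsLocalRing.ResidueField C) ∧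
        ((Module.length C C).toNat : k) ≠ 0) := by
  have htfae := (traceForm_nondegenerate_tfae k (IsLocalRing.ResidueField C)).out 0 1
  constructor
  · intro h
    obtain ⟨c, hc⟩ : ∃ c, Algebra.trace k C c ≠ 0 := by
      by_contra hcon
      push Not at hcon
      exact h (LinearMap.ext hcon)
    rw [trace_eq_length_mul] at hc
    refine ⟨htfae.mpr ?_, left_ne_zero_of_mul hc⟩
    intro h0
    apply hc
    rw [h0, LinearMap.zero_apply, mul_zero]
  · rintro ⟨hsep, hL⟩ h0
    have h1 : Algebra.trace k (IsLocalRing.ResidueField C) ≠ 0 := htfae.mp hsep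
    obtain ⟨y, hy⟩ : ∃ y, Algebra.trace k (IsLocalRing.ResidueField C) y ≠ 0 := by
      by_contra hcon
      push Not at hcon
      exact h1 (LinearMap.ext hcon)
    obtain ⟨c, rfl⟩ := IsLocalRing.residue_surjective y
    have := trace_eq_length_mul k C c
    rw [h0, LinearMap.zero_apply] at this
    exact mul_ne_zero hL hy this.symm

theorem surjective_iff_ne_zero {V : Type*} [AddCommGroup V] [Module k V] (φ : V →ₗ[k] k) :
    Function.Surjective φ ↔ φ ≠ 0 := by
  constructor
  · intro h h0
    obtain ⟨v, hv⟩ := h 1
    rw [h0, LinearMap.zero_apply] at hv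
    exact zero_ne_one hv
  · intro h
    obtain ⟨v, hv⟩ : ∃ v, φ v ≠ 0 := by
      by_contra hcon
      push Not at hcon
      exact h (LinearMap.ext hcon)
    intro b
    refine ⟨(b / φ v) • v, ?_⟩
    rw [map_smul, smul_eq_mul, div_mul_cancel₀ _ hv]

include k in
theorem length_toNat_ne_zero : (Module.length C C).toNat ≠ 0 := by
  haveI : IsNoetherian C C := isNoetherian_of_tower k inferInstance
  haveI : IsArtinian C C := isArtinian_of_tower k inferInstance
  have hne : Module.length C C ≠ ⊤ := Module.length_ne_top
  have hpos : 0 < Module.length C C := Module.length_pos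
  intro h0
  rw [ENat.toNat_eq_zero] at h0
  rcases h0 with h0 | h0
  · exact hpos.ne' h0
  · exact hne h0

theorem natCast_ne_zero_iff (n : ℕ) (hn : n ≠ 0) :
    ((n : k) ≠ 0) ↔ ∀ p : ℕ, p.Prime → CharP k p → ¬ p ∣ n := by
  constructor
  · intro h p _ hp hdvd
    exact h ((CharP.cast_eq_zero_iff k p n).mpr hdvd)
  · intro h h0
    obtain ⟨p, hp⟩ := CharP.exists k
    rcases CharP.char_is_prime_or_zero k p with hprime | hzero
    · exact h p hprime hp ((CharP.cast_eq_zero_iff k p n).mp h0)
    · subst hzero
      haveI := CharP.charP_to_charZero k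
      exact hn (Nat.cast_eq_zero.mp h0)

end

end H5TraceLocal
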